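import Cfsg.Agent.Lib.Perm.Trans.PauliMax.Eigen

/-!
# Elements of order `p` inverted by an involution
-/

set_option autoImplicit false
set_option linter.all false

namespace CfsgLib.Perm.Trans.PauliMax

open scoped Matrix
open Matrix Cfsg.Geo CfsgLib.Perm.Asch

variable {n : ℕ} {F : Type*} [Field F] [Fintype F] {R : Subgroup (GL (Fin n) F)} {i : F}
  {H : Subgroup (GL (Fin n) F)} {u w : GL (Fin n) F}

/-- an element of order `p` inverted by `u` gives the special linear group -/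
theorem eq_SL_of_inverted_unip (hC : Ctx R i H) (hu : Invo R u) (hwH : w ∈ H) (hwp : w ^ Fintype.card F = 1)
    (hw1 : w ≠ 1) (hinv : u * w * u = w⁻¹) : H = specialLinear (Fin n) F := by
  classical
  haveI : Fact (Fintype.card F).Prime := ⟨hC.prime⟩
  haveI := hC.charP
  set p := Fintype.card F with hpdef
  haveI : Finite (Matrix (Fin n) (Fin n) F) := inferInstanceAs (Finite (Fin n → Fin n → F))
  haveI : Finite (GL (Fin n) F) := Finite.of_injective _ Units.val_injective
  haveI : Nonempty (Fin n) := by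
    by_contra hne
    rw [not_nonempty_iff] at hne
    exact hw1 (Units.ext (Matrix.ext fun a => (IsEmpty.false a).elim))
  haveI := CfsgLib.Perm.Asch.matrix_charP (ι := Fin n) (F := F) p
  set M := (w : Matrix (Fin n) (Fin n) F) - 1 with hM
  have hMp : M ^ p = 0 := by
    rw [hM, sub_pow_char_of_commute _ (Commute.one_right _), one_pow, ← Units.val_pow_eq_pow_val, hwp, Units.val_one,
      sub_self]
  set U := (u : Matrix (Fin n) (Fin n) F) with hU
  set Wi := ((w⁻¹ : GL (Fin n) F) : Matrix (Fin n) (Fin n) F) with hWi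
  have hcom : Commute M Wi := by
    show M * Wi = Wi * M
    rw [hM, sub_mul, mul_sub, one_mul, mul_one, hWi, Units.mul_inv, Units.inv_mul]
  have hUM : U * M = M * (-Wi) * U := by
    have h1 : U * (w : Matrix (Fin n) (Fin n) F) = Wi * U := by
      have : u * w = w⁻¹ * u := by rw [← hinv, mul_assoc, hu.mul_self, mul_one]
      rw [hU, hWi, ← Units.val_mul, ← Units.val_mul, this]
    rw [hM, mul_sub, h1, mul_one, sub_mul _ (1 : Matrix (Fin n) (Fin n) F) (-Wi), one_mul, mul_neg, hWi, Units.mul_inv,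
      sub_mul, neg_mul, neg_mul, one_mul]
    abel
  have hUpow : ∀ j : ℕ, U * M ^ j = M ^ j * (-Wi) ^ j * U := by
    intro j
    induction j with
    | zero => rw [pow_zero, mul_one, pow_zero, mul_one, one_mul]
    | succ j ih =>
      have hc : Commute M ((-Wi) ^ j) := hcom.neg_right.pow_right j
      calc U * M ^ (j + 1) = (U * M ^ j) * M := by rw [pow_succ, mul_assoc]
        _ = M ^ j * ((-Wi) ^ j * (U * M)) := by rw [ih, mul_assoc, mul_assoc]
        _ = M ^ j * (((-Wi) ^ j * M) * (-Wi) * U) := by rw [hUM, mul_assoc M, ← mul_assoc ((-Wi) ^ j) M, mul_assoc _ (-Wi) U]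
        _ = M ^ (j + 1) * (-Wi) ^ (j + 1) * U := by rw [← hc.eq, pow_succ, pow_succ]; simp only [mul_assoc]
  have hflag : ∀ (x y : F) (j : ℕ), ∃ Z, sp U x y * M ^ j = M ^ j * Z := fun x y j =>
    ⟨((x + y) / 2) • 1 + ((x - y) / 2) • ((-Wi) ^ j * U), by
      rw [sp, add_mul, smul_mul_assoc, smul_mul_assoc, one_mul, hUpow, mul_add, mul_smul_comm, mul_smul_comm, mul_one,
        mul_assoc]⟩
  -- the group lowering the flag
  let Sc : Set (GL (Fin n) F) :=
    {g | g ∈ H ∧ ∀ j, ∃ Y, ((g : Matrix (Fin n) (Fin n) F) - 1) * M ^ j = M ^ (j + 1) * Y}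
  have hone : (1 : GL (Fin n) F) ∈ Sc := ⟨one_mem H, fun j => ⟨0, by rw [Units.val_one, sub_self, zero_mul, mul_zero]⟩⟩
  have hmul : ∀ a b, a ∈ Sc → b ∈ Sc → a * b ∈ Sc := by
    rintro a b ⟨ha, ha'⟩ ⟨hb, hb'⟩
    refine ⟨mul_mem ha hb, fun j => ?_⟩
    obtain ⟨Y, hY⟩ := ha' j
    obtain ⟨Y', hY'⟩ := hb' j
    refine ⟨Y * (1 + M * Y') + Y', ?_⟩
    have hb2 : (b : Matrix (Fin n) (Fin n) F) * M ^ j = M ^ j * (1 + M * Y') := by
      rw [mul_add, mul_one, ← mul_assoc, ← pow_succ, ← hY', sub_mul, one_mul, add_sub_cancel]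
    rw [Units.val_mul, show (a : Matrix (Fin n) (Fin n) F) * b - 1 = ((a : Matrix (Fin n) (Fin n) F) - 1) * b + ((b : Matrix (Fin n) (Fin n) F) - 1) by
      rw [sub_mul, one_mul]; abel, add_mul, mul_assoc, hb2, ← mul_assoc, hY, hY', mul_add _ (Y * (1 + M * Y')) Y',
      mul_assoc]
  let P : Subgroup (GL (Fin n) F) :=
    { carrier := Sc
      one_mem' := hone
      mul_mem' := fun {a b} ha hb => hmul a b ha hb
      inv_mem' := fun {a} ha => by
        have hpow : ∀ k : ℕ, a ^ k ∈ Sc := fun k => by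
          induction k with
          | zero => rw [pow_zero]; exact hone
          | succ k ih => rw [pow_succ]; exact hmul _ _ ih ha
        rw [inv_eq_of_mul_eq_one_right (b := a ^ (orderOf a - 1)) (by
          rw [← pow_succ', Nat.sub_add_cancel (orderOf_pos a), pow_orderOf_eq_one])]
        exact hpow _ }
  have hPp : IsPGroup p P := by
    intro g
    refine ⟨1, Subtype.ext (Units.ext ?_)⟩
    rw [pow_one, SubgroupClass.coe_pow, Subgroup.coe_one, Units.val_pow_eq_pow_val, Units.val_one]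
    set Y := ((g : GL (Fin n) F) : Matrix (Fin n) (Fin n) F) - 1 with hY
    have hk : ∀ k, ∃ Z, Y ^ k = M ^ k * Z := by
      intro k
      induction k with
      | zero => exact ⟨1, by rw [pow_zero, pow_zero, one_mul]⟩
      | succ k ih =>
        obtain ⟨Z, hZ⟩ := ih
        obtain ⟨Z', hZ'⟩ := g.2.2 k
        exact ⟨Z' * Z, by rw [pow_succ', hZ, ← mul_assoc, hY, hZ', mul_assoc]⟩
    obtain ⟨Z, hZ⟩ := hk p
    rw [show ((g : GL (Fin n) F) : Matrix (Fin n) (Fin n) F) = 1 + Y by rw [hY]; abel,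
      add_pow_char_of_commute _ (Commute.one_left _), one_pow, hZ, hMp, zero_mul, add_zero]
  refine eq_SL_of_pGroup hC hu P (fun g hg => hg.1) hPp ?_ ⟨w, ⟨hwH, fun j => ⟨1, by rw [← hM, mul_one, ← pow_succ']⟩⟩, ?_⟩
  · rintro g ⟨hgH, hg⟩
    refine ⟨mul_mem (mul_mem (hC.gate_mem u hu) hgH) (inv_mem (hC.gate_mem u hu)), fun j => ?_⟩
    obtain ⟨Z', hZ'⟩ := hflag 1 (-i) j
    obtain ⟨Y, hY⟩ := hg j
    obtain ⟨Z, hZ⟩ := hflag 1 i (j + 1)
    refine ⟨Z * Y * Z', ?_⟩
    rw [Units.val_mul, Units.val_mul, hu.G_val, hu.G_inv_val, ← hU,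
      show sp U 1 i * (g : Matrix (Fin n) (Fin n) F) * sp U 1 (-i) - 1 =
        sp U 1 i * ((g : Matrix (Fin n) (Fin n) F) - 1) * sp U 1 (-i) by
        rw [mul_sub, sub_mul, mul_one, sp_mul hu.sq hC.pauli.two, one_mul, mul_neg, hC.pauli.ii, neg_neg,
          sp_one_one hC.pauli.two], mul_assoc, hZ', mul_assoc, ← mul_assoc _ (M ^ j), hY, mul_assoc (M ^ (j + 1)),
      ← mul_assoc _ (M ^ (j + 1)), hZ]
    simp only [mul_assoc]
  · intro h
    have hw2 : w * w = 1 := by
      rw [← h] at hinv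
      rw [mul_assoc, hu.mul_self, mul_one] at hinv
      nth_rw 2 [hinv]
      exact mul_inv_cancel w
    have hg := pow_gcd_eq_one.2 ⟨(pow_two w).trans hw2, hwp⟩
    have hp2 : p ≠ 2 := fun e => hC.pauli.two (by
      have := (CharP.cast_eq_zero_iff F (Fintype.card F) 2).2 (dvd_of_eq e)
      exact_mod_cast this)
    rw [(Nat.coprime_primes Nat.prime_two hC.prime).2 (Ne.symm hp2), pow_one] at hg
    exact hw1 hg

end CfsgLib.Perm.Trans.PauliMax
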