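import Cfsg.Agent.Lib.Perm.Trans.PauliMax.Pieces
import Cfsg.Agent.Lib.Perm.Trans.PauliMax.Unip
import Cfsg.Agent.Lib.Invol.BaerSuzuki
import Cfsg.Agent.Lib.Coprime.Core

/-!
# A group containing the Pauli group and its gates normalises it or is the special linear group
-/

set_option autoImplicit false
set_option linter.all false

namespace CfsgLib.Perm.Trans.PauliMax

open scoped Matrix
open Matrix Cfsg.Geo CfsgLib.Perm.Asch

theorem mem_normalizer_of_conj_mem {G : Type*} [Group G] {R : Subgroup G} [Finite R] {g : G}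
    (h : ∀ r ∈ R, g * r * g⁻¹ ∈ R) : g ∈ Subgroup.normalizer (R : Set G) := by
  refine Subgroup.mem_normalizer_iff.2 fun r => ⟨h r, fun hr => ?_⟩
  obtain ⟨r', hr'⟩ := Finite.surjective_of_injective
    (f := fun x : R => (⟨_, h x.1 x.2⟩ : R)) (fun a b hab => Subtype.ext (by simpa using hab)) ⟨_, hr⟩
  have := congrArg Subtype.val hr'
  simp only [mul_left_inj, mul_right_inj] at this
  exact this ▸ r'.2

/-- the group generated by two involutions with product of `2`-power order -/
theorem isPGroup_closure_pair {G : Type*} [Group G] {u v : G} (hu : u * u = 1) (hv : v * v = 1) {k : ℕ}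
    (h : (u * v) ^ 2 ^ k = 1) : IsPGroup 2 (Subgroup.closure ({u, v} : Set G)) := by
  set a := u * v with ha
  have hua : u * a * u = a⁻¹ := by
    rw [ha, _root_.mul_inv_rev, inv_eq_of_mul_eq_one_right hv, inv_eq_of_mul_eq_one_right hu,
      show u * (u * v) * u = (u * u) * (v * u) by group, hu, one_mul]
  have hz : ∀ z : ℤ, a ^ z * u = u * a ^ (-z) := fun z => by
    have h1 : u * a ^ z * u = a ^ (-z) := by
      have h2 : u * a ^ z * u⁻¹ = (u * a * u⁻¹) ^ z := conj_zpow.symm
      rw [inv_eq_of_mul_eq_one_right hu, hua, _root_.inv_zpow, ← _root_.zpow_neg] at h2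
      exact h2
    rw [← h1, ← mul_assoc, ← mul_assoc, hu, one_mul]
  let D : Subgroup G :=
    { carrier := {x | ∃ z : ℤ, x = a ^ z ∨ x = u * a ^ z}
      one_mem' := ⟨0, Or.inl (zpow_zero a).symm⟩
      mul_mem' := by
        rintro x y ⟨z, rfl | rfl⟩ ⟨z', rfl | rfl⟩
        · exact ⟨z + z', Or.inl (_root_.zpow_add a z z').symm⟩
        · exact ⟨-z + z', Or.inr (by rw [← mul_assoc, hz, mul_assoc, ← _root_.zpow_add])⟩
        · exact ⟨z + z', Or.inr (by rw [mul_assoc, ← _root_.zpow_add])⟩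
        · exact ⟨-z + z', Or.inl (by rw [mul_assoc, ← mul_assoc (a ^ z), hz, mul_assoc, ← _root_.zpow_add, ← mul_assoc, hu, one_mul])⟩
      inv_mem' := by
        rintro x ⟨z, rfl | rfl⟩
        · exact ⟨-z, Or.inl (_root_.zpow_neg a z).symm⟩
        · exact ⟨z, Or.inr (by rw [_root_.mul_inv_rev, inv_eq_of_mul_eq_one_right hu, ← _root_.zpow_neg, hz, neg_neg])⟩ }
  have hle : Subgroup.closure ({u, v} : Set G) ≤ D := by
    rw [Subgroup.closure_le]
    rintro x (rfl | rfl)
    · exact ⟨0, Or.inr (by rw [zpow_zero, mul_one])⟩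
    · exact ⟨1, Or.inr (by rw [zpow_one, ha, ← mul_assoc, hu, one_mul])⟩
  refine IsPGroup.to_le ?_ hle
  rintro ⟨x, z, rfl | rfl⟩
  · refine ⟨k, Subtype.ext ?_⟩
    show (a ^ z) ^ 2 ^ k = 1
    rw [← zpow_natCast, zpow_comm, zpow_natCast, h, _root_.one_zpow]
  · refine ⟨1, Subtype.ext ?_⟩
    show (u * a ^ z) ^ 2 ^ 1 = 1
    rw [pow_one, pow_two, mul_assoc, ← mul_assoc (a ^ z), hz, mul_assoc, ← _root_.zpow_add, neg_add_cancel, zpow_zero,
      mul_one, hu]

variable {n : ℕ} {F : Type*} [Field F] [Fintype F] {R : Subgroup (GL (Fin n) F)} {i : F}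
  {H : Subgroup (GL (Fin n) F)}

theorem Pauli.pow_four {ι : Type} [Fintype ι] [DecidableEq ι] {R : Subgroup (GL ι F)} (hP : Pauli R i) {r : GL ι F}
    (hr : r ∈ R) : r ^ 4 = 1 := by
  refine Units.ext ?_
  rw [Units.val_pow_eq_pow_val, Units.val_one, show (4 : ℕ) = 2 + 2 from rfl, pow_add, pow_two]
  rcases hP.square r hr with h | h <;> rw [h] <;> simp

/-- **Main dichotomy.** -/
theorem eq_SL_or_normalizes (hC : Ctx R i H) (hn : 0 < n) (hp4 : Fintype.card F % 4 = 1) :
    H = specialLinear (Fin n) F ∨ H ≤ Subgroup.normalizer (R : Set (GL (Fin n) F)) := by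
  classical
  by_cases hSL : H = specialLinear (Fin n) F
  · exact Or.inl hSL
  right
  haveI : Fact (Fintype.card F).Prime := ⟨hC.prime⟩
  haveI : Fact (Nat.Prime 2) := ⟨Nat.prime_two⟩
  haveI := hC.charP
  haveI : Nonempty (Fin n) := ⟨⟨0, hn⟩⟩
  haveI : Finite (Matrix (Fin n) (Fin n) F) := inferInstanceAs (Finite (Fin n → Fin n → F))
  haveI : Finite (GL (Fin n) F) := Finite.of_injective _ Units.val_injective
  have hP := hC.pauli
  set p := Fintype.card F with hpdef
  have hp5 : 5 ≤ p := by have := hC.prime.two_le; omega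
  -- no element of odd prime order is inverted by an involution of `R`
  have hno : ∀ u, Invo R u → ∀ w ∈ H, ∀ ℓ : ℕ, ℓ.Prime → ℓ ≠ 2 → w ^ ℓ = 1 → u * w * u = w⁻¹ → w = 1 := by
    intro u hu w hw ℓ hℓ hℓ2 hwℓ hinv
    by_contra hw1
    rcases eq_or_ne ℓ p with rfl | hℓp
    · exact hSL (eq_SL_of_inverted_unip hC hu hw hwℓ hw1 hinv)
    · exact hSL (eq_SL_of_inverted hC hp4 hu hℓ hℓ2 hℓp hw hwℓ hw1 hinv)
  -- the involutions lie in the two-core
  set Q : Subgroup (GL (Fin n) F) := (Cfsg.pCore 2 H).map H.subtype with hQ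
  have hQH : Q ≤ H := Subgroup.map_subtype_le _
  have hQ2 : IsPGroup 2 Q := (CfsgLib.Coprime.pCore_isPGroup 2).map _
  have hQn : ∀ h ∈ H, ∀ q ∈ Q, h * q * h⁻¹ ∈ Q := by
    rintro h hh _ ⟨q, hq, rfl⟩
    exact ⟨_, (CfsgLib.Coprime.pCore_normal' 2).conj_mem q hq ⟨h, hh⟩, rfl⟩
  have hinvo : ∀ u, Invo R u → u ∈ Q := by
    intro u hu
    obtain ⟨N, hN, hN2, huN⟩ := CfsgLib.Invol.exists_normal_pGroup_mem (p := 2) (x := (⟨u, hC.R_le hu.mem⟩ : H)) fun g => by
      set uH : H := ⟨u, hC.R_le hu.mem⟩ with huH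
      have huu : uH * uH = 1 := Subtype.ext hu.mul_self
      have hvv : (g * uH * g⁻¹) * (g * uH * g⁻¹) = 1 := by
        rw [show g * uH * g⁻¹ * (g * uH * g⁻¹) = g * (uH * uH) * g⁻¹ by group, huu, mul_one, mul_inv_cancel]
      set a := uH * (g * uH * g⁻¹) with ha
      have hinv : uH * a * uH = a⁻¹ := by
        rw [ha, _root_.mul_inv_rev, inv_eq_of_mul_eq_one_right hvv, inv_eq_of_mul_eq_one_right huu,
          show uH * (uH * (g * uH * g⁻¹)) * uH = (uH * uH) * ((g * uH * g⁻¹) * uH) by group, huu, one_mul]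
      have hodd : ∀ q : ℕ, q.Prime → q ∣ orderOf a → q = 2 := by
        intro q hq hqd
        by_contra hq2
        obtain ⟨e, he⟩ := hqd
        have he0 : e ≠ 0 := fun h0 => (orderOf_pos a).ne' (by rw [he, h0, mul_zero])
        have hw1 : a ^ e ≠ 1 := fun h1 => by
          have := Nat.le_of_dvd (Nat.pos_of_ne_zero he0) (orderOf_dvd_of_pow_eq_one h1)
          rw [he] at this
          have h3 := hq.two_le
          nlinarith [Nat.pos_of_ne_zero he0]
        refine hw1 (Subtype.ext (hno u hu _ (a ^ e).2 q hq hq2 ?_ ?_))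
        · rw [← SubgroupClass.coe_pow, ← pow_mul, mul_comm e, ← he, pow_orderOf_eq_one, Subgroup.coe_one]
        · have h4 : uH * a ^ e * uH = (a ^ e)⁻¹ := by
            have : uH * a ^ e * uH⁻¹ = (uH * a * uH⁻¹) ^ e := conj_pow.symm
            rwa [inv_eq_of_mul_eq_one_right huu, hinv, inv_pow] at this
          exact congrArg Subtype.val h4
      refine isPGroup_closure_pair huu hvv (k := (orderOf a).primeFactorsList.length) ?_
      rw [← Nat.eq_prime_pow_of_unique_prime_dvd (orderOf_pos a).ne' (fun {d} hd hd' => hodd d hd hd'), ← ha]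
      exact pow_orderOf_eq_one a
    haveI := hN
    exact ⟨_, CfsgLib.Coprime.le_pCore hN2 huN, rfl⟩
  have hscalQ : ∀ r ∈ R, (∃ c : F, (r : Matrix (Fin n) (Fin n) F) = c • 1) → r ∈ Q := by
    rintro r hr ⟨c, hc⟩
    have hcen : ∀ g : GL (Fin n) F, g * r = r * g := fun g => Units.ext (by
      rw [Units.val_mul, Units.val_mul, hc, mul_smul_comm, mul_one, smul_mul_assoc, one_mul])
    set rH : H := ⟨r, hC.R_le hr⟩ with hrH
    haveI : (Subgroup.zpowers rH).Normal := ⟨fun x hx g => by
      obtain ⟨z, rfl⟩ := Subgroup.mem_zpowers_iff.1 hx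
      have : Commute g rH := Subtype.ext (hcen g.1)
      rw [(this.zpow_right z).eq, mul_inv_cancel_right]
      exact Subgroup.zpow_mem_zpowers rH z⟩
    have h2 : IsPGroup 2 (Subgroup.zpowers rH) := by
      rintro ⟨x, hx⟩
      obtain ⟨z, rfl⟩ := Subgroup.mem_zpowers_iff.1 hx
      refine ⟨2, Subtype.ext ?_⟩
      show (rH ^ z) ^ 2 ^ 2 = 1
      rw [← zpow_natCast, zpow_comm, zpow_natCast, show rH ^ 2 ^ 2 = 1 from Subtype.ext (hP.pow_four hr), _root_.one_zpow]
    exact ⟨_, CfsgLib.Coprime.le_pCore h2 (Subgroup.mem_zpowers rH), rfl⟩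
  have hRQ : R ≤ Q := by
    intro r hr
    by_cases hs : ∃ c : F, (r : Matrix (Fin n) (Fin n) F) = c • 1
    · exact hscalQ r hr hs
    obtain ⟨v, c, hv, hc, hrv⟩ := hP.exists_invo hr hs
    have h1 : r * v ∈ Q := hscalQ _ (mul_mem hr hv.mem) ⟨c, by
      rw [Units.val_mul, hrv, smul_mul_assoc, hv.sq]⟩
    have h2 := mul_mem h1 (hinvo v hv)
    rwa [mul_assoc, hv.mul_self, mul_one] at h2
  -- gates of two anticommuting involutions
  have hanti : ∀ v v' (hv : Invo R v) (hv' : Invo R v'),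
      (v' : Matrix (Fin n) (Fin n) F) * v = -((v : Matrix (Fin n) (Fin n) F) * v') → hv'.G hP * (hv.G hP)⁻¹ ∉ Q := by
    intro v v' hv hv' hvv hQmem
    set V := (v : Matrix (Fin n) (Fin n) F) with hV
    set V' := (v' : Matrix (Fin n) (Fin n) F) with hV'
    have h2 := hP.two
    have hVV : V * V' = -(V' * V) := by rw [hvv, neg_neg]
    set x := (-i) • V' + i • V + V' * V with hx
    have hC1 : ((hv'.G hP * (hv.G hP)⁻¹ : GL (Fin n) F) : Matrix (Fin n) (Fin n) F) = (2 : F)⁻¹ • (1 + x) := by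
      rw [Units.val_mul, hv'.G_val, hv.G_inv_val, ← hV, ← hV', hx]
      simp only [sp, add_mul, mul_add, smul_mul_assoc, mul_smul_comm, one_mul, mul_one, smul_smul, smul_add]
      match_scalars <;> field_simp <;> first | ring1 | linear_combination (-(1 : F)) * hP.ii | linear_combination hP.ii | linear_combination (2 : F) * hP.ii | linear_combination (-(2 : F)) * hP.ii
    have a1 : V * (V' * V) = -V' := by rw [← mul_assoc, hVV, neg_mul, mul_assoc, hv.sq, mul_one]
    have a2 : V' * (V' * V) = V := by rw [← mul_assoc, hv'.sq, one_mul]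
    have a3 : (V' * V) * V = V' := by rw [mul_assoc, hv.sq, mul_one]
    have a4 : (V' * V) * V' = -V := by rw [mul_assoc, hVV, mul_neg, a2]
    have a5 : (V' * V) * (V' * V) = -1 := by rw [← mul_assoc, a4, neg_mul, hv.sq]
    have s1 : V * V = 1 := hv.sq
    have s2 : V' * V' = 1 := hv'.sq
    have hxx : x * x = (-3 : F) • 1 := by
      rw [hx]
      simp only [add_mul, mul_add, smul_mul_assoc, mul_smul_comm, s1, s2, a1, a2, a3, a4, a5, hVV, smul_neg, smul_add]
      match_scalars <;> first | ring1 | linear_combination (2 : F) * hP.ii | linear_combination (-(2 : F)) * hP.ii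
    set C := ((hv'.G hP * (hv.G hP)⁻¹ : GL (Fin n) F) : Matrix (Fin n) (Fin n) F) with hCdef
    have hCC : C * C = (2 : F)⁻¹ • (x - 1) := by
      rw [hC1, smul_mul_assoc, mul_smul_comm, add_mul, one_mul, mul_add, mul_one, hxx]
      match_scalars <;> field_simp <;> ring
    have hCCC : C * C * C = -1 := by
      rw [hCC, hC1, smul_mul_assoc, mul_smul_comm, sub_mul, one_mul, mul_add, mul_one, hxx]
      match_scalars <;> field_simp <;> ring
    obtain ⟨k, hk⟩ := hQ2 ⟨_, hQmem⟩
    have hk' : (hv'.G hP * (hv.G hP)⁻¹) ^ 2 ^ k = 1 := congrArg Subtype.val hk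
    have h6 : (hv'.G hP * (hv.G hP)⁻¹) ^ 6 = 1 := Units.ext (by
      rw [Units.val_pow_eq_pow_val, ← hCdef, show (6 : ℕ) = 3 + 3 from rfl, pow_add, pow_three', hCCC,
        Units.val_one, neg_mul, mul_neg, neg_neg, one_mul])
    have hg := pow_gcd_eq_one.2 ⟨h6, hk'⟩
    have hdvd : Nat.gcd 6 (2 ^ k) ∣ 2 := by
      rw [Nat.gcd_comm, show (6 : ℕ) = 2 * 3 from rfl,
        Nat.Coprime.gcd_mul (2 ^ k) (show Nat.Coprime 2 3 by norm_num),
        Nat.Coprime.pow_left k (show Nat.Coprime 2 3 by norm_num), mul_one]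
      exact Nat.gcd_dvd_right _ _
    obtain ⟨q, hq⟩ := hdvd
    have hsq : C * C = 1 := by
      have h := congrArg (fun z => z ^ q) hg
      simp only [← pow_mul, ← hq, one_pow] at h
      have h' := congrArg Units.val h
      rwa [Units.val_pow_eq_pow_val, Units.val_one, pow_two] at h'
    rw [hCC] at hsq
    have hx3 : x = (3 : F) • 1 := by
      have h := congrArg (fun X => (2 : F) • X) hsq
      simp only [smul_smul, mul_inv_cancel₀ h2, one_smul] at h
      rw [sub_eq_iff_eq_add] at h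
      rw [h]
      match_scalars
      norm_num
    rw [hx3, smul_mul_assoc, one_mul, smul_smul] at hxx
    have h12 : ((12 : ℕ) : F) = 0 := by
      have := congrFun (congrFun hxx ⟨0, hn⟩) ⟨0, hn⟩
      simp only [Matrix.smul_apply, Matrix.one_apply_eq, smul_eq_mul, mul_one] at this
      push_cast
      linear_combination this
    have hd := (CharP.cast_eq_zero_iff F p 12).1 h12
    have := Nat.le_of_dvd (by norm_num) hd
    interval_cases p <;> first | omega | norm_num at hd
  -- elements of the core normalising `R`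
  have hA : ∀ g ∈ Q, (∀ r ∈ R, g * r * g⁻¹ ∈ R) → ∀ v, Invo R v →
      ((g * v * g⁻¹ : GL (Fin n) F) : Matrix (Fin n) (Fin n) F) = (v : Matrix (Fin n) (Fin n) F) ∨
      ((g * v * g⁻¹ : GL (Fin n) F) : Matrix (Fin n) (Fin n) F) = -(v : Matrix (Fin n) (Fin n) F) := by
    intro g hg hgR v hv
    by_contra hcon
    push Not at hcon
    set v' := g * v * g⁻¹ with hv'def
    have hv' : Invo R v' := ⟨hgR v hv.mem, by
      rw [← Units.val_mul, hv'def, show g * v * g⁻¹ * (g * v * g⁻¹) = g * (v * v) * g⁻¹ by group, hv.mul_self, mul_one,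
        mul_inv_cancel, Units.val_one], fun ⟨c, hc⟩ => hv.nsc ⟨c, by
      rw [show v = g⁻¹ * v' * g by rw [hv'def]; group, Units.val_mul, Units.val_mul, hc, mul_smul_comm, mul_one,
        smul_mul_assoc, Units.inv_mul]⟩⟩
    have hG' : hv'.G hP = g * hv.G hP * g⁻¹ := Units.ext (by
      rw [Units.val_mul, Units.val_mul, hv'.G_val, hv.G_val, hv'def, Units.val_mul, Units.val_mul]
      simp only [sp, mul_add, add_mul, mul_smul_comm, smul_mul_assoc, mul_one, Units.mul_inv, mul_assoc])
    have hc : hv'.G hP * (hv.G hP)⁻¹ ∈ Q := by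
      rw [hG', show g * hv.G hP * g⁻¹ * (hv.G hP)⁻¹ = g * (hv.G hP * g⁻¹ * (hv.G hP)⁻¹) by group]
      exact mul_mem hg (hQn _ (hC.gate_mem v hv) _ (inv_mem hg))
    rcases hP.sign v' hv'.mem v hv.mem with hcm | hcm
    · -- an involution anticommuting with `v` and commuting with `v'`
      obtain ⟨s, hs, hsv, hsv'⟩ : ∃ s ∈ R, (s : Matrix (Fin n) (Fin n) F) * v = -((v : Matrix (Fin n) (Fin n) F) * s) ∧
          (s : Matrix (Fin n) (Fin n) F) * v' = (v' : Matrix (Fin n) (Fin n) F) * s := by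
        by_contra hno'
        push Not at hno'
        obtain ⟨t, ht, htv'⟩ := hP.exists_anti hv'.mem hv'.nsc
        have hcv : ∀ s ∈ R, (s : Matrix (Fin n) (Fin n) F) * v' = (v' : Matrix (Fin n) (Fin n) F) * s →
            (s : Matrix (Fin n) (Fin n) F) * v = (v : Matrix (Fin n) (Fin n) F) * s := fun s hs h =>
          (hP.sign s hs v hv.mem).resolve_right fun h' => hno' s hs h' h
        have hmul : ∀ s ∈ R, (s : Matrix (Fin n) (Fin n) F) * v' = -((v' : Matrix (Fin n) (Fin n) F) * s) →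
            ((s * t : GL (Fin n) F) : Matrix (Fin n) (Fin n) F) * v = (v : Matrix (Fin n) (Fin n) F) * (s * t : GL (Fin n) F) :=
          fun s hs h => hcv (s * t) (mul_mem hs ht) (by
            rw [Units.val_mul, mul_assoc, show (t : Matrix (Fin n) (Fin n) F) * v' = -((v' : Matrix (Fin n) (Fin n) F) * t) by
              rw [htv', neg_neg], mul_neg, ← mul_assoc, h, neg_mul, neg_neg, mul_assoc])
        rcases hP.sign t ht v hv.mem with htv | htv
        · refine hv.nsc (hP.scalar_of_commute fun s hs => ?_)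
          rcases hP.sign s hs v' hv'.mem with h | h
          · exact (hcv s hs h).symm
          · have h1 := hmul s hs h
            rw [Units.val_mul, mul_assoc, htv, ← mul_assoc, ← mul_assoc] at h1
            exact ((Units.mul_left_inj t).1 h1).symm
        · obtain ⟨c, hc'⟩ := hP.scalar_of_commute (X := ((v * v' : GL (Fin n) F) : Matrix (Fin n) (Fin n) F)) fun s hs => by
            rw [Units.val_mul, mul_assoc]
            rcases hP.sign s hs v' hv'.mem with h | h
            · rw [← h, ← mul_assoc, ← hcv s hs h, mul_assoc]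
            · have h1 := hmul s hs h
              rw [Units.val_mul, mul_assoc, htv, mul_neg, ← mul_assoc, ← mul_assoc, ← neg_mul] at h1
              have h2 := (Units.mul_left_inj t).1 h1
              rw [show (v' : Matrix (Fin n) (Fin n) F) * s = -((s : Matrix (Fin n) (Fin n) F) * v') by rw [h, neg_neg],
                mul_neg, ← mul_assoc, ← h2, neg_mul, neg_neg, mul_assoc]
          have hvv' : (v' : Matrix (Fin n) (Fin n) F) = c • (v : Matrix (Fin n) (Fin n) F) := by
            have h3 := congrArg (fun X => (v : Matrix (Fin n) (Fin n) F) * X) hc'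
            simp only [Units.val_mul, ← mul_assoc, hv.sq, one_mul, mul_smul_comm, mul_one] at h3
            exact h3
          have hcc : c * c = 1 := by
            have h4 := hv'.sq
            rw [hvv', smul_mul_assoc, mul_smul_comm, smul_smul, hv.sq] at h4
            simpa using congrFun (congrFun h4 ⟨0, hn⟩) ⟨0, hn⟩
          rcases mul_self_eq_one_iff.1 hcc with h | h
          · exact hcon.1 (by rw [hvv', h, one_smul])
          · exact hcon.2 (by rw [hvv', h, neg_one_smul])
      have hsns : ¬ ∃ c : F, (s : Matrix (Fin n) (Fin n) F) = c • 1 := by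
        rintro ⟨c, hc'⟩
        rw [hc', smul_mul_assoc, one_mul, mul_smul_comm, mul_one] at hsv
        have h5 : ((2 : F) * c) • (v : Matrix (Fin n) (Fin n) F) = 0 := by
          rw [two_mul, add_smul]; nth_rw 1 [hsv]; rw [neg_add_cancel]
        rcases smul_eq_zero.1 h5 with h | h
        · exact s.ne_zero (by rw [hc', (mul_eq_zero.1 h).resolve_left hP.two, zero_smul])
        · exact v.ne_zero h
      obtain ⟨σ, c, hσ, hc0, hsσ⟩ := hP.exists_invo hs hsns
      rw [hsσ, smul_mul_assoc, mul_smul_comm, ← smul_neg] at hsv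
      rw [hsσ, smul_mul_assoc, mul_smul_comm] at hsv'
      have hσv := smul_right_injective _ hc0 hsv
      have hσv' := smul_right_injective _ hc0 hsv'
      set Gs := hσ.G hP with hGs
      set v'' := Gs * v * Gs⁻¹ with hv''def
      have hvσ : (v : Matrix (Fin n) (Fin n) F) * σ = -((σ : Matrix (Fin n) (Fin n) F) * v) := by rw [hσv, neg_neg]
      have hv''val : (v'' : Matrix (Fin n) (Fin n) F) = (-i) • ((σ : Matrix (Fin n) (Fin n) F) * v) :=
        hσ.G_anti hP hvσ
      have hv'' : Invo R v'' := ⟨hσ.G_conj_mem hP hv.mem, by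
        rw [← Units.val_mul, hv''def, show Gs * v * Gs⁻¹ * (Gs * v * Gs⁻¹) = Gs * (v * v) * Gs⁻¹ by group, hv.mul_self,
          mul_one, mul_inv_cancel, Units.val_one], fun ⟨d, hd⟩ => hv.nsc ⟨d, by
        rw [show v = Gs⁻¹ * v'' * Gs by rw [hv''def]; group, Units.val_mul, Units.val_mul, hd, mul_smul_comm, mul_one,
          smul_mul_assoc, Units.inv_mul]⟩⟩
      have hGsv' : Gs * hv'.G hP * Gs⁻¹ = hv'.G hP := by
        rw [mul_inv_eq_iff_eq_mul]
        refine Units.ext ?_
        rw [Units.val_mul, Units.val_mul, hv'.G_val, hGs, hσ.G_val]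
        exact sp_comm (sp_comm hσv'.symm 1 i).symm 1 i
      have hG'' : hv''.G hP = Gs * hv.G hP * Gs⁻¹ := Units.ext (by
        rw [Units.val_mul, Units.val_mul, hv''.G_val, hv.G_val, hv''def, Units.val_mul, Units.val_mul]
        simp only [sp, mul_add, add_mul, mul_smul_comm, smul_mul_assoc, mul_one, Units.mul_inv, mul_assoc])
      have hGsH : Gs ∈ H := hC.gate_mem σ hσ
      have h6 : hv''.G hP * (hv.G hP)⁻¹ ∈ Q := by
        -- the commutator with the gate of the new involution
        have h7 : Gs * (hv'.G hP * (hv.G hP)⁻¹) * Gs⁻¹ * (hv'.G hP * (hv.G hP)⁻¹)⁻¹ ∈ Q :=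
          mul_mem (hQn _ hGsH _ hc) (inv_mem hc)
        rw [show Gs * (hv'.G hP * (hv.G hP)⁻¹) * Gs⁻¹ * (hv'.G hP * (hv.G hP)⁻¹)⁻¹ =
          (Gs * hv'.G hP * Gs⁻¹) * ((Gs * hv.G hP * Gs⁻¹)⁻¹ * hv.G hP) * (hv'.G hP)⁻¹ by group, hGsv', ← hG''] at h7
        have h8 : (hv''.G hP)⁻¹ * hv.G hP ∈ Q := by
          have := hQn _ (inv_mem (hC.gate_mem v' hv')) _ h7
          rw [show (hv'.G hP)⁻¹ * (hv'.G hP * ((hv''.G hP)⁻¹ * hv.G hP) * (hv'.G hP)⁻¹) * ((hv'.G hP)⁻¹)⁻¹ =
            (hv''.G hP)⁻¹ * hv.G hP by group] at this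
          exact this
        have := hQn _ (hC.gate_mem v'' hv'') _ (inv_mem h8)
        rwa [show hv''.G hP * ((hv''.G hP)⁻¹ * hv.G hP)⁻¹ * (hv''.G hP)⁻¹ = hv''.G hP * (hv.G hP)⁻¹ by group] at this
      refine hanti v v'' hv hv'' ?_ h6
      rw [hv''val, smul_mul_assoc, mul_smul_comm, ← smul_neg, ← mul_assoc (v : Matrix (Fin n) (Fin n) F), hvσ, neg_mul,
        neg_neg]
    · exact hanti v v' hv hv' hcm hc
  -- such elements lie in `R` up to scalars
  have hB : ∀ g ∈ Q, (∀ r ∈ R, g * r * g⁻¹ ∈ R) → g ∈ R ⊔ scalars (Fin n) F := by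
    intro g hg hgR
    set Gm := (g : Matrix (Fin n) (Fin n) F) with hGm
    have hpm : ∀ r ∈ R, Gm * r = (r : Matrix (Fin n) (Fin n) F) * Gm ∨ Gm * r = -((r : Matrix (Fin n) (Fin n) F) * Gm) := by
      intro r hr
      by_cases hs : ∃ c : F, (r : Matrix (Fin n) (Fin n) F) = c • 1
      · obtain ⟨c, hc⟩ := hs
        left
        rw [hc, mul_smul_comm, mul_one, smul_mul_assoc, one_mul]
      obtain ⟨v, c, hv, hc, hrv⟩ := hP.exists_invo hr hs
      have key : ∀ X : Matrix (Fin n) (Fin n) F, ((g * v * g⁻¹ : GL (Fin n) F) : Matrix (Fin n) (Fin n) F) = X →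
          Gm * v = X * Gm := fun X hX => by
        rw [← hX, Units.val_mul, Units.val_mul, ← hGm, mul_assoc (Gm * _), hGm, Units.inv_mul, mul_one]
      rcases hA g hg hgR v hv with h | h
      · left
        rw [hrv, mul_smul_comm, key _ h, smul_mul_assoc]
      · right
        rw [hrv, mul_smul_comm, key _ h, neg_mul, smul_mul_assoc, smul_neg]
    obtain ⟨r0, hr0, htr⟩ : ∃ r0 ∈ R, (Gm * (r0 : Matrix (Fin n) (Fin n) F)).trace ≠ 0 := by
      by_contra hcon
      push Not at hcon
      have hall : ∀ X : Matrix (Fin n) (Fin n) F, (Gm * X).trace = 0 := by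
        intro X
        have hX : X ∈ Submodule.span F (matrixSet R) := hP.span.symm ▸ Submodule.mem_top
        induction hX using Submodule.span_induction with
        | mem y hy => obtain ⟨r, hr, rfl⟩ := hy; exact hcon r hr
        | zero => simp
        | add y z _ _ hy hz => rw [mul_add, Matrix.trace_add, hy, hz, add_zero]
        | smul c y _ hy => rw [mul_smul_comm, Matrix.trace_smul, hy, smul_zero]
      refine g.ne_zero (Matrix.ext fun a b => ?_)
      have := hall (Matrix.single b a 1)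
      rw [Matrix.trace_mul_single, op_smul_eq_smul, one_smul] at this
      exact this
    set Y := Gm * (r0 : Matrix (Fin n) (Fin n) F) with hY
    obtain ⟨c, hcY⟩ := hP.scalar_of_commute (X := Y) fun r hr => by
      obtain ⟨ε, hε, hYr⟩ : ∃ ε : F, (ε = 1 ∨ ε = -1) ∧ Y * r = ε • ((r : Matrix (Fin n) (Fin n) F) * Y) := by
        rcases hpm r hr with h1 | h1 <;> rcases hP.sign r0 hr0 r hr with h2 | h2
        · exact ⟨1, Or.inl rfl, by rw [hY, mul_assoc, h2, ← mul_assoc, h1, mul_assoc, one_smul]⟩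
        · exact ⟨-1, Or.inr rfl, by rw [hY, mul_assoc, h2, mul_neg, ← mul_assoc, h1, mul_assoc, neg_one_smul]⟩
        · exact ⟨-1, Or.inr rfl, by rw [hY, mul_assoc, h2, ← mul_assoc, h1, neg_mul, mul_assoc, neg_one_smul]⟩
        · exact ⟨1, Or.inl rfl, by rw [hY, mul_assoc, h2, mul_neg, ← mul_assoc, h1, neg_mul, neg_neg, mul_assoc, one_smul]⟩
      rcases hε with rfl | rfl
      · rw [hYr, one_smul]
      · exfalso
        have h3 : Y.trace = -Y.trace := by
          have h4 : Y * (r : Matrix (Fin n) (Fin n) F) * ((r⁻¹ : GL (Fin n) F) : Matrix (Fin n) (Fin n) F) = Y := by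
            rw [mul_assoc, Units.mul_inv, mul_one]
          conv_lhs => rw [← h4, hYr, smul_mul_assoc, Matrix.trace_smul, Matrix.trace_mul_comm, ← mul_assoc,
            Units.inv_mul, one_mul, neg_one_smul]
        rw [eq_neg_iff_add_eq_zero, ← two_mul] at h3
        exact htr ((mul_eq_zero.1 h3).resolve_left hP.two)
    have hc0 : c ≠ 0 := fun h => (g * r0).ne_zero (by rw [Units.val_mul, ← hGm, ← hY, hcY, h, zero_smul])
    have hg' : g = sch (Fin n) F (Units.mk0 c hc0) * r0⁻¹ := by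
      rw [eq_mul_inv_iff_mul_eq]
      exact Units.ext (by rw [Units.val_mul, sch_coe, ← hGm, ← hY, hcY, Units.val_mk0])
    rw [hg']
    exact mul_mem (Subgroup.mem_sup_right (sch_mem _)) (Subgroup.mem_sup_left (inv_mem hr0))
  -- a conjugate of `R` inside `R` up to scalars lies in `R`
  have hpow : ∀ r ∈ R, ∀ g : GL (Fin n) F, g * r * g⁻¹ ∈ R ⊔ scalars (Fin n) F → g * r * g⁻¹ ∈ R := by
    intro r hr g hmem
    obtain ⟨r1, hr1, z, hz, he⟩ := Subgroup.mem_sup_of_normal_right.1 hmem
    obtain ⟨d, rfl⟩ := mem_scalars_sch.1 hz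
    have h4 : (g * r * g⁻¹) ^ 4 = 1 := by rw [conj_pow, hP.pow_four hr, mul_one, mul_inv_cancel]
    rw [← he, (show Commute r1 (sch (Fin n) F d) from (sch_central d r1).symm).mul_pow, hP.pow_four hr1, one_mul,
      ← map_pow, ← map_one (sch (Fin n) F)] at h4
    rw [← he]
    exact mul_mem hr1 (hP.scal d (sch_injective h4))
  -- the core is inside `R` times scalars
  have hQR : Q ≤ R ⊔ scalars (Fin n) F := by
    by_contra hnle
    set T : Subgroup (GL (Fin n) F) := (R ⊔ scalars (Fin n) F) ⊓ Q with hT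
    haveI := hQ2.isNilpotent
    have hlt : T.subgroupOf Q < ⊤ := lt_top_iff_ne_top.2 fun e => hnle fun q hq =>
      ((Subgroup.subgroupOf_eq_top.1 e) hq).1
    obtain ⟨y, hy, hy'⟩ := SetLike.exists_of_lt (normalizerCondition_of_isNilpotent (G := Q) _ hlt)
    refine hy' (Subgroup.mem_subgroupOf.2 ⟨hB y.1 y.2 fun r hr => hpow r hr y.1 ?_, y.2⟩)
    have h9 := (Subgroup.mem_normalizer_iff.1 hy ⟨r, hRQ hr⟩).1
      (Subgroup.mem_subgroupOf.2 ⟨Subgroup.mem_sup_left hr, hRQ hr⟩)
    exact (Subgroup.mem_subgroupOf.1 h9).1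
  intro h hh
  exact mem_normalizer_of_conj_mem fun r hr => hpow r hr h (hQR (hQn h hh r (hRQ hr)))

end CfsgLib.Perm.Trans.PauliMax
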