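import Cfsg.Agent.Lib.Perm.Trans.PauliMax.Root
import Mathlib.GroupTheory.Abelianization.Defs
import Mathlib.GroupTheory.Nilpotent
import Mathlib.GroupTheory.PGroup

/-!
# A `p`-group moved by an involution and normalised by its gate gives the special linear group
-/

set_option autoImplicit false
set_option linter.all false

namespace CfsgLib.Perm.Trans.PauliMax

open scoped Matrix
open Matrix Cfsg.Geo CfsgLib.Perm.Asch

variable {n : ℕ} {F : Type*} [Field F] [Fintype F] {R : Subgroup (GL (Fin n) F)} {i : F}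
  {H : Subgroup (GL (Fin n) F)} {u : GL (Fin n) F}

theorem Ctx.charP (hC : Ctx R i H) : CharP F (Fintype.card F) := by
  haveI : Fact (Fintype.card F).Prime := ⟨hC.prime⟩
  exact charP_of_card_eq_prime rfl

theorem Ctx.exists_sqrt (hC : Ctx R i H) : ∃ a : ℕ, (a : F) = i ∧ Fintype.card F ∣ a * a + 1 := by
  obtain ⟨a, ha⟩ := hC.natCast_surj i
  haveI := hC.charP
  refine ⟨a, ha.symm, (CharP.cast_eq_zero_iff F (Fintype.card F) _).1 ?_⟩
  push_cast
  rw [← ha, hC.pauli.ii, neg_add_cancel]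

/-- an element of order `p` inverted by `u` and multiplied by a square root of `-1` by the gate -/
theorem eq_SL_of_eigen (hC : Ctx R i H) (hu : Invo R u) {h : GL (Fin n) F} (hh : h ∈ H) (h1 : h ≠ 1)
    (hp : h ^ Fintype.card F = 1) (hinv : u * h * u = h⁻¹) {b : ℕ} (hb : Fintype.card F ∣ b * b + 1)
    (hG : hu.G hC.pauli * h * (hu.G hC.pauli)⁻¹ = h ^ b) : H = specialLinear (Fin n) F := by
  haveI : Fact (Fintype.card F).Prime := ⟨hC.prime⟩
  haveI := hC.charP
  set p := Fintype.card F with hpdef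
  have hP := hC.pauli
  have h2 := hP.two
  set U := (u : Matrix (Fin n) (Fin n) F) with hU
  have hUU : U * U = 1 := hu.sq
  set Hm := (h : Matrix (Fin n) (Fin n) F) with hHm
  have hbF : (b : F) * b = -1 := by
    have := (CharP.cast_eq_zero_iff F p _).2 hb
    push_cast at this
    linear_combination this
  have hb1 : 1 ≤ b := by
    rcases Nat.eq_zero_or_pos b with rfl | h'
    · rw [Nat.cast_zero, mul_zero] at hbF
      exact absurd (neg_eq_zero.1 hbF.symm) one_ne_zero
    · exact h'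
  -- conjugation by the gate
  set G := hu.G hP with hGdef
  have hGval : (G : Matrix (Fin n) (Fin n) F) = sp U 1 i := rfl
  have hGinv : ((G⁻¹ : GL (Fin n) F) : Matrix (Fin n) (Fin n) F) = sp U 1 (-i) := rfl
  have hav : ∀ X : Matrix (Fin n) (Fin n) F,
      (G : Matrix (Fin n) (Fin n) F) * (X + U * X * U) * ((G⁻¹ : GL (Fin n) F) : Matrix (Fin n) (Fin n) F) =
        X + U * X * U := fun X => by
    rw [hGval, ← sp_comm (X := X + U * X * U) (by rw [add_mul, mul_add, mul_assoc (U * X), hUU, mul_one, mul_assoc U X U,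
      ← mul_assoc U U, hUU, one_mul, add_comm]), mul_assoc, hGinv, sp_mul hUU h2, one_mul, mul_neg, hP.ii, neg_neg,
      sp_one_one h2, mul_one]
  have hE : ((h ^ b : GL (Fin n) F) : Matrix (Fin n) (Fin n) F) + (((h ^ b)⁻¹ : GL (Fin n) F) : Matrix (Fin n) (Fin n) F) =
      Hm + ((h⁻¹ : GL (Fin n) F) : Matrix (Fin n) (Fin n) F) := by
    have h3 := hav Hm
    have hUh : U * Hm * U = ((h⁻¹ : GL (Fin n) F) : Matrix (Fin n) (Fin n) F) := by
      rw [← hinv, Units.val_mul, Units.val_mul]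
    rw [mul_add, add_mul, hUh] at h3
    rw [show (G : Matrix (Fin n) (Fin n) F) * Hm * ((G⁻¹ : GL (Fin n) F) : Matrix (Fin n) (Fin n) F) =
      ((h ^ b : GL (Fin n) F) : Matrix (Fin n) (Fin n) F) by rw [← hG, Units.val_mul, Units.val_mul]] at h3
    rw [show (G : Matrix (Fin n) (Fin n) F) * ((h⁻¹ : GL (Fin n) F) : Matrix (Fin n) (Fin n) F) *
      ((G⁻¹ : GL (Fin n) F) : Matrix (Fin n) (Fin n) F) = (((h ^ b)⁻¹ : GL (Fin n) F) : Matrix (Fin n) (Fin n) F) by
        rw [← Units.val_mul, ← Units.val_mul, ← hG, conj_inv]] at h3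
    exact h3
  have hAB : (Hm ^ (b + 1) - 1) * (Hm ^ (b - 1) - 1) = 0 := by
    have h4 := congrArg (· * ((h ^ b : GL (Fin n) F) : Matrix (Fin n) (Fin n) F)) hE
    simp only [add_mul, Units.inv_mul] at h4
    rw [Units.val_pow_eq_pow_val, ← hHm, ← pow_add, ← pow_succ',
      show ((h⁻¹ : GL (Fin n) F) : Matrix (Fin n) (Fin n) F) * Hm ^ b = Hm ^ (b - 1) by
        conv_lhs => rw [show b = 1 + (b - 1) by omega, pow_add, pow_one, ← mul_assoc, hHm, Units.inv_mul, one_mul]
      ] at h4
    rw [sub_mul, mul_sub, mul_one, one_mul, ← pow_add, show b + 1 + (b - 1) = b + b by omega]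
    have h5 : Hm ^ (b + b) + 1 - (Hm ^ (b + 1) + Hm ^ (b - 1)) = 0 := sub_eq_zero.2 h4
    rw [← h5]
    abel
  have hfac : ∀ k : ℕ, (k : F) ≠ 0 → ∃ S, S * (Hm ^ k - 1) = Hm - 1 ∧ (Hm ^ k - 1) * S = Hm - 1 := by
    intro k hk
    obtain ⟨l, hl⟩ := hC.natCast_surj (k : F)⁻¹
    have hkl : Hm ^ (k * l) = Hm := by
      have h6 : (k * l : ℕ) % p = 1 % p := by
        refine (CharP.natCast_eq_natCast F p).1 ?_
        push_cast
        rw [← hl, mul_inv_cancel₀ hk]
      have h7 : h ^ (k * l) = h := by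
        rw [pow_eq_pow_mod (k * l) hp, h6, ← pow_eq_pow_mod 1 hp, pow_one]
      rw [hHm, ← Units.val_pow_eq_pow_val, h7]
    refine ⟨∑ j ∈ Finset.range l, (Hm ^ k) ^ j, ?_, ?_⟩
    · rw [geom_sum_mul, ← pow_mul, hkl]
    · rw [mul_geom_sum, ← pow_mul, hkl]
  have hne : ∀ c : F, c * c = 1 → (b : F) + c ≠ 0 := fun c hc h0 => by
    refine h2 ?_
    linear_combination -(((b : F) - c) * h0) + hbF - hc
  obtain ⟨S, hS, -⟩ := hfac (b + 1) (by push_cast; exact hne 1 (mul_one 1))
  obtain ⟨S', -, hS'⟩ := hfac (b - 1) (by rw [Nat.cast_sub hb1, Nat.cast_one, sub_eq_add_neg]; exact hne (-1) (by ring))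
  set M := Hm - 1 with hM
  have hMM : M * M = 0 := by
    calc M * M = (S * (Hm ^ (b + 1) - 1)) * ((Hm ^ (b - 1) - 1) * S') := by rw [hS, hS']
      _ = S * ((Hm ^ (b + 1) - 1) * (Hm ^ (b - 1) - 1)) * S' := by simp only [mul_assoc]
      _ = 0 := by rw [hAB, mul_zero, zero_mul]
  have hM0 : M ≠ 0 := fun e => h1 (Units.ext (by rw [Units.val_one]; exact sub_eq_zero.1 e))
  have hhM : Hm = 1 + M := by rw [hM]; abel
  have hpow : ∀ k : ℕ, Hm ^ k = 1 + (k : F) • M := by
    intro k
    induction k with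
    | zero => rw [pow_zero, Nat.cast_zero, zero_smul, add_zero]
    | succ k ih =>
      rw [pow_succ, ih, hhM, mul_add, mul_one, add_mul, one_mul, smul_mul_assoc, hMM, smul_zero, add_zero,
        Nat.cast_succ, add_smul, one_smul]
      abel
  have hhinv : ((h⁻¹ : GL (Fin n) F) : Matrix (Fin n) (Fin n) F) = 1 - M := by
    refine Units.inv_eq_of_mul_eq_one_right ?_
    rw [← hHm, hhM, add_mul, one_mul, mul_sub, mul_one, hMM, sub_zero, sub_add_cancel]
  have hUM : U * M * U = -M := by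
    rw [hM, mul_sub, sub_mul, mul_one, hUU, show U * Hm * U = ((h⁻¹ : GL (Fin n) F) : Matrix (Fin n) (Fin n) F) by
      rw [← hinv, Units.val_mul, Units.val_mul], hhinv, hM]
    abel
  have hMU : M * U = -(U * M) := by
    have := congrArg (U * ·) hUM
    simp only [← mul_assoc, hUU, one_mul, mul_neg] at this
    exact this
  have hGM : ((-i) • U) * M = (b : F) • M := by
    have e1 : (G : Matrix (Fin n) (Fin n) F) * M * ((G⁻¹ : GL (Fin n) F) : Matrix (Fin n) (Fin n) F) = (b : F) • M := by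
      rw [hM, mul_sub, sub_mul, mul_one, Units.mul_inv,
        show (G : Matrix (Fin n) (Fin n) F) * Hm * ((G⁻¹ : GL (Fin n) F) : Matrix (Fin n) (Fin n) F) =
          Hm ^ b by rw [← Units.val_mul, ← Units.val_mul, hG, Units.val_pow_eq_pow_val], hpow, add_sub_cancel_left]
    rw [hGval, hGinv, mul_assoc, sp_anti hMU, ← mul_assoc, sp_mul hUU h2, one_mul, mul_one] at e1
    rwa [show sp U (-i) i = (-i) • U by
      conv_rhs => rw [← sp_one_neg_one (U := U) h2, sp_smul, mul_one, mul_neg_one, neg_neg]] at e1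
  have hUMc : U * M = (i * b) • M := by
    have := congrArg (i • ·) hGM
    simp only [smul_mul_assoc, smul_smul] at this
    rwa [mul_neg, hP.ii, neg_neg, one_smul] at this
  have hc : (i * b) * (i * b) = 1 := by linear_combination ((b : F) * b) * hP.ii - hbF
  rcases mul_self_eq_one_iff.1 hc with hc | hc
  · rw [hc, one_smul] at hUMc
    exact eq_SL_of_root hC hu hh (B := M) hhM hM0 hUMc (by rw [hMU, hUMc])
  · rw [hc, neg_one_smul] at hUMc
    haveI : Nonempty (Fin n) := by
      by_contra hne'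
      rw [not_nonempty_iff] at hne'
      exact hM0 (Matrix.ext fun a => (IsEmpty.false a).elim)
    obtain ⟨s, hs, hus⟩ := hu.exists_anti hP
    rw [← hU] at hus
    refine eq_SL_of_root hC hu (x := s * h * s⁻¹)
      (mul_mem (mul_mem (hC.R_le hs.mem) hh) (inv_mem (hC.R_le hs.mem)))
      (B := (s : Matrix (Fin n) (Fin n) F) * M * s) ?_ ?_ ?_ ?_
    · rw [hs.inv_eq, Units.val_mul, Units.val_mul, ← hHm, hhM, mul_add, mul_one, add_mul, hs.sq]
    · intro e
      apply hM0
      have h8 := congrArg (fun X => (s : Matrix (Fin n) (Fin n) F) * X * s) e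
      simp only [mul_zero, zero_mul, mul_assoc, hs.sq, mul_one] at h8
      rwa [← mul_assoc, hs.sq, one_mul] at h8
    · rw [← hU, ← mul_assoc, ← mul_assoc, hus, neg_mul, mul_assoc _ U M, hUMc, mul_neg, neg_neg]
    · rw [← hU, mul_assoc, show (s : Matrix (Fin n) (Fin n) F) * U = -(U * s) by rw [hus, neg_neg], mul_neg,
        ← mul_assoc, mul_assoc (s : Matrix (Fin n) (Fin n) F) M U, hMU, hUMc, neg_neg]

/-- a `p`-group normalised by the gate of `u` and not centralised by `u` -/
theorem eq_SL_of_pGroup (hC : Ctx R i H) (hu : Invo R u) :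
    ∀ P : Subgroup (GL (Fin n) F), P ≤ H → IsPGroup (Fintype.card F) P →
      (∀ g ∈ P, hu.G hC.pauli * g * (hu.G hC.pauli)⁻¹ ∈ P) → (∃ w ∈ P, w * u ≠ u * w) →
      H = specialLinear (Fin n) F := by
  haveI : Fact (Fintype.card F).Prime := ⟨hC.prime⟩
  haveI : Finite (Matrix (Fin n) (Fin n) F) := inferInstanceAs (Finite (Fin n → Fin n → F))
  haveI : Finite (GL (Fin n) F) := Finite.of_injective _ Units.val_injective
  intro P
  induction' hN : Nat.card P using Nat.strong_induction_on with N ih generalizing P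
  intro hPH hPp hPG hw
  set p := Fintype.card F with hp
  set G := hu.G hC.pauli with hGdef
  have hG2 : G * G = u := hu.G_sq _
  have hPu : ∀ g ∈ P, u * g * u ∈ P := fun g hg => by
    have h := hPG _ (hPG g hg)
    rw [show G * (G * g * G⁻¹) * G⁻¹ = (G * G) * g * (G * G)⁻¹ by group, hG2, hu.inv_eq] at h
    exact h
  obtain ⟨w, hwP, hwu⟩ := hw
  haveI : Nontrivial P := ⟨⟨⟨w, hwP⟩, 1, fun e => hwu (by
    rw [show w = 1 from congrArg Subtype.val e, one_mul, mul_one])⟩⟩
  set D : Subgroup (GL (Fin n) F) := ⁅P, P⁆ with hD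
  have hDP : D ≤ P := Subgroup.commutator_le_self P
  have hDlt : D < P := by
    haveI := hPp.isNilpotent
    haveI : Group.IsSolvable P := inferInstance
    refine lt_of_le_of_ne hDP fun e => ?_
    have h9 := Group.IsSolvable.commutator_lt_top_of_nontrivial P
    refine absurd ?_ h9.ne
    refine Subgroup.map_injective P.subtype_injective ?_
    rw [← MonoidHom.range_eq_map, Subgroup.range_subtype, Subgroup.map_subtype_commutator]
    exact e
  by_cases hcen : ∀ c ∈ D, c * u = u * c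
  swap
  · push Not at hcen
    have hlt : Nat.card D < N := by
      rw [← hN]
      refine lt_of_le_of_ne (Subgroup.card_le_of_le hDP) fun e => hDlt.ne ?_
      exact Subgroup.eq_of_le_of_card_ge hDP e.ge
    refine ih _ hlt D rfl (hDP.trans hPH) (hPp.to_le hDP) ?_ hcen
    intro g hg
    have hle : D.map (MulAut.conj G).toMonoidHom ≤ D := by
      rw [hD, Subgroup.map_commutator]
      exact Subgroup.commutator_mono (by rintro _ ⟨x, hx, rfl⟩; exact hPG x hx)
        (by rintro _ ⟨x, hx, rfl⟩; exact hPG x hx)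
    exact hle ⟨g, hg, rfl⟩
  -- the two maps on the abelianisation
  let π : P →* Abelianization P := Abelianization.of
  let ψ₀ : P →* P :=
    { toFun := fun g => ⟨G * g.1 * G⁻¹, hPG g.1 g.2⟩
      map_one' := Subtype.ext (by simp)
      map_mul' := fun a b => Subtype.ext (by simp [mul_assoc]) }
  let υ : P →* P :=
    { toFun := fun g => ⟨u * g.1 * u, hPu g.1 g.2⟩
      map_one' := Subtype.ext (by simp [hu.mul_self])
      map_mul' := fun a b => Subtype.ext (by
        show u * ((a : GL (Fin n) F) * b) * u = u * a * u * (u * b * u)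
        rw [show u * (a : GL (Fin n) F) * u * (u * b * u) = u * a * (u * u) * b * u by group, hu.mul_self, mul_one]
        group) }
  have hψυ : ∀ g : P, υ g = ψ₀ (ψ₀ g) := fun g => Subtype.ext (by
    show u * (g : GL (Fin n) F) * u = G * (G * g * G⁻¹) * G⁻¹
    rw [show G * (G * (g : GL (Fin n) F) * G⁻¹) * G⁻¹ = (G * G) * g * (G * G)⁻¹ by group, hG2, hu.inv_eq])
  have hυψ : ∀ g : P, υ (ψ₀ g) = ψ₀ (υ g) := fun g => by rw [hψυ, hψυ]
  let ψ : Abelianization P →* Abelianization P := Abelianization.map ψ₀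
  have hψ : ∀ g, ψ (π g) = π (ψ₀ g) := fun g => Abelianization.map_of ψ₀ g
  have hodd : ∀ g : P, g ^ 2 = 1 → g = 1 := fun g hg => by
    obtain ⟨k, hk⟩ := hPp g
    have h2 : p ≠ 2 := fun e => hC.pauli.two (by
      haveI := hC.charP
      have := (CharP.cast_eq_zero_iff F (Fintype.card F) 2).2 (show Fintype.card F ∣ 2 from dvd_of_eq e)
      exact_mod_cast this)
    have := pow_gcd_eq_one.2 ⟨hg, hk⟩
    rwa [(Nat.Coprime.pow_right k ((Nat.coprime_primes Nat.prime_two hC.prime).2 (Ne.symm h2))), pow_one] at this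
  -- inverted elements are determined modulo the centralised subgroup
  have huniq : ∀ z z' : P, υ z = z⁻¹ → υ z' = z'⁻¹ → π z = π z' → z = z' := by
    intro z z' hz hz' he
    have hcD : ((z⁻¹ * z' : P) : GL (Fin n) F) ∈ D := by
      rw [hD, ← Subgroup.map_subtype_commutator]
      exact ⟨z⁻¹ * z', (QuotientGroup.eq_one_iff _).1 (by
        show π (z⁻¹ * z') = 1
        rw [map_mul, map_inv, he, inv_mul_cancel]), rfl⟩
    set c : P := z⁻¹ * z' with hc
    have hυc : υ c = c := Subtype.ext (by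
      show u * (c : GL (Fin n) F) * u = c
      rw [← hcen _ hcD, mul_assoc, hu.mul_self, mul_one])
    have hz'c : z' = z * c := by rw [hc, mul_inv_cancel_left]
    rw [hz'c, map_mul, hz, hυc, _root_.mul_inv_rev] at hz'
    -- `z` inverts `c`
    have hconj : z * c * z⁻¹ = c⁻¹ := by
      have h3 := congrArg (fun t => z * t) hz'
      simp only [mul_inv_cancel_left] at h3
      rw [show z * c * z⁻¹ = (z * (c⁻¹ * z⁻¹))⁻¹ by group, ← h3]
    have hc2 : c * z ^ 2 = z ^ 2 * c := by
      have h4 : z ^ 2 * c * (z ^ 2)⁻¹ = c := by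
        rw [pow_two, show z * z * c * (z * z)⁻¹ = z * (z * c * z⁻¹) * z⁻¹ by group, hconj,
          show z * c⁻¹ * z⁻¹ = (z * c * z⁻¹)⁻¹ by group, hconj, inv_inv]
      exact (mul_inv_eq_iff_eq_mul.1 h4).symm
    obtain ⟨k, hk⟩ := hPp z
    have hkodd : Odd (p ^ k) := (hC.prime.odd_of_ne_two fun e => hC.pauli.two (by
      haveI := hC.charP
      have := (CharP.cast_eq_zero_iff F (Fintype.card F) 2).2 (show Fintype.card F ∣ 2 from dvd_of_eq e)
      exact_mod_cast this)).pow
    obtain ⟨m, hm⟩ := hkodd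
    have hcz : c * z = z * c := by
      have h5 : (z ^ 2) ^ (m + 1) = z := by
        rw [← pow_mul, show 2 * (m + 1) = p ^ k + 1 by omega, pow_succ, hk, one_mul]
      have h6 := ((show Commute c (z ^ 2) from hc2).pow_right (m + 1)).eq
      rwa [h5] at h6
    have hc1 : c = 1 := hodd c (by
      rw [← hcz, mul_inv_cancel_right] at hconj
      rw [pow_two]
      nth_rw 1 [hconj]
      exact inv_mul_cancel c)
    rw [hz'c, hc1, mul_one]
  -- an inverted element of order `p`
  obtain ⟨y, hy1, hyu⟩ : ∃ y : P, y ≠ 1 ∧ υ y = y⁻¹ := by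
    refine ⟨(⟨w, hwP⟩ : P)⁻¹ * υ ⟨w, hwP⟩, fun e => hwu ?_, ?_⟩
    · have h7 : (⟨w, hwP⟩ : P) = υ ⟨w, hwP⟩ := inv_mul_eq_one.1 e
      have h8 : w = u * w * u := congrArg Subtype.val h7
      conv_lhs => rw [h8]
      rw [mul_assoc, hu.mul_self, mul_one]
    · rw [map_mul, map_inv, _root_.mul_inv_rev, inv_inv,
        show υ (υ ⟨w, hwP⟩) = (⟨w, hwP⟩ : P) from Subtype.ext (by
          show u * (u * w * u) * u = w
          rw [show u * (u * w * u) * u = (u * u) * w * (u * u) by group, hu.mul_self, one_mul, mul_one])]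
  obtain ⟨x, hx1, hxp, hxu⟩ : ∃ x : P, x ≠ 1 ∧ x ^ p = 1 ∧ υ x = x⁻¹ := by
    obtain ⟨k, hk⟩ := IsPGroup.iff_orderOf.1 hPp y
    have hk0 : k ≠ 0 := fun e => hy1 (orderOf_eq_one_iff.1 (by rw [hk, e, pow_zero]))
    refine ⟨y ^ p ^ (k - 1), fun e => ?_, ?_, by rw [map_pow, hyu, inv_pow]⟩
    · have := Nat.le_of_dvd (pow_pos hC.prime.pos _) (orderOf_dvd_of_pow_eq_one e)
      rw [hk] at this
      exact absurd this (not_le.2 (Nat.pow_lt_pow_right hC.prime.one_lt (by omega)))
    · rw [← pow_mul, ← pow_succ, show k - 1 + 1 = k by omega, ← hk, pow_orderOf_eq_one]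
  obtain ⟨a, -, ha⟩ := hC.exists_sqrt
  set x' := ψ₀ x with hx'
  have hx'u : υ x' = x'⁻¹ := by rw [hx', hυψ, hxu, map_inv]
  have hX : π x ^ p = 1 := by rw [← map_pow, hxp, map_one]
  have hXa : π x ^ (a * a + 1) = 1 := by
    obtain ⟨q, hq⟩ := ha
    rw [hq, pow_mul, hX, one_pow]
  have hψY : ψ (π x') = (π x)⁻¹ := by rw [hψ, hx', ← hψυ, hxu, map_inv]
  have hfin : ∀ (h : P) (b : ℕ), h ≠ 1 → h ^ p = 1 → υ h = h⁻¹ → p ∣ b * b + 1 → ψ₀ h = h ^ b →
      H = specialLinear (Fin n) F := by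
    intro h b hh1 hhp hhu hb hG'
    refine eq_SL_of_eigen hC hu (hPH h.2) (fun e => hh1 (Subtype.ext e)) ?_ ?_ hb ?_
    · rw [← hp, ← SubgroupClass.coe_pow, hhp, Subgroup.coe_one]
    · exact congrArg Subtype.val hhu
    · have := congrArg Subtype.val hG'
      rwa [SubgroupClass.coe_pow] at this
  by_cases hg : π (x' * x ^ a) = 1
  · -- the gate multiplies `x` by `-a`
    refine hfin x (a * (p - 1)) hx1 hxp hxu ?_ ?_
    · haveI := hC.charP
      refine (CharP.cast_eq_zero_iff F (Fintype.card F) _).1 ?_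
      have h9 := (CharP.cast_eq_zero_iff F (Fintype.card F) _).2 ha
      push_cast [Nat.cast_sub hC.prime.one_le, hp] at h9 ⊢
      rw [CharP.cast_eq_zero F (Fintype.card F)]
      linear_combination h9
    · refine huniq _ _ hx'u (by rw [map_pow, hxu, inv_pow]) ?_
      rw [map_mul, map_pow] at hg
      rw [map_pow, eq_inv_of_mul_eq_one_left hg, inv_eq_iff_mul_eq_one, ← pow_add,
        show a + a * (p - 1) = p * a by
          conv_lhs => rw [← Nat.mul_one a, Nat.mul_assoc, Nat.one_mul, ← Nat.mul_add,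
            Nat.add_sub_cancel' hC.prime.one_le]
          rw [Nat.mul_comm], pow_mul, hX, one_pow]
  · set g : P := x' * x ^ a with hgdef
    obtain ⟨h, hh⟩ : ∃ h : P, h = g⁻¹ * υ g := ⟨_, rfl⟩
    have hυυ : ∀ t : P, υ (υ t) = t := fun t => Subtype.ext (by
      show u * (u * (t : GL (Fin n) F) * u) * u = t
      rw [show u * (u * (t : GL (Fin n) F) * u) * u = (u * u) * t * (u * u) by group, hu.mul_self, one_mul, mul_one])
    have hhu : υ h = h⁻¹ := by rw [hh, map_mul, map_inv, hυυ, _root_.mul_inv_rev, inv_inv]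
    have hπυg : π (υ g) = (π g)⁻¹ := by
      rw [hgdef, map_mul υ, map_pow υ, hx'u, hxu, map_mul π, map_pow π, map_inv π, map_inv π, map_mul π, map_pow π,
        mul_inv, inv_pow]
    have hπh : π h = (π g)⁻¹ * (π g)⁻¹ := by rw [hh, map_mul, map_inv, hπυg]
    have hgp : π g ^ p = 1 := by
      rw [hgdef, map_mul, map_pow, mul_pow, ← pow_mul, mul_comm a, pow_mul, hX, one_pow, mul_one, hx', ← hψ,
        ← map_pow, hX, map_one]
    refine hfin h a (fun e => hg ?_) ?_ hhu ha ?_
    · have h10 : π g ^ 2 = 1 := by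
        rw [e, map_one] at hπh
        rw [pow_two, ← inv_inv (π g * π g), mul_inv, ← hπh, inv_one]
      have hcop : Nat.gcd 2 p = 1 := (Nat.coprime_primes Nat.prime_two hC.prime).2 fun e2 => hC.pauli.two (by
        haveI := hC.charP
        have := (CharP.cast_eq_zero_iff F (Fintype.card F) 2).2 (show Fintype.card F ∣ 2 from dvd_of_eq e2.symm)
        exact_mod_cast this)
      have := pow_gcd_eq_one.2 ⟨h10, hgp⟩
      rwa [hcop, pow_one] at this
    · refine huniq _ 1 (by rw [map_pow, hhu, inv_pow]) (by rw [map_one, inv_one]) ?_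
      rw [map_pow, hπh, mul_pow, inv_pow, hgp, inv_one, mul_one, map_one]
    · refine huniq _ _ (by rw [hυψ, hhu, map_inv]) (by rw [map_pow, hhu, inv_pow]) ?_
      rw [← hψ, map_pow, hπh, map_mul, map_inv]
      have hψg : ψ (π g) = π g ^ a := by
        rw [hgdef, map_mul, map_pow, map_mul ψ, map_pow ψ, hψY, hψ, ← hx', mul_pow, ← pow_mul, mul_comm (π x' ^ a)]
        congr 1
        rw [inv_eq_iff_mul_eq_one, ← pow_succ', hXa]
      rw [hψg, ← inv_pow, mul_pow]

end CfsgLib.Perm.Trans.PauliMax
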