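import Mathlib.GroupTheory.QuotientGroup.Basic
import Mathlib.GroupTheory.OrderOfElement
import Mathlib.Algebra.BigOperators.Group.Finset.Basic
import Mathlib.Algebra.Order.BigOperators.Group.Finset
import Mathlib.Data.Int.Order.Units
import Mathlib.Tactic

/-!
# An extraspecial two-subgroup containing the centralisers of its non-central elements is normal

A group `R` with centre generated by a central involution `z`, commutators and squares in that centre, such that the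
normaliser of `R` contains the centralisers modulo `z` of the non-central elements, is transitive on the elements of
each square, contains what fixes it modulo `z`, and such that no conjugate of a non-central element centralises everything it fixes modulo `z`.
-/

set_option autoImplicit false
set_option linter.all false

namespace CfsgLib.Perm.Trans.PauliMax.Fusion

variable {H : Type*} [Group H]

/-- belonging to `{1, z}` -/
def InZ (z x : H) : Prop := x = 1 ∨ x = z

/-- fixed modulo `z` -/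
def Fixes (z h y : H) : Prop := InZ z (h * y * h⁻¹ * y⁻¹)

/-- the hypotheses -/
structure Data (R : Subgroup H) (z : H) : Prop where
  z_mem : z ∈ R
  z_ne : z ≠ 1
  z_sq : z * z = 1
  z_comm : ∀ h : H, h * z = z * h
  sq : ∀ r ∈ R, InZ z (r * r)
  comm : ∀ r ∈ R, ∀ s ∈ R, Fixes z r s
  nondeg : ∀ r ∈ R, (∀ s ∈ R, r * s = s * r) → InZ z r
  cen : ∀ y ∈ R, ¬ InZ z y → ∀ h : H, Fixes z h y → h ∈ Subgroup.normalizer (R : Set H)
  trans : ∀ w ∈ R, ∀ w' ∈ R, ¬ InZ z w → ¬ InZ z w' → w * w = w' * w' →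
    ∃ k ∈ Subgroup.normalizer (R : Set H), InZ z (k * w * k⁻¹ * w'⁻¹)
  sgn : ∀ r ∈ R, ¬ InZ z r → ∀ h : H, h * r * h⁻¹ ∈ Subgroup.normalizer (R : Set H) → h * r * h⁻¹ ∉ R →
    ∃ y ∈ R, (h * r * h⁻¹) * y * (h * r * h⁻¹)⁻¹ = y * z
  inner : ∀ g : H, (∀ x ∈ R, Fixes z g x) → g ∈ R

variable {R : Subgroup H} {z : H}

theorem Data.inv_z (hD : Data R z) : z⁻¹ = z := inv_eq_of_mul_eq_one_right hD.z_sq

theorem inZ_one (z : H) : InZ z 1 := Or.inl rfl

theorem inZ_self (z : H) : InZ z z := Or.inr rfl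

theorem InZ.mul (hD : Data R z) {x y : H} (hx : InZ z x) (hy : InZ z y) : InZ z (x * y) := by
  rcases hx with rfl | rfl <;> rcases hy with rfl | rfl <;> simp [InZ, hD.z_sq]

theorem InZ.inv (hD : Data R z) {x : H} (hx : InZ z x) : InZ z x⁻¹ := by
  rcases hx with rfl | rfl <;> simp [InZ, hD.inv_z]

theorem InZ.central (hD : Data R z) {x : H} (hx : InZ z x) (h : H) : h * x = x * h := by
  rcases hx with rfl | rfl
  · rw [mul_one, one_mul]
  · exact hD.z_comm h

theorem InZ.mem (hD : Data R z) {x : H} (hx : InZ z x) : x ∈ R := by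
  rcases hx with rfl | rfl
  · exact R.one_mem
  · exact hD.z_mem

theorem InZ.conj (hD : Data R z) {x : H} (hx : InZ z x) (h : H) : h * x * h⁻¹ = x := by
  rw [hx.central hD, mul_inv_cancel_right]

theorem InZ.of_conj (hD : Data R z) {x : H} {h : H} (hx : InZ z (h * x * h⁻¹)) : InZ z x := by
  have := hx.conj hD h⁻¹
  rw [inv_inv, show h⁻¹ * (h * x * h⁻¹) * h = x by group] at this
  rw [this]; exact hx

theorem Fixes.eq_or (hD : Data R z) {h y : H} (hf : Fixes z h y) : h * y * h⁻¹ = y ∨ h * y * h⁻¹ = y * z := by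
  rcases hf with e | e
  · left; rwa [mul_inv_eq_one] at e
  · right; rw [mul_inv_eq_iff_eq_mul] at e; rw [e, hD.z_comm]

theorem fixes_of_eq_or (hD : Data R z) {h y : H} (hf : h * y * h⁻¹ = y ∨ h * y * h⁻¹ = y * z) : Fixes z h y := by
  rcases hf with e | e
  · left; rw [e, mul_inv_cancel]
  · right; rw [e, hD.z_comm, mul_inv_cancel_right]

theorem Fixes.symm (hD : Data R z) {h y : H} (hf : Fixes z h y) : Fixes z y h := by
  have h1 := InZ.inv hD hf
  rwa [show (h * y * h⁻¹ * y⁻¹)⁻¹ = y * h * y⁻¹ * h⁻¹ by group] at h1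

theorem Fixes.conj (hD : Data R z) {h y : H} (hf : Fixes z h y) (g : H) : Fixes z (g * h * g⁻¹) (g * y * g⁻¹) := by
  unfold Fixes
  rw [show g * h * g⁻¹ * (g * y * g⁻¹) * (g * h * g⁻¹)⁻¹ * (g * y * g⁻¹)⁻¹ = g * (h * y * h⁻¹ * y⁻¹) * g⁻¹ by group,
    InZ.conj hD hf]
  exact hf

theorem Data.conj_mem (hD : Data R z) {g r : H} (hg : g ∈ Subgroup.normalizer (R : Set H)) (hr : r ∈ R) :
    g * r * g⁻¹ ∈ R :=
  (Subgroup.mem_normalizer_iff.1 hg r).1 hr

/-- a conjugate of `R` meeting `R` outside the centre is `R` -/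
theorem meet (hD : Data R z) {h w : H} (hw : w ∈ R) (hz : ¬ InZ z w) (hw' : h⁻¹ * w * h ∈ R) :
    h ∈ Subgroup.normalizer (R : Set H) := by
  have hz' : ¬ InZ z (h⁻¹ * w * h) := fun e => hz (InZ.of_conj hD (h := h⁻¹) (by rw [inv_inv]; exact e))
  have hsq : h⁻¹ * w * h * (h⁻¹ * w * h) = w * w := by
    rw [show h⁻¹ * w * h * (h⁻¹ * w * h) = h⁻¹ * (w * w) * h⁻¹⁻¹ by group, InZ.conj hD (hD.sq w hw)]
  obtain ⟨k, hk, hkw⟩ := hD.trans _ hw' _ hw hz' hz hsq
  have h1 : Fixes z (k * h⁻¹) w := by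
    unfold Fixes
    rwa [show k * h⁻¹ * w * (k * h⁻¹)⁻¹ * w⁻¹ = k * (h⁻¹ * w * h) * k⁻¹ * w⁻¹ by group]
  have h2 := hD.cen w hw hz _ h1
  have h3 : h⁻¹ ∈ Subgroup.normalizer (R : Set H) := by
    have := Subgroup.mul_mem _ (Subgroup.inv_mem _ hk) h2
    rwa [inv_mul_cancel_left] at this
  simpa using Subgroup.inv_mem _ h3

/-- the subgroup `{1, z}` of `R` -/
def zsub (hD : Data R z) : Subgroup R where
  carrier := {x | InZ z (x : H)}
  one_mem' := inZ_one z
  mul_mem' := fun ha hb => InZ.mul hD ha hb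
  inv_mem' := fun ha => InZ.inv hD ha

instance zsub_normal (hD : Data R z) : (zsub hD).Normal :=
  ⟨fun x hx g => by
    show InZ z (((g * x * g⁻¹ : R)) : H)
    rw [Subgroup.coe_mul, Subgroup.coe_mul, Subgroup.coe_inv, InZ.conj hD hx]
    exact hx⟩

theorem card_zsub (hD : Data R z) : Nat.card (zsub hD) = 2 := by
  rw [Nat.card_eq_two_iff]
  refine ⟨⟨1, inZ_one z⟩, ⟨⟨z, hD.z_mem⟩, inZ_self z⟩, fun e => hD.z_ne ?_, ?_⟩
  · exact (congrArg (fun t : zsub hD => ((t : R) : H)) e).symm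
  · ext ⟨⟨x, hx⟩, hxz⟩
    simp only [Set.mem_insert_iff, Set.mem_singleton_iff, Set.mem_univ, iff_true]
    rcases hxz with e | e
    · exact Or.inl (Subtype.ext (Subtype.ext e))
    · exact Or.inr (Subtype.ext (Subtype.ext e))

/-- the elements of `R` fixed by `b` modulo `z` -/
def fixSub (hD : Data R z) (b : H) : Subgroup R where
  carrier := {x | Fixes z b (x : H)}
  one_mem' := by
    show InZ z _
    simp [InZ]
  mul_mem' := fun {x y} (hx : Fixes z b x) (hy : Fixes z b y) => by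
    show InZ z (b * ((x : H) * y) * b⁻¹ * ((x : H) * y)⁻¹)
    rw [show b * ((x : H) * y) * b⁻¹ * ((x : H) * y)⁻¹ = (b * x * b⁻¹) * (b * y * b⁻¹ * (y : H)⁻¹) * (x : H)⁻¹ by group,
      InZ.central hD hy, mul_assoc]
    exact InZ.mul hD hy hx
  inv_mem' := fun {x} (hx : Fixes z b x) => by
    show InZ z (b * (x : H)⁻¹ * b⁻¹ * ((x : H)⁻¹)⁻¹)
    have e : b * (x : H)⁻¹ * b⁻¹ * ((x : H)⁻¹)⁻¹ = (b * x * b⁻¹ * (x : H)⁻¹)⁻¹ := by
      have hc := InZ.central hD (InZ.inv hD hx) (x : H)⁻¹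
      rw [inv_inv, show b * (x : H)⁻¹ * b⁻¹ * (x : H) = (x : H)⁻¹ * (b * x * b⁻¹ * (x : H)⁻¹)⁻¹ * x by group, hc,
        inv_mul_cancel_right]
    rw [e]
    exact InZ.inv hD hx

theorem mem_fixSub (hD : Data R z) {b : H} {x : R} : x ∈ fixSub hD b ↔ Fixes z b (x : H) := Iff.rfl

theorem zsub_le_fixSub (hD : Data R z) (b : H) : zsub hD ≤ fixSub hD b := fun x hx => by
  show InZ z (b * (x : H) * b⁻¹ * (x : H)⁻¹)
  rw [InZ.conj hD hx, mul_inv_cancel]
  exact inZ_one z

variable [Finite H]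

theorem card_map_zsub (hD : Data R z) {K : Subgroup R} (h : zsub hD ≤ K) :
    2 * Nat.card (K.map (QuotientGroup.mk' (zsub hD))) = Nat.card K := by
  set f : K →* R ⧸ zsub hD := (QuotientGroup.mk' (zsub hD)).comp K.subtype with hf
  have hrange : f.range = K.map (QuotientGroup.mk' (zsub hD)) := by
    rw [hf, MonoidHom.range_comp, Subgroup.range_subtype]
  have hker : f.ker = (zsub hD).subgroupOf K := by
    rw [hf, ← MonoidHom.comap_ker, QuotientGroup.ker_mk']; rfl
  rw [← hrange, ← Nat.card_congr (QuotientGroup.quotientKerEquivRange f).toEquiv, hker,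
    Subgroup.card_eq_card_quotient_mul_card_subgroup ((zsub hD).subgroupOf K),
    Nat.card_congr (Subgroup.subgroupOfEquivOfLe h).toEquiv, card_zsub, mul_comm]

/-- the map `r ↦ r⁻¹ b r b⁻¹` modulo `z` -/
def moveHom (hD : Data R z) {b : H} (hb : b ∈ Subgroup.normalizer (R : Set H)) : R →* R ⧸ zsub hD where
  toFun r := QuotientGroup.mk (⟨(r : H)⁻¹ * (b * r * b⁻¹), R.mul_mem (R.inv_mem r.2) (hD.conj_mem hb r.2)⟩ : R)
  map_one' := by
    rw [QuotientGroup.eq_one_iff]
    show InZ z _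
    simp [InZ]
  map_mul' r s := by
    rw [← QuotientGroup.mk_mul, QuotientGroup.eq]
    show InZ z ((((r : H) * s)⁻¹ * (b * ((r : H) * s) * b⁻¹))⁻¹ *
      ((r : H)⁻¹ * (b * r * b⁻¹) * ((s : H)⁻¹ * (b * s * b⁻¹))))
    set p := (r : H)⁻¹ * (b * r * b⁻¹) with hp
    have hpR : p ∈ R := R.mul_mem (R.inv_mem r.2) (hD.conj_mem hb r.2)
    rw [show (((r : H) * s)⁻¹ * (b * ((r : H) * s) * b⁻¹))⁻¹ * (p * ((s : H)⁻¹ * (b * s * b⁻¹))) =
      (b * s * b⁻¹)⁻¹ * (p⁻¹ * (s : H) * p * (s : H)⁻¹) * (b * s * b⁻¹) by rw [hp]; group]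
    have hc : InZ z (p⁻¹ * (s : H) * p * (s : H)⁻¹) := by
      have := hD.comm p⁻¹ (R.inv_mem hpR) s s.2
      rwa [Fixes, inv_inv] at this
    rw [mul_assoc, ← InZ.central hD hc, inv_mul_cancel_left]
    exact hc

theorem moveHom_ker (hD : Data R z) {b : H} (hb : b ∈ Subgroup.normalizer (R : Set H)) :
    (moveHom hD hb).ker = fixSub hD b := by
  ext x
  rw [MonoidHom.mem_ker, mem_fixSub]
  show QuotientGroup.mk (⟨_, _⟩ : R) = 1 ↔ _
  rw [QuotientGroup.eq_one_iff]
  show InZ z ((x : H)⁻¹ * (b * x * b⁻¹)) ↔ InZ z (b * x * b⁻¹ * (x : H)⁻¹)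
  constructor <;> intro h
  · have := InZ.conj hD h (x : H)
    rw [show (x : H) * ((x : H)⁻¹ * (b * x * b⁻¹)) * (x : H)⁻¹ = b * x * b⁻¹ * (x : H)⁻¹ by group] at this
    rw [this]; exact h
  · have := InZ.conj hD h (x : H)⁻¹
    rw [show (x : H)⁻¹ * (b * x * b⁻¹ * (x : H)⁻¹) * ((x : H)⁻¹)⁻¹ = (x : H)⁻¹ * (b * x * b⁻¹) by group] at this
    rw [this]; exact h

theorem moveHom_mem_fix (hD : Data R z) {b : H} (hb : b ∈ Subgroup.normalizer (R : Set H)) (hbb : InZ z (b * b))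
    (r : R) : moveHom hD hb r ∈ (fixSub hD b).map (QuotientGroup.mk' (zsub hD)) := by
  refine ⟨⟨(r : H)⁻¹ * (b * r * b⁻¹), R.mul_mem (R.inv_mem r.2) (hD.conj_mem hb r.2)⟩, ?_, rfl⟩
  set w := (r : H)⁻¹ * (b * r * b⁻¹) with hw
  have hwR : w ∈ R := R.mul_mem (R.inv_mem r.2) (hD.conj_mem hb r.2)
  show InZ z (b * w * b⁻¹ * w⁻¹)
  have h1 : b * w * b⁻¹ = w⁻¹ := by
    rw [hw, show b * ((r : H)⁻¹ * (b * r * b⁻¹)) * b⁻¹ = b * (r : H)⁻¹ * b⁻¹ * ((b * b) * r * (b * b)⁻¹) by group,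
      show (b * b) * (r : H) * (b * b)⁻¹ = r by rw [← InZ.central hD hbb, mul_inv_cancel_right]]
    group
  rw [h1, show w⁻¹ * w⁻¹ = (w * w)⁻¹ by group]
  exact InZ.inv hD (hD.sq w hwR)

theorem card_sq_fix (hD : Data R z) {b : H} (hb : b ∈ Subgroup.normalizer (R : Set H)) (hbb : InZ z (b * b)) :
    2 * Nat.card R ≤ Nat.card (fixSub hD b) * Nat.card (fixSub hD b) := by
  have hle : (moveHom hD hb).range ≤ (fixSub hD b).map (QuotientGroup.mk' (zsub hD)) := by
    rintro _ ⟨r, rfl⟩; exact moveHom_mem_fix hD hb hbb r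
  have h1 := Subgroup.card_le_of_le hle
  have h2 := card_map_zsub hD (zsub_le_fixSub hD b)
  have h3 : Nat.card R = Nat.card (moveHom hD hb).range * Nat.card (fixSub hD b) := by
    rw [← Nat.card_congr (QuotientGroup.quotientKerEquivRange (moveHom hD hb)).toEquiv, moveHom_ker]
    exact Subgroup.card_eq_card_quotient_mul_card_subgroup _
  rw [h3]
  calc 2 * (Nat.card (moveHom hD hb).range * Nat.card (fixSub hD b))
      ≤ 2 * (Nat.card ((fixSub hD b).map (QuotientGroup.mk' (zsub hD))) * Nat.card (fixSub hD b)) := by gcongr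
    _ = Nat.card (fixSub hD b) * Nat.card (fixSub hD b) := by rw [← mul_assoc, h2]

/-- the elements commuting with a subgroup of `R` -/
def perpSub (K : Subgroup R) : Subgroup R := Subgroup.centralizer (K : Set R)

theorem card_perp_le (hD : Data R z) (K : Subgroup R) :
    Nat.card (perpSub K) * Nat.card K ≤ 2 * Nat.card R := by
  classical
  haveI : Fintype R := Fintype.ofFinite _
  let χ : R → R → ℤ := fun c r => if c * r = r * c then 1 else -1
  have hflip : ∀ c r : R, c * r ≠ r * c → (c : H) * r * (c : H)⁻¹ = r * z := fun c r hne =>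
    ((hD.comm c c.2 r r.2).eq_or hD).resolve_left fun e => hne (Subtype.ext (mul_inv_eq_iff_eq_mul.1 e))
  have hmul : ∀ c d r : R, χ (c * d) r = χ c r * χ d r := by
    intro c d r
    have key : ∀ a : R, ((a : H) * r * (a : H)⁻¹ = r ↔ a * r = r * a) := fun a => by
      rw [mul_inv_eq_iff_eq_mul]
      exact ⟨fun e => Subtype.ext e, fun e => congrArg Subtype.val e⟩
    have hcd : ((c * d : R) : H) * r * ((c * d : R) : H)⁻¹ = (c : H) * ((d : H) * r * (d : H)⁻¹) * (c : H)⁻¹ := by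
      rw [Subgroup.coe_mul]; group
    have hne : ∀ x : H, x * z ≠ x := fun x e => hD.z_ne (mul_eq_left.1 e)
    simp only [χ, ← key]
    rw [hcd]
    rcases (hD.comm c c.2 r r.2).eq_or hD with ec | ec <;> rcases (hD.comm d d.2 r r.2).eq_or hD with ed | ed <;>
      rw [ec, ed] <;>
      simp only [ec, hne, mul_assoc, InZ.conj hD (inZ_self z), if_true, if_false, mul_one, one_mul, mul_neg, neg_neg]
    · rw [show (c : H) * (r * (z * (c : H)⁻¹)) = (c : H) * r * (c : H)⁻¹ * z by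
        rw [← hD.z_comm (c : H)⁻¹]; group, ec, if_neg (hne _)]
    · rw [show (c : H) * (r * (z * (c : H)⁻¹)) = (c : H) * r * (c : H)⁻¹ * z by
        rw [← hD.z_comm (c : H)⁻¹]; group, ec, mul_assoc, hD.z_sq, mul_one, if_pos rfl]
  let C : Finset R := Finset.univ.filter fun c => c ∈ perpSub K
  have hCcard : C.card = Nat.card (perpSub K) := by
    rw [Nat.card_eq_fintype_card, ← Fintype.card_coe]
    exact Fintype.card_congr (Equiv.subtypeEquivRight fun x => by simp [C])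
  have hA : ∀ r : R, 0 ≤ ∑ c ∈ C, χ c r := by
    intro r
    by_cases hall : ∀ c ∈ C, χ c r = 1
    · rw [Finset.sum_congr rfl hall]; simp
    · push Not at hall
      obtain ⟨c0, hc0, hc01⟩ := hall
      have hneg : χ c0 r = -1 := by
        simp only [χ] at hc01 ⊢
        split_ifs at hc01 ⊢ with e
        · exact absurd rfl hc01
        · rfl
      have hsum : ∑ c ∈ C, χ c r = ∑ c ∈ C, χ (c0 * c) r := by
        refine Finset.sum_nbij' (fun c => c0⁻¹ * c) (fun c => c0 * c) ?_ ?_ (fun c _ => by simp) (fun c _ => by simp)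
          (fun c _ => by simp)
        · intro c hc
          simp only [C, Finset.coe_filter, Set.mem_setOf_eq, Finset.mem_univ, true_and, Finset.mem_coe, Finset.mem_filter] at hc hc0 ⊢
          exact mul_mem (inv_mem hc0) hc
        · intro c hc
          simp only [C, Finset.coe_filter, Set.mem_setOf_eq, Finset.mem_univ, true_and, Finset.mem_coe, Finset.mem_filter] at hc hc0 ⊢
          exact mul_mem hc0 hc
      simp only [hmul, hneg, ← Finset.mul_sum] at hsum
      omega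
  have hB : ∀ c : R, ∑ r : R, χ c r = if InZ z (c : H) then (Fintype.card R : ℤ) else 0 := by
    intro c
    split_ifs with hc
    · rw [Finset.sum_congr rfl fun r _ => show χ c r = 1 from if_pos (Subtype.ext (InZ.central hD hc r).symm)]
      simp
    · obtain ⟨s, hs, hcs⟩ : ∃ s ∈ R, (c : H) * s ≠ s * c := by
        by_contra hcon
        push Not at hcon
        exact hc (hD.nondeg c c.2 hcon)
      have hχ : ∀ r : R, χ c (⟨s, hs⟩ * r) = - χ c r := by
        intro r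
        have hcs' : c * ⟨s, hs⟩ ≠ ⟨s, hs⟩ * c := fun e => hcs (congrArg Subtype.val e)
        have h1 := hflip c ⟨s, hs⟩ hcs'
        have key : ∀ a : R, (c * a = a * c ↔ (c : H) * a * (c : H)⁻¹ = a) := fun a => by
          rw [mul_inv_eq_iff_eq_mul]
          exact ⟨fun e => congrArg Subtype.val e, fun e => Subtype.ext e⟩
        simp only [χ, key]
        rw [show (c : H) * ((⟨s, hs⟩ * r : R) : H) * (c : H)⁻¹ =
          ((c : H) * s * (c : H)⁻¹) * ((c : H) * r * (c : H)⁻¹) by rw [Subgroup.coe_mul]; group, h1]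
        rcases (hD.comm c c.2 r r.2).eq_or hD with er | er <;> rw [er, Subgroup.coe_mul]
        · rw [if_neg (fun e => hD.z_ne ?_), if_pos rfl]
          rw [mul_assoc, ← hD.z_comm, ← mul_assoc] at e
          exact mul_eq_left.1 e
        · rw [if_pos, if_neg (fun e => hD.z_ne (mul_eq_left.1 e))]
          · ring
          · rw [mul_assoc, ← mul_assoc z, ← hD.z_comm, mul_assoc, hD.z_sq, mul_one]
      have hsum : ∑ r : R, χ c r = ∑ r : R, χ c (⟨s, hs⟩ * r) :=
        (Fintype.sum_equiv (Equiv.mulLeft (⟨s, hs⟩ : R)) _ _ fun r => rfl).symm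
      simp only [hχ, Finset.sum_neg_distrib] at hsum
      omega
  have h1 : (Nat.card (perpSub K) : ℤ) * Nat.card K ≤ ∑ r : R, ∑ c ∈ C, χ c r := by
    let K' : Finset R := Finset.univ.filter fun r => r ∈ K
    have hK : K'.card = Nat.card K := by
      rw [Nat.card_eq_fintype_card, ← Fintype.card_coe]
      exact Fintype.card_congr (Equiv.subtypeEquivRight fun x => by simp [K'])
    refine le_trans ?_ (Finset.sum_le_sum_of_subset_of_nonneg (Finset.subset_univ K') fun r _ _ => hA r)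
    rw [Finset.sum_congr rfl fun r hr => Finset.sum_congr rfl fun c hc => show χ c r = 1 from if_pos (by
      simp only [C, K', Finset.mem_filter, Finset.mem_univ, true_and] at hc hr
      exact (Subgroup.mem_centralizer_iff.1 hc r hr).symm)]
    simp [hCcard, hK, mul_comm]
  rw [Finset.sum_comm, Finset.sum_congr rfl fun c _ => hB c, ← Finset.sum_filter, Finset.sum_const, nsmul_eq_mul] at h1
  have h2 : (C.filter fun c : R => InZ z (c : H)).card ≤ 2 := by
    rw [← card_zsub hD, Nat.card_eq_fintype_card, ← Fintype.card_coe]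
    exact Fintype.card_le_of_injective (fun c => ⟨c.1, (Finset.mem_filter.1 c.2).2⟩)
      (fun a b e => Subtype.ext (congrArg (fun t : zsub hD => (t : R)) e))
  rw [Nat.card_eq_fintype_card (α := R)]
  have : ((Nat.card (perpSub K) * Nat.card K : ℕ) : ℤ) ≤ ((2 * Fintype.card R : ℕ) : ℤ) := by
    push_cast
    exact h1.trans (mul_le_mul_of_nonneg_right (by exact_mod_cast h2) (Int.natCast_nonneg _))
  exact_mod_cast this

/-- the elements fixed by a conjugate lying in the normaliser -/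
theorem fix_eq (hD : Data R z) {h : H} (hN : h ∉ Subgroup.normalizer (R : Set H)) {r : H} (hr : r ∈ R)
    (hrz : ¬ InZ z r) (hb : h * r * h⁻¹ ∈ Subgroup.normalizer (R : Set H)) (y : R) :
    y ∈ fixSub hD (h * r * h⁻¹) ↔ h⁻¹ * (y : H) * h ∈ Subgroup.normalizer (R : Set H) := by
  rw [mem_fixSub]
  constructor
  · intro hf
    refine hD.cen r hr hrz _ ?_
    have h1 := (hf.symm hD).conj hD h⁻¹
    rwa [inv_inv, show h⁻¹ * (h * r * h⁻¹) * h = r by group] at h1
  · intro hy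
    -- the commutator lies in both conjugates
    set b := h * r * h⁻¹ with hbdef
    by_contra hcon
    refine hN (meet hD (w := b * (y : H) * b⁻¹ * (y : H)⁻¹) (R.mul_mem (hD.conj_mem hb y.2) (R.inv_mem y.2)) hcon ?_)
    rw [show h⁻¹ * (b * (y : H) * b⁻¹ * (y : H)⁻¹) * h = r * ((h⁻¹ * (y : H) * h) * r⁻¹ * (h⁻¹ * (y : H) * h)⁻¹) by
      rw [hbdef]; group]
    exact R.mul_mem hr (hD.conj_mem hy (R.inv_mem hr))

/-- **Strong closure.** -/
theorem closed (hD : Data R z) (hcard : 16 ≤ Nat.card R) {h r : H} (hr : r ∈ R) (hrz : ¬ InZ z r)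
    (hb : h * r * h⁻¹ ∈ Subgroup.normalizer (R : Set H)) : h * r * h⁻¹ ∈ R := by
  classical
  by_contra hnot
  have hN : h ∉ Subgroup.normalizer (R : Set H) := fun e => hnot (hD.conj_mem e hr)
  have hN' : h⁻¹ ∉ Subgroup.normalizer (R : Set H) := fun e => hN (by simpa using Subgroup.inv_mem _ e)
  set b := h * r * h⁻¹ with hbdef
  have hsq : ∀ r' ∈ R, InZ z (h * r' * h⁻¹ * (h * r' * h⁻¹)) := fun r' hr' => by
    rw [show h * r' * h⁻¹ * (h * r' * h⁻¹) = h * (r' * r') * h⁻¹ by group, InZ.conj hD (hD.sq r' hr')]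
    exact hD.sq r' hr'
  set Q := fixSub hD b with hQ
  have hQsq := card_sq_fix hD hb (hsq r hr)
  -- a non-central fixed element
  obtain ⟨y, hyQ, hyz⟩ : ∃ y ∈ Q, ¬ InZ z (y : H) := by
    by_contra hcon
    push Not at hcon
    have hle : Nat.card Q ≤ 2 := (card_zsub hD) ▸ Subgroup.card_le_of_le (fun x hx => hcon x hx)
    nlinarith
  have hy' : h⁻¹ * (y : H) * h⁻¹⁻¹ ∈ Subgroup.normalizer (R : Set H) := by
    rw [inv_inv]; exact (fix_eq hD hN hr hrz hb y).1 hyQ
  -- the elements of `R` conjugated into the normaliser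
  set P := fixSub hD (h⁻¹ * (y : H) * h⁻¹⁻¹) with hP
  have hPsq := card_sq_fix hD hy' (by
    rw [show h⁻¹ * (y : H) * h⁻¹⁻¹ * (h⁻¹ * (y : H) * h⁻¹⁻¹) = h⁻¹ * ((y : H) * y) * h⁻¹⁻¹ by group,
      InZ.conj hD (hD.sq y y.2)]
    exact hD.sq y y.2)
  have hPiff : ∀ p : R, p ∈ P ↔ h * (p : H) * h⁻¹ ∈ Subgroup.normalizer (R : Set H) := fun p => by
    rw [hP, fix_eq hD hN' y.2 hyz hy' p, inv_inv]
  have hPfix : ∀ p ∈ P, ∀ x ∈ Q, Fixes z (h * ((p : R) : H) * h⁻¹) ((x : R) : H) := by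
    intro p hp x hx
    by_cases hpz : InZ z (p : H)
    · rw [InZ.conj hD hpz]
      show InZ z _
      rw [← InZ.central hD hpz, mul_inv_cancel_right, mul_inv_cancel]
      exact inZ_one z
    · exact (fix_eq hD hN p.2 hpz ((hPiff p).1 hp) x).2 ((fix_eq hD hN hr hrz hb x).1 hx)
  have hfixQ : ∀ p ∈ P, ¬ InZ z ((p : R) : H) → fixSub hD (h * ((p : R) : H) * h⁻¹) = Q := by
    intro p hp hpz
    ext x
    rw [fix_eq hD hN p.2 hpz ((hPiff p).1 hp) x, hQ, fix_eq hD hN hr hrz hb x]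
  -- an element moved by all
  obtain ⟨x₀, hx₀⟩ : ∃ x₀ : R, x₀ ∉ Q := by
    by_contra hcon
    push Not at hcon
    exact hnot (hD.inner b fun x hx => hcon ⟨x, hx⟩)
  -- the counting
  let ψ : P →* R ⧸ zsub hD :=
    { toFun := fun p => moveHom hD ((hPiff p.1).1 p.2) x₀
      map_one' := by
        show QuotientGroup.mk (⟨_, _⟩ : R) = 1
        rw [QuotientGroup.eq_one_iff]
        show InZ z _
        simp [InZ]
      map_mul' := fun p q => by
        show QuotientGroup.mk (⟨_, _⟩ : R) = QuotientGroup.mk (⟨_, _⟩ : R) * QuotientGroup.mk (⟨_, _⟩ : R)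
        rw [← QuotientGroup.mk_mul, QuotientGroup.eq]
        show InZ z (((x₀ : H)⁻¹ * ((h * (((p * q : P) : R) : H) * h⁻¹) * x₀ * (h * (((p * q : P) : R) : H) * h⁻¹)⁻¹))⁻¹ *
          ((x₀ : H)⁻¹ * (h * ((p : R) : H) * h⁻¹ * x₀ * (h * ((p : R) : H) * h⁻¹)⁻¹) *
            ((x₀ : H)⁻¹ * (h * ((q : R) : H) * h⁻¹ * x₀ * (h * ((q : R) : H) * h⁻¹)⁻¹))))
        set bp := h * ((p : R) : H) * h⁻¹ with hbp
        set bq := h * ((q : R) : H) * h⁻¹ with hbq
        have hpq : h * (((p * q : P) : R) : H) * h⁻¹ = bp * bq := by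
          rw [hbp, hbq, Subgroup.coe_mul, Subgroup.coe_mul]; group
        rw [hpq]
        set wq := (x₀ : H)⁻¹ * (bq * x₀ * bq⁻¹) with hwq
        have hwQ : Fixes z bp wq := by
          obtain ⟨w, hw, hwe⟩ := moveHom_mem_fix hD ((hPiff q.1).1 q.2) (hsq q.1 q.1.2) x₀
          have hwz : InZ z ((w : H)⁻¹ * wq) := (QuotientGroup.eq.1 hwe : _)
          by_cases hqz : InZ z ((q : R) : H)
          · have : wq = 1 := by
              rw [hwq, hbq, InZ.conj hD hqz, ← InZ.central hD hqz, mul_inv_cancel_right, inv_mul_cancel]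
            rw [this]
            show InZ z _
            simp [InZ]
          rw [hfixQ q.1 q.2 hqz] at hw
          have h1 : Fixes z bp ((w : H)⁻¹ * wq) := by
            show InZ z _
            rw [InZ.conj hD hwz, mul_inv_cancel]; exact inZ_one z
          have hwqR : wq ∈ R := R.mul_mem (R.inv_mem x₀.2) (hD.conj_mem ((hPiff q.1).1 q.2) x₀.2)
          have h2 := (fixSub hD bp).mul_mem (x := w) (y := ⟨(w : H)⁻¹ * wq, R.mul_mem (R.inv_mem w.2) hwqR⟩)
            (hPfix p.1 p.2 w hw) h1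
          have h3 : ((w * ⟨(w : H)⁻¹ * wq, R.mul_mem (R.inv_mem w.2) hwqR⟩ : R) : H) = wq := by
            rw [Subgroup.coe_mul]; group
          rw [mem_fixSub, h3] at h2
          exact h2
        rw [show ((x₀ : H)⁻¹ * (bp * bq * x₀ * (bp * bq)⁻¹))⁻¹ * ((x₀ : H)⁻¹ * (bp * x₀ * bp⁻¹) * wq) =
          bp * wq⁻¹ * bp⁻¹ * wq by rw [hwq]; group]
        have h4 := InZ.inv hD hwQ
        have h5 := InZ.conj hD h4 wq⁻¹
        rw [inv_inv, show wq⁻¹ * (bp * wq * bp⁻¹ * wq⁻¹)⁻¹ * wq = bp * wq⁻¹ * bp⁻¹ * wq by group] at h5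
        rw [h5]
        exact h4 }
  have hψker : ψ.ker ≤ (zsub hD).subgroupOf P := by
    intro p hp
    by_contra hpz
    have hpz' : ¬ InZ z ((p : R) : H) := hpz
    have h1 : x₀ ∈ (moveHom hD ((hPiff p.1).1 p.2)).ker := hp
    rw [moveHom_ker, hfixQ p.1 p.2 hpz'] at h1
    exact hx₀ h1
  have hψran : ψ.range ≤ (perpSub Q).map (QuotientGroup.mk' (zsub hD)) := by
    rintro _ ⟨p, rfl⟩
    refine ⟨_, Subgroup.mem_centralizer_iff.2 fun x hx => Subtype.ext ?_, rfl⟩
    set bp := h * ((p : R) : H) * h⁻¹ with hbp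
    show (x : H) * ((x₀ : H)⁻¹ * (bp * x₀ * bp⁻¹)) = (x₀ : H)⁻¹ * (bp * x₀ * bp⁻¹) * x
    obtain ⟨ε, hε, hbx⟩ : ∃ ε, InZ z ε ∧ bp * x * bp⁻¹ = ε * x :=
      ⟨_, hPfix p.1 p.2 x hx, by rw [inv_mul_cancel_right]⟩
    obtain ⟨δ, hδ, hxx⟩ : ∃ δ, InZ z δ ∧ (x : H) * x₀ * (x : H)⁻¹ = δ * x₀ :=
      ⟨_, hD.comm x x.2 x₀ x₀.2, by rw [inv_mul_cancel_right]⟩
    have h2 : (bp * x * bp⁻¹) * (bp * x₀ * bp⁻¹) * (bp * x * bp⁻¹)⁻¹ = δ * (bp * x₀ * bp⁻¹) := by
      rw [show (bp * x * bp⁻¹) * (bp * x₀ * bp⁻¹) * (bp * x * bp⁻¹)⁻¹ = bp * ((x : H) * x₀ * (x : H)⁻¹) * bp⁻¹ by group,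
        hxx, ← mul_assoc, InZ.central hD hδ bp]
      group
    rw [hbx, show ε * (x : H) * (bp * x₀ * bp⁻¹) * (ε * (x : H))⁻¹ = ε * ((x : H) * (bp * x₀ * bp⁻¹) * (x : H)⁻¹) * ε⁻¹ by group,
      ← InZ.central hD hε, mul_inv_cancel_right] at h2
    have h3 : (x : H) * (x₀ : H)⁻¹ * (x : H)⁻¹ = (x₀ : H)⁻¹ * δ⁻¹ := by
      rw [← _root_.mul_inv_rev, ← hxx]; group
    rw [← mul_inv_eq_iff_eq_mul, show (x : H) * ((x₀ : H)⁻¹ * (bp * x₀ * bp⁻¹)) * (x : H)⁻¹ =
      ((x : H) * (x₀ : H)⁻¹ * (x : H)⁻¹) * ((x : H) * (bp * x₀ * bp⁻¹) * (x : H)⁻¹) by group, h3, h2]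
    group
  have hcardP : Nat.card P ≤ Nat.card (perpSub Q) := by
    have hzP : zsub hD ≤ P := zsub_le_fixSub hD _
    have hzQ : zsub hD ≤ perpSub Q := fun c hc => Subgroup.mem_centralizer_iff.2 fun x _ =>
      Subtype.ext (InZ.central hD hc (x : H))
    have h1 : Nat.card P = Nat.card ψ.range * Nat.card ψ.ker := by
      rw [← Nat.card_congr (QuotientGroup.quotientKerEquivRange ψ).toEquiv]
      exact Subgroup.card_eq_card_quotient_mul_card_subgroup _
    have h2 : Nat.card ψ.ker ≤ 2 := by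
      refine (Subgroup.card_le_of_le hψker).trans ?_
      rw [Nat.card_congr (Subgroup.subgroupOfEquivOfLe hzP).toEquiv, card_zsub]
    rw [h1, ← card_map_zsub hD hzQ, mul_comm 2]
    exact Nat.mul_le_mul (Subgroup.card_le_of_le hψran) h2
  have hperp := card_perp_le hD Q
  have heq : Nat.card Q * Nat.card Q = 2 * Nat.card R ∧ Nat.card P * Nat.card P = 2 * Nat.card R := by
    have hQP : Nat.card P * Nat.card Q ≤ 2 * Nat.card R := (Nat.mul_le_mul hcardP le_rfl).trans hperp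
    rcases le_total (Nat.card P) (Nat.card Q) with hle | hle
    · have hP2 : Nat.card P * Nat.card P ≤ Nat.card P * Nat.card Q := Nat.mul_le_mul le_rfl hle
      have hQP' : Nat.card P = Nat.card Q := by nlinarith
      rw [← hQP'] at hQsq hQP ⊢
      exact ⟨le_antisymm hQP hQsq, le_antisymm hQP hPsq⟩
    · have hQ2 : Nat.card Q * Nat.card Q ≤ Nat.card P * Nat.card Q := Nat.mul_le_mul hle le_rfl
      have hQP' : Nat.card P = Nat.card Q := by nlinarith
      rw [← hQP'] at hQsq hQP ⊢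
      exact ⟨le_antisymm hQP hQsq, le_antisymm hQP hPsq⟩
  -- every element of `Q` is the movement of some element
  have hchar : ∀ p ∈ P, ¬ InZ z ((p : R) : H) → ∀ w ∈ Q,
      h * (p : H) * h⁻¹ * (w : H) * (h * (p : H) * h⁻¹)⁻¹ = (w : H)⁻¹ := by
    intro p hp hpz w hw
    set bp := h * (p : H) * h⁻¹ with hbp
    have hbpN := (hPiff p).1 hp
    have hfix := hfixQ p hp hpz
    have hran : (moveHom hD hbpN).range = Q.map (QuotientGroup.mk' (zsub hD)) := by
      refine Subgroup.eq_of_le_of_card_ge (by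
        rintro _ ⟨x, rfl⟩
        have := moveHom_mem_fix hD hbpN (hsq p p.2) x
        rwa [hfix] at this) ?_
      have h1 : Nat.card R = Nat.card (moveHom hD hbpN).range * Nat.card Q := by
        rw [← Nat.card_congr (QuotientGroup.quotientKerEquivRange (moveHom hD hbpN)).toEquiv, moveHom_ker, hfix]
        exact Subgroup.card_eq_card_quotient_mul_card_subgroup _
      have h2 := card_map_zsub hD (zsub_le_fixSub hD b)
      have h3 := heq.1
      have hpos : 0 < Nat.card Q := Nat.card_pos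
      rw [← hQ] at h2
      nlinarith
    obtain ⟨x, hx⟩ : ∃ x, moveHom hD hbpN x = QuotientGroup.mk w := by
      rw [← MonoidHom.mem_range, hran]; exact ⟨w, hw, rfl⟩
    have hz' : InZ z (((x : H)⁻¹ * (bp * x * bp⁻¹))⁻¹ * (w : H)) := (QuotientGroup.eq.1 hx : _)
    set w' := (x : H)⁻¹ * (bp * x * bp⁻¹) with hw'
    have hbb := hsq p p.2
    have h1 : bp * w' * bp⁻¹ = w'⁻¹ := by
      rw [hw', show bp * ((x : H)⁻¹ * (bp * x * bp⁻¹)) * bp⁻¹ = bp * (x : H)⁻¹ * bp⁻¹ * ((bp * bp) * x * (bp * bp)⁻¹) by group,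
        show (bp * bp) * (x : H) * (bp * bp)⁻¹ = x by rw [← InZ.central hD hbb, mul_inv_cancel_right]]
      group
    have h2 : (w : H) = w' * (w'⁻¹ * w) := by group
    have hcc : (w'⁻¹ * (w : H))⁻¹ = w'⁻¹ * w := by
      rcases hz' with e | e <;> rw [e]
      exacts [inv_one, hD.inv_z]
    generalize w'⁻¹ * (w : H) = c at hz' hcc h2
    rw [h2, show bp * (w' * c) * bp⁻¹ = (bp * w' * bp⁻¹) * (bp * c * bp⁻¹) by group, h1, InZ.conj hD hz',
      _root_.mul_inv_rev w' c, hcc, InZ.central hD hz' w'⁻¹]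
  -- two independent elements
  have hrP : (⟨r, hr⟩ : R) ∈ P := (hPiff _).2 hb
  obtain ⟨t, htP, htz, hrt⟩ : ∃ t ∈ P, ¬ InZ z ((t : R) : H) ∧ ¬ InZ z (r * ((t : R) : H)) := by
    by_contra hcon
    push Not at hcon
    haveI : Fintype R := Fintype.ofFinite _
    have hsub : (Finset.univ.filter fun t : R => t ∈ P) ⊆
        {1, ⟨z, hD.z_mem⟩, (⟨r, hr⟩ : R)⁻¹, (⟨r, hr⟩ : R)⁻¹ * ⟨z, hD.z_mem⟩} := by
      intro t ht
      simp only [Finset.mem_filter, Finset.mem_univ, true_and] at ht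
      simp only [Finset.mem_insert, Finset.mem_singleton]
      by_cases h1 : InZ z (t : H)
      · rcases h1 with e | e
        · exact Or.inl (Subtype.ext e)
        · exact Or.inr (Or.inl (Subtype.ext e))
      · rcases hcon t ht h1 with e | e
        · exact Or.inr (Or.inr (Or.inl (Subtype.ext (eq_inv_of_mul_eq_one_right e))))
        · refine Or.inr (Or.inr (Or.inr (Subtype.ext ?_)))
          show (t : H) = r⁻¹ * z
          rw [← e, inv_mul_cancel_left]
    have h4 : Nat.card P ≤ 4 := by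
      rw [Nat.card_eq_fintype_card, Fintype.card_subtype]
      exact (Finset.card_le_card hsub).trans Finset.card_le_four
    have h5 := heq.2
    nlinarith
  have hrtP : (⟨r, hr⟩ : R) * t ∈ P := P.mul_mem hrP htP
  obtain ⟨y', hy'R, hy'e⟩ := hD.sgn r hr hrz h hb hnot
  have hy'Q : (⟨y', hy'R⟩ : R) ∈ Q := fixes_of_eq_or hD (Or.inr hy'e)
  have c1 : b * y' * b⁻¹ = y'⁻¹ := hchar _ hrP hrz _ hy'Q
  have c2 : h * (t : H) * h⁻¹ * y' * (h * (t : H) * h⁻¹)⁻¹ = y'⁻¹ := hchar _ htP htz _ hy'Q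
  have c3 : h * (r * (t : H)) * h⁻¹ * y' * (h * (r * (t : H)) * h⁻¹)⁻¹ = y'⁻¹ := hchar _ hrtP hrt _ hy'Q
  rw [show h * (r * (t : H)) * h⁻¹ * y' * (h * (r * (t : H)) * h⁻¹)⁻¹ =
    b * (h * (t : H) * h⁻¹ * y' * (h * (t : H) * h⁻¹)⁻¹) * b⁻¹ by rw [hbdef]; group, c2,
    show b * y'⁻¹ * b⁻¹ = (b * y' * b⁻¹)⁻¹ by group, c1, inv_inv] at c3
  rw [c1, ← c3] at hy'e
  exact hD.z_ne (mul_eq_left.1 hy'e.symm)

/-- **Main theorem.** -/
theorem normal (hD : Data R z) (hcard : 16 ≤ Nat.card R)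
    (hboth : ∀ r ∈ R, ¬ InZ z r → ∃ u ∈ R, ¬ InZ z u ∧ u * u ≠ r * r) (h : H) :
    h ∈ Subgroup.normalizer (R : Set H) := by
  haveI : Finite R := inferInstance
  suffices key : ∀ g : H, ∀ s ∈ R, g * s * g⁻¹ ∈ R by
    refine Subgroup.mem_normalizer_iff.2 fun s => ⟨key h s, fun hs => ?_⟩
    have := key h⁻¹ _ hs
    rwa [inv_inv, show h⁻¹ * (h * s * h⁻¹) * h = s by group] at this
  intro g s hs
  by_cases hsz : InZ z s
  · rw [InZ.conj hD hsz]; exact hs
  obtain ⟨u, hu, huz, hne⟩ := hboth s hs hsz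
  set x := g * s * g⁻¹ with hx
  -- the quotient by the centre
  set Z : Subgroup H :=
    { carrier := {c | InZ z c}
      one_mem' := inZ_one z
      mul_mem' := fun ha hb => InZ.mul hD ha hb
      inv_mem' := fun ha => InZ.inv hD ha } with hZ
  haveI : Z.Normal := ⟨fun c hc k => by show InZ z _; rw [InZ.conj hD hc]; exact hc⟩
  set π := QuotientGroup.mk' Z with hπ
  have hπeq : ∀ a c : H, π a = π c → InZ z (a⁻¹ * c) := fun a c e => (QuotientGroup.eq.1 e : _)
  have hπone : ∀ a : H, π a = 1 ↔ InZ z a := fun a => QuotientGroup.eq_one_iff a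
  set X := π x with hX
  set U := π u with hU
  have hXX : X * X = 1 := by
    rw [hX, ← map_mul, hπone, show x * x = g * (s * s) * g⁻¹ by rw [hx]; group, InZ.conj hD (hD.sq s hs)]
    exact hD.sq s hs
  have hUU : U * U = 1 := by rw [hU, ← map_mul, hπone]; exact hD.sq u hu
  have hXi : X⁻¹ = X := inv_eq_of_mul_eq_one_right hXX
  have hUi : U⁻¹ = U := inv_eq_of_mul_eq_one_right hUU
  set a := X * U with ha
  have hUa : U * a * U⁻¹ = a⁻¹ := by
    rw [ha, hUi, _root_.mul_inv_rev, hXi, hUi, ← mul_assoc, mul_assoc (U * X), hUU, mul_one]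
  have hUak : ∀ k : ℕ, U * a ^ k * U⁻¹ = (a ^ k)⁻¹ := fun k => by rw [← conj_pow, hUa, inv_pow]
  -- the order is even
  have heven : ∃ k, orderOf a = 2 * k := by
    rcases Nat.even_or_odd (orderOf a) with he | ⟨j, hj⟩
    · obtain ⟨k, hk⟩ := he
      exact ⟨k, by omega⟩
    exfalso
    have h1 : X = (a ^ j)⁻¹ * U * (a ^ j) := by
      have h2 : (a ^ j)⁻¹ * U = U * a ^ j := by rw [← hUak j]; group
      rw [h2, mul_assoc, ← pow_add]
      have h3 : a ^ (j + j) * a = 1 := by rw [← pow_succ, show j + j + 1 = orderOf a by omega, pow_orderOf_eq_one]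
      rw [eq_inv_of_mul_eq_one_left h3, ha, _root_.mul_inv_rev, hXi, hUi, ← mul_assoc, hUU, one_mul]
    obtain ⟨c, hc⟩ := QuotientGroup.mk'_surjective Z (a ^ j)
    rw [← hc, hX, hU, ← map_inv, ← map_mul, ← map_mul] at h1
    have h4 : InZ z (x⁻¹ * (c⁻¹ * u * c)) := hπeq _ _ h1
    refine hne ?_
    have h5 : (c⁻¹ * u * c) * (c⁻¹ * u * c) = x * x := by
      rw [show c⁻¹ * u * c = x * (x⁻¹ * (c⁻¹ * u * c)) by group]
      set d := x⁻¹ * (c⁻¹ * u * c) with hd
      rw [show x * d * (x * d) = x * (d * x) * d by group, ← InZ.central hD h4 x,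
        show x * (x * d) * d = x * x * (d * d) by group]
      rcases h4 with e | e <;> simp [e, hD.z_sq]
    rw [show x * x = g * (s * s) * g⁻¹ by rw [hx]; group, InZ.conj hD (hD.sq s hs),
      show (c⁻¹ * u * c) * (c⁻¹ * u * c) = c⁻¹ * (u * u) * c⁻¹⁻¹ by group, InZ.conj hD (hD.sq u hu)] at h5
    exact h5
  obtain ⟨k, hk⟩ := heven
  have hpos := orderOf_pos a
  set C := a ^ k with hC
  have hC2 : C⁻¹ = C := inv_eq_of_mul_eq_one_right (by rw [hC, ← pow_add, show k + k = orderOf a by omega, pow_orderOf_eq_one])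
  have hC1 : C ≠ 1 := fun e => by
    have := Nat.le_of_dvd (by omega) (orderOf_dvd_of_pow_eq_one e)
    omega
  have hCU : U * C * U⁻¹ = C := by rw [hC, hUak, ← hC, hC2]
  have hCX : X * C * X⁻¹ = C := by
    rw [show X = a * U by rw [ha, mul_assoc, hUU, mul_one], show a * U * C * (a * U)⁻¹ = a * (U * C * U⁻¹) * a⁻¹ by group,
      hCU, hC, ← pow_succ', pow_succ, mul_inv_cancel_right]
  obtain ⟨c, hc⟩ := QuotientGroup.mk'_surjective Z C
  rw [← hπ] at hc
  have hcfix : ∀ t : H, (π t) * C * (π t)⁻¹ = C → Fixes z t c := by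
    intro t ht
    rw [← hc, ← map_inv, ← map_mul, ← map_mul] at ht
    show InZ z (t * c * t⁻¹ * c⁻¹)
    rw [← hπone, map_mul, map_inv π c, ht, mul_inv_cancel]
  have hcN : c ∈ Subgroup.normalizer (R : Set H) := hD.cen u hu huz c ((hcfix u hCU).symm hD)
  -- a conjugate of an element of `R`
  have hv : ∀ (k' : H) (r : H), r ∈ R → ¬ InZ z r → π (u * c) = π (k' * r * k'⁻¹) → u * c ∈ R := by
    intro k' r hr hrz e
    have hd := hπeq _ _ e
    have hNv : k' * r * k'⁻¹ ∈ Subgroup.normalizer (R : Set H) := by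
      rw [show k' * r * k'⁻¹ = u * c * ((u * c)⁻¹ * (k' * r * k'⁻¹)) by group]
      exact Subgroup.mul_mem _ (Subgroup.mul_mem _ (Subgroup.le_normalizer hu) hcN)
        (Subgroup.le_normalizer (InZ.mem hD hd))
    have hR := closed hD hcard hr hrz hNv
    rw [show u * c = k' * r * k'⁻¹ * ((u * c)⁻¹ * (k' * r * k'⁻¹))⁻¹ by group]
    exact R.mul_mem hR (R.inv_mem (InZ.mem hD hd))
  have hucR : u * c ∈ R := by
    rcases Nat.even_or_odd k with ⟨j, hj⟩ | ⟨j, hj⟩
    · obtain ⟨d, hd⟩ := QuotientGroup.mk'_surjective Z (a ^ j)⁻¹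
      refine hv d u hu huz ?_
      rw [← hπ] at hd
      rw [map_mul π u c, map_mul π (d * u) d⁻¹, map_mul π d u, map_inv π d, hc, hd, inv_inv, ← hU, show (a ^ j)⁻¹ * U = U * a ^ j by rw [← hUak j]; group, mul_assoc, ← pow_add, ← hj]
    · obtain ⟨d, hd⟩ := QuotientGroup.mk'_surjective Z ((a ^ j)⁻¹ * U)
      refine hv (d * g) s hs hsz ?_
      rw [show d * g * s * (d * g)⁻¹ = d * x * d⁻¹ by rw [hx]; group]
      rw [← hπ] at hd
      rw [map_mul π u c, map_mul π (d * x) d⁻¹, map_mul π d x, map_inv π d, hc, hd, ← hX, ← hU, _root_.mul_inv_rev, inv_inv, hUi,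
        show (a ^ j)⁻¹ * U = U * a ^ j by rw [← hUak j]; group,
        show U * a ^ j * X * (U * a ^ j) = U * (a ^ j * (X * U) * a ^ j) by group, ← ha, ← pow_succ, ← pow_add,
        hC, show k = j + 1 + j by omega]
  have hcR : c ∈ R := by
    have := R.mul_mem (R.inv_mem hu) hucR
    rwa [inv_mul_cancel_left] at this
  have hcz : ¬ InZ z c := fun e => hC1 (by rw [← hc, hπone]; exact e)
  exact closed hD hcard hs hsz (hD.cen c hcR hcz x (hcfix x hCX))

end CfsgLib.Perm.Trans.PauliMax.Fusion
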