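import Cfsg.Agent.Lib.Perm.Trans.Basic
import Cfsg.Agent.Lib.Perm.Asch.SymType
import Mathlib.LinearAlgebra.Matrix.Charpoly.Basic

/-!
# The groups of Pauli matrices and their gates

`sp U x y` acts as `x` on the fixed space of the involution `U` and as `y` on the space negated by it.
-/

set_option autoImplicit false
set_option linter.all false

namespace CfsgLib.Perm.Trans.PauliMax

open scoped Matrix
open Matrix Cfsg.Geo CfsgLib.Perm.Asch

variable {ι : Type} [Fintype ι] [DecidableEq ι] {F : Type*} [Field F]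

/-- the elements of a group of Pauli matrices -/
structure Pauli (R : Subgroup (GL ι F)) (i : F) : Prop where
  ii : i * i = -1
  two : (2 : F) ≠ 0
  sign : ∀ r ∈ R, ∀ s ∈ R, (r : Matrix ι ι F) * s = (s : Matrix ι ι F) * r ∨
    (r : Matrix ι ι F) * s = -((s : Matrix ι ι F) * r)
  square : ∀ r ∈ R, (r : Matrix ι ι F) * r = 1 ∨ (r : Matrix ι ι F) * r = -1
  scal : ∀ c : Fˣ, c ^ 4 = 1 → sch ι F c ∈ R
  span : Submodule.span F (matrixSet R) = ⊤

/-- `x` on the fixed space, `y` on the negated space -/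
def sp (U : Matrix ι ι F) (x y : F) : Matrix ι ι F := ((x + y) / 2) • 1 + ((x - y) / 2) • U

variable {U : Matrix ι ι F}

theorem sp_mul (hU : U * U = 1) (h2 : (2 : F) ≠ 0) (x y x' y' : F) :
    sp U x y * sp U x' y' = sp U (x * x') (y * y') := by
  simp only [sp, add_mul, mul_add, smul_mul_assoc, mul_smul_comm, one_mul, mul_one, hU, smul_smul]
  match_scalars <;> field_simp <;> ring

theorem sp_diag (h2 : (2 : F) ≠ 0) (c : F) : sp U c c = c • 1 := by
  rw [sp, show (c + c) / 2 = c by field_simp; ring, show (c - c) / 2 = 0 by simp, zero_smul, add_zero]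

theorem sp_one_one (h2 : (2 : F) ≠ 0) : sp U 1 1 = 1 := by rw [sp_diag h2, one_smul]

theorem sp_one_neg_one (h2 : (2 : F) ≠ 0) : sp U 1 (-1) = U := by
  rw [sp, add_neg_cancel, zero_div, zero_smul, zero_add, sub_neg_eq_add, show ((1 : F) + 1) / 2 = 1 by field_simp; ring,
    one_smul]

theorem sp_smul (c x y : F) : c • sp U x y = sp U (c * x) (c * y) := by
  simp only [sp, smul_add, smul_smul]
  congr 2 <;> ring

theorem sp_comm {X : Matrix ι ι F} (h : X * U = U * X) (x y : F) : X * sp U x y = sp U x y * X := by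
  simp only [sp, mul_add, add_mul, mul_smul_comm, smul_mul_assoc, mul_one, one_mul, h]

theorem sp_anti {X : Matrix ι ι F} (h : X * U = -(U * X)) (x y : F) : X * sp U x y = sp U y x * X := by
  simp only [sp, mul_add, add_mul, mul_smul_comm, smul_mul_assoc, mul_one, one_mul, h]
  match_scalars <;> ring

/-- the square root `diag (1, i)` of an involution -/
def gate (U : Matrix ι ι F) (hU : U * U = 1) (i : F) (h2 : (2 : F) ≠ 0) (hi : i * i = -1) : GL ι F where
  val := sp U 1 i
  inv := sp U 1 (-i)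
  val_inv := by rw [sp_mul hU h2, mul_neg, hi, neg_neg, one_mul, sp_one_one h2]
  inv_val := by rw [sp_mul hU h2, neg_mul, hi, neg_neg, one_mul, sp_one_one h2]

variable {R : Subgroup (GL ι F)} {i : F}

/-- a non-scalar involution of the group -/
structure Invo (R : Subgroup (GL ι F)) (u : GL ι F) : Prop where
  mem : u ∈ R
  sq : (u : Matrix ι ι F) * u = 1
  nsc : ¬ ∃ c : F, (u : Matrix ι ι F) = c • 1

theorem Invo.mul_self {u : GL ι F} (h : Invo R u) : u * u = 1 := Units.ext (by rw [Units.val_mul, h.sq, Units.val_one])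

theorem Invo.inv_eq {u : GL ι F} (h : Invo R u) : u⁻¹ = u := inv_eq_of_mul_eq_one_right h.mul_self

/-- the gate of an involution of the group -/
def Invo.G {u : GL ι F} (h : Invo R u) (hP : Pauli R i) : GL ι F :=
  gate (u : Matrix ι ι F) h.sq i hP.two hP.ii

theorem Invo.G_val {u : GL ι F} (h : Invo R u) (hP : Pauli R i) :
    (h.G hP : Matrix ι ι F) = sp (u : Matrix ι ι F) 1 i := rfl

theorem Invo.G_inv_val {u : GL ι F} (h : Invo R u) (hP : Pauli R i) :
    (((h.G hP)⁻¹ : GL ι F) : Matrix ι ι F) = sp (u : Matrix ι ι F) 1 (-i) := rfl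

theorem Invo.G_congr {u v : GL ι F} (h : Invo R u) (h' : Invo R v) (hP : Pauli R i) (e : u = v) :
    h.G hP = h'.G hP := by subst e; rfl

theorem Invo.G_sq {u : GL ι F} (h : Invo R u) (hP : Pauli R i) : h.G hP * h.G hP = u := by
  refine Units.ext ?_
  rw [Units.val_mul, h.G_val, sp_mul h.sq hP.two, hP.ii, one_mul, sp_one_neg_one hP.two]

theorem Pauli.i_ne_zero (hP : Pauli R i) : i ≠ 0 := fun h => by
  have := hP.ii
  rw [h, mul_zero] at this
  exact one_ne_zero (neg_eq_zero.1 this.symm)

/-- the unit `i` -/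
def Pauli.iu (hP : Pauli R i) : Fˣ := Units.mk0 i hP.i_ne_zero

theorem Pauli.iu_sq (hP : Pauli R i) : hP.iu ^ 2 = -1 := Units.ext (by simpa [sq, Pauli.iu] using hP.ii)

theorem Pauli.iu_mem (hP : Pauli R i) : sch ι F hP.iu ∈ R :=
  hP.scal _ (by rw [show (4 : ℕ) = 2 * 2 from rfl, pow_mul, hP.iu_sq, neg_one_sq])

/-- `c` is commuting with the group, so it is a scalar -/
theorem Pauli.scalar_of_commute (hP : Pauli R i) [Nonempty ι] {X : Matrix ι ι F}
    (h : ∀ r ∈ R, X * r = (r : Matrix ι ι F) * X) : ∃ c : F, X = c • 1 := by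
  have hall : ∀ Y : Matrix ι ι F, X * Y = Y * X := by
    intro Y
    have hY : Y ∈ Submodule.span F (matrixSet R) := hP.span.symm ▸ Submodule.mem_top
    induction hY using Submodule.span_induction with
    | mem y hy =>
      obtain ⟨r, hr, rfl⟩ := hy
      exact h r hr
    | zero => rw [mul_zero, zero_mul]
    | add y z _ _ hy hz => rw [mul_add, add_mul, hy, hz]
    | smul c y _ hy => rw [mul_smul_comm, smul_mul_assoc, hy]
  let j := Classical.arbitrary ι
  refine ⟨X j j, Matrix.ext fun a b => ?_⟩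
  have hab := congrFun (congrFun (hall (Matrix.single b j 1)) a) j
  have hbb := congrFun (congrFun (hall (Matrix.single b j 1)) b) j
  rw [Matrix.mul_single_apply_same, mul_one] at hab hbb
  rw [Matrix.single_mul_apply_same, one_mul] at hbb
  rcases eq_or_ne a b with rfl | hne
  · rw [hbb, Matrix.smul_apply, Matrix.one_apply_eq, smul_eq_mul, mul_one]
  · rw [hab, Matrix.single_mul_apply_of_ne _ _ _ _ _ hne, Matrix.smul_apply, Matrix.one_apply_ne hne, smul_zero]

theorem Pauli.exists_anti (hP : Pauli R i) [Nonempty ι] {r : GL ι F} (hr : r ∈ R)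
    (hnsc : ¬ ∃ c : F, (r : Matrix ι ι F) = c • 1) :
    ∃ s ∈ R, (r : Matrix ι ι F) * s = -((s : Matrix ι ι F) * r) := by
  by_contra hcon
  push Not at hcon
  exact hnsc (hP.scalar_of_commute fun s hs => (hP.sign r hr s hs).resolve_right (hcon s hs))

/-- a non-scalar element gives an involution after a multiplication by a fourth root of unity -/
theorem Pauli.exists_invo (hP : Pauli R i) {r : GL ι F} (hr : r ∈ R)
    (hnsc : ¬ ∃ c : F, (r : Matrix ι ι F) = c • 1) :
    ∃ (v : GL ι F) (c : F), Invo R v ∧ c ≠ 0 ∧ (r : Matrix ι ι F) = c • (v : Matrix ι ι F) := by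
  rcases hP.square r hr with h | h
  · exact ⟨r, 1, ⟨hr, h, hnsc⟩, one_ne_zero, (one_smul F _).symm⟩
  · have hval : ((sch ι F hP.iu * r : GL ι F) : Matrix ι ι F) = i • (r : Matrix ι ι F) := by
      rw [Units.val_mul, sch_coe, smul_mul_assoc, one_mul]; rfl
    refine ⟨sch ι F hP.iu * r, -i, ⟨mul_mem hP.iu_mem hr, ?_, fun ⟨c, hc⟩ => hnsc ⟨-i * c, ?_⟩⟩,
      neg_ne_zero.2 hP.i_ne_zero, ?_⟩
    · rw [hval, smul_mul_assoc, mul_smul_comm, smul_smul, h, hP.ii, neg_one_smul, neg_neg]
    · rw [mul_smul, ← hc, hval, smul_smul, neg_mul, hP.ii, neg_neg, one_smul]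
    · rw [hval, smul_smul, neg_mul, hP.ii, neg_neg, one_smul]

theorem Invo.exists_anti {u : GL ι F} [Nonempty ι] (h : Invo R u) (hP : Pauli R i) :
    ∃ s, Invo R s ∧ (u : Matrix ι ι F) * s = -((s : Matrix ι ι F) * u) := by
  obtain ⟨s, hs, hsu⟩ := hP.exists_anti h.mem h.nsc
  have hns : ¬ ∃ c : F, (s : Matrix ι ι F) = c • 1 := by
    rintro ⟨c, hc⟩
    rw [hc, mul_smul_comm, mul_one, smul_mul_assoc, one_mul, ] at hsu
    have h1 : (2 * c) • (u : Matrix ι ι F) = 0 := by rw [two_mul, add_smul]; nth_rw 1 [hsu]; rw [neg_add_cancel]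
    have h2 : (s : Matrix ι ι F) = 0 := by
      rcases smul_eq_zero.1 h1 with h0 | h0
      · rw [hc, (mul_eq_zero.1 h0).resolve_left hP.two, zero_smul]
      · exact absurd h0 u.ne_zero
    exact s.ne_zero h2
  obtain ⟨v, c, hv, hc, e⟩ := hP.exists_invo hs hns
  refine ⟨v, hv, ?_⟩
  rw [e, mul_smul_comm, smul_mul_assoc, ← smul_neg] at hsu
  exact smul_right_injective _ hc hsu

theorem Invo.G_anti {u : GL ι F} (h : Invo R u) (hP : Pauli R i) {r : GL ι F}
    (hr : (r : Matrix ι ι F) * u = -((u : Matrix ι ι F) * r)) :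
    ((h.G hP * r * (h.G hP)⁻¹ : GL ι F) : Matrix ι ι F) = (-i) • ((u : Matrix ι ι F) * r) := by
  rw [Units.val_mul, Units.val_mul, h.G_val, h.G_inv_val, mul_assoc, sp_anti hr, ← mul_assoc, sp_mul h.sq hP.two,
    mul_one, one_mul, show sp (u : Matrix ι ι F) (-i) i = (-i) • (u : Matrix ι ι F) by
      conv_rhs => rw [← sp_one_neg_one (U := (u : Matrix ι ι F)) hP.two, sp_smul, mul_one, mul_neg_one, neg_neg],
    smul_mul_assoc]

theorem Invo.G_comm {u : GL ι F} (h : Invo R u) (hP : Pauli R i) {r : GL ι F}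
    (hr : (r : Matrix ι ι F) * u = (u : Matrix ι ι F) * r) : h.G hP * r * (h.G hP)⁻¹ = r := by
  rw [mul_inv_eq_iff_eq_mul]
  exact Units.ext (by rw [Units.val_mul, Units.val_mul, h.G_val, sp_comm hr])

theorem Invo.G_conj_mem {u : GL ι F} (h : Invo R u) (hP : Pauli R i) {r : GL ι F} (hr : r ∈ R) :
    h.G hP * r * (h.G hP)⁻¹ ∈ R := by
  rcases hP.sign r hr u h.mem with hc | hc
  · rwa [h.G_comm hP hc]
  · rw [show h.G hP * r * (h.G hP)⁻¹ = (sch ι F hP.iu)⁻¹ * (u * r) from Units.ext (by
      rw [h.G_anti hP hc, ← map_inv, Units.val_mul, Units.val_mul, sch_coe, smul_mul_assoc, one_mul]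
      congr 1
      rw [Units.val_inv_eq_inv_val]
      exact (inv_eq_of_mul_eq_one_right (by simp [Pauli.iu, mul_neg, hP.ii])).symm)]
    exact mul_mem (inv_mem hP.iu_mem) (mul_mem h.mem hr)

theorem Invo.G_mem_normalizer [Finite F] {u : GL ι F} (h : Invo R u) (hP : Pauli R i) :
    h.G hP ∈ Subgroup.normalizer (R : Set (GL ι F)) := by
  haveI : Finite (Matrix ι ι F) := inferInstanceAs (Finite (ι → ι → F))
  haveI : Finite (GL ι F) := Finite.of_injective _ Units.val_injective
  haveI : Finite R := inferInstance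
  refine Subgroup.mem_normalizer_iff.2 fun r => ⟨h.G_conj_mem hP, fun hr => ?_⟩
  obtain ⟨r', hr'⟩ := Finite.surjective_of_injective
    (f := fun x : R => (⟨_, h.G_conj_mem hP x.2⟩ : R)) (fun a b hab => Subtype.ext (by simpa using hab)) ⟨_, hr⟩
  have := congrArg Subtype.val hr'
  simp only [mul_left_inj, mul_right_inj] at this
  exact this ▸ r'.2

/-- the determinant of `sp U t 1` -/
theorem det_sp [Nonempty ι] (hU : U * U = 1) (h2 : (2 : F) ≠ 0) {s : GL ι F} (hs : (s : Matrix ι ι F) * U = -(U * s))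
    {k : ℕ} (hk : Fintype.card ι = 2 * k) (t : F) : (sp U 1 t).det = t ^ k := by
  classical
  let P : Matrix ι ι (Polynomial F) :=
    (Polynomial.C (1 / 2 : F) * (Polynomial.X + 1)) • (1 : Matrix ι ι (Polynomial F)) +
      (Polynomial.C (1 / 2 : F) * (1 - Polynomial.X)) • U.map (Polynomial.C : F →+* Polynomial F)
  let Q : Matrix ι ι (Polynomial F) :=
    (Polynomial.C (1 / 2 : F) * (Polynomial.X + 1)) • (1 : Matrix ι ι (Polynomial F)) +
      (Polynomial.C (1 / 2 : F) * (Polynomial.X - 1)) • U.map (Polynomial.C : F →+* Polynomial F)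
  have hUC : U.map (Polynomial.C : F →+* Polynomial F) * U.map (Polynomial.C : F →+* Polynomial F) = 1 := by
    rw [← Matrix.map_mul, hU, Matrix.map_one _ (map_zero _) (map_one _)]
  have hPQ : P * Q = (Polynomial.X : Polynomial F) • (1 : Matrix ι ι (Polynomial F)) := by
    simp only [P, Q, add_mul, mul_add, smul_mul_assoc, mul_smul_comm, one_mul, mul_one, hUC, smul_smul]
    have hh : Polynomial.C (1 / 2 : F) * 2 = 1 := by
      rw [← Polynomial.C_ofNat, ← map_mul, div_mul_cancel₀ _ h2, map_one]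
    match_scalars
    · linear_combination (Polynomial.X * (Polynomial.C (1 / 2 : F) * 2 + 1)) * hh
    · ring
  have hconj : P * (s : Matrix ι ι F).map (Polynomial.C : F →+* Polynomial F) = (s : Matrix ι ι F).map (Polynomial.C : F →+* Polynomial F) * Q := by
    have hsC : (s : Matrix ι ι F).map (Polynomial.C : F →+* Polynomial F) * U.map (Polynomial.C : F →+* Polynomial F) =
        -(U.map (Polynomial.C : F →+* Polynomial F) * (s : Matrix ι ι F).map (Polynomial.C : F →+* Polynomial F)) := by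
      rw [← Matrix.map_mul, hs, Matrix.map_neg _ (fun a => map_neg _ a), Matrix.map_mul]
    simp only [P, Q, add_mul, mul_add, smul_mul_assoc, mul_smul_comm, one_mul, mul_one, hsC]
    match_scalars <;> ring
  have hdet : P.det = Q.det := by
    have := congrArg Matrix.det hconj
    rw [Matrix.det_mul, Matrix.det_mul, mul_comm] at this
    refine mul_left_cancel₀ ?_ this
    rw [← RingHom.mapMatrix_apply, ← RingHom.map_det, ne_eq, Polynomial.C_eq_zero]
    exact ((Matrix.isUnit_iff_isUnit_det _).1 s.isUnit).ne_zero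
  have hsq : (P.det - Polynomial.X ^ k) * (P.det + Polynomial.X ^ k) = 0 := by
    have := congrArg Matrix.det hPQ
    rw [Matrix.det_mul, ← hdet, Matrix.det_smul, Matrix.det_one, mul_one, hk, two_mul, pow_add] at this
    linear_combination this
  have hev : ∀ x : F, P.det.eval x = (sp U 1 x).det := by
    intro x
    rw [← Polynomial.coe_evalRingHom, RingHom.map_det]
    congr 1
    ext a b
    simp [P, sp, Matrix.one_apply]
    split_ifs <;> simp only [Polynomial.eval_add, Polynomial.eval_mul, Polynomial.eval_C, Polynomial.eval_X, Polynomial.eval_zero, Polynomial.eval_one] <;> field_simp <;> ring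
  have hP : P.det = Polynomial.X ^ k := by
    rcases mul_eq_zero.1 hsq with h | h
    · exact sub_eq_zero.1 h
    · exfalso
      have := congrArg (Polynomial.eval 1) h
      rw [Polynomial.eval_add, Polynomial.eval_pow, Polynomial.eval_X, one_pow, hev, sp_one_one h2, Matrix.det_one,
        Polynomial.eval_zero, one_add_one_eq_two] at this
      exact h2 this
  rw [← hev, hP, Polynomial.eval_pow, Polynomial.eval_X]

theorem Invo.G_mem_SL [Nonempty ι] {u : GL ι F} (h : Invo R u) (hP : Pauli R i) (h8 : 8 ∣ Fintype.card ι) :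
    h.G hP ∈ specialLinear ι F := by
  obtain ⟨s, hs, hus⟩ := h.exists_anti hP
  obtain ⟨q, hq⟩ := h8
  show Matrix.GeneralLinearGroup.det _ = 1
  refine Units.ext ?_
  rw [Matrix.GeneralLinearGroup.val_det_apply, h.G_val,
    det_sp h.sq hP.two (s := s) (by rw [hus, neg_neg]) (k := 4 * q) (by omega), pow_mul,
    show i ^ 4 = 1 by linear_combination (i * i - 1) * hP.ii, one_pow, Units.val_one]

end CfsgLib.Perm.Trans.PauliMax
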