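import Cfsg.Agent.Lib.Perm.Trans.PauliMax.Core
import Cfsg.Agent.Lib.Perm.Elusive.STFour.Basics
import Cfsg.Agent.Lib.Perm.Asch.Proper

/-!
# Normalisers of symplectic type two-groups are maximal in the special linear groups
-/

set_option autoImplicit false
set_option linter.all false

namespace CfsgLib.Perm.Trans.PauliMax

open scoped Matrix
open Matrix Cfsg.Geo CfsgLib.Perm.Asch

variable {n : ℕ} {F : Type*} [Field F] [Fintype F]

/-- the class data gives a group of Pauli matrices of a space of dimension a power of two -/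
theorem pauli_of_data (hn : 3 ≤ n) {R : Subgroup (GL (Fin n) F)} (hR : IsLinearSymplecticTypeData 2 R) :
    ∃ (i : F) (m : ℕ), Pauli R i ∧ n = 2 ^ m ∧ (Fintype.card F).Prime ∧ Fintype.card F % 4 = 1 := by
  classical
  obtain ⟨p, e, hrp, ⟨hp, hcp, hcard, hdvd, -⟩, hcases⟩ := hR.field
  obtain ⟨he, hz, -, m, hcardR⟩ : e = 1 ∧ Nat.card (Subgroup.center R) = 4 ∧ 4 ≤ Fintype.card (Fin n) ∧
      ∃ m : ℕ, Nat.card R = 2 ^ (2 + 2 * m) := by
    rcases hcases with ⟨h, -⟩ | ⟨-, h⟩ | ⟨-, -, h, -⟩
    · norm_num at h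
    · exact h
    · rw [Fintype.card_fin] at h; omega
  subst he
  rw [pow_one] at hcard
  haveI := hcp
  haveI : Nonempty (Fin n) := ⟨⟨0, by omega⟩⟩
  haveI : Finite (Matrix (Fin n) (Fin n) F) := inferInstanceAs (Finite (Fin n → Fin n → F))
  haveI : Finite (GL (Fin n) F) := Finite.of_injective _ Units.val_injective
  haveI : Fintype R := Fintype.ofFinite _
  have hp4 : p % 4 = 1 := by
    rw [hz, pow_one] at hdvd
    have := hp.two_le
    obtain ⟨k, hk⟩ := hdvd
    omega
  have h2 : (2 : F) ≠ 0 := fun h => by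
    have := Nat.le_of_dvd two_pos ((CharP.cast_eq_zero_iff F p 2).1 (by exact_mod_cast h))
    have := hp.two_le
    omega
  have hS : CfsgLib.Perm.Elusive.STFour.Setting R := ⟨inferInstance, h2, hR.symplecticType, hR.absIrred⟩
  -- the scalars of order dividing four
  have hex : ∀ z : Subgroup.center R, ∃ c : Fˣ, sch (Fin n) F c = ((z : R) : GL (Fin n) F) := by
    intro z
    obtain ⟨c, hc⟩ := (hS.scalar_iff (z : R).2).2 z.2
    have hc0 : c ≠ 0 := fun h => ((z : R) : GL (Fin n) F).ne_zero (by rw [hc, h, zero_smul])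
    exact ⟨Units.mk0 c hc0, Units.ext (by rw [sch_coe, hc]; rfl)⟩
  choose χ hχ using hex
  have hχinj : Function.Injective χ := fun a b h => Subtype.ext (Subtype.ext (by rw [← hχ a, ← hχ b, h]))
  have hχ4 : ∀ z, χ z ^ 4 = 1 := fun z => sch_injective (ι := Fin n) (by
    rw [map_pow, hχ, map_one, hS.pow_four (z : R).2])
  haveI : DecidableEq Fˣ := Classical.decEq _
  let T : Finset Fˣ := Finset.univ.filter fun c : Fˣ => c ^ 4 = 1
  have hT4 : T.card ≤ 4 := IsCyclic.card_pow_eq_one_le (by norm_num)
  haveI : Fintype (Subgroup.center R) := Fintype.ofFinite _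
  have hsub : Finset.univ.image χ ⊆ T := by
    intro c hc
    obtain ⟨z, -, rfl⟩ := Finset.mem_image.1 hc
    simp [T, hχ4 z]
  have himg : (Finset.univ.image χ).card = 4 := by
    rw [Finset.card_image_of_injective _ hχinj, Finset.card_univ, ← Nat.card_eq_fintype_card, hz]
  have heq := Finset.eq_of_subset_of_card_le hsub (by omega)
  have hscal : ∀ c : Fˣ, c ^ 4 = 1 → sch (Fin n) F c ∈ R := by
    intro c hc
    have : c ∈ Finset.univ.image χ := by rw [heq]; simp [T, hc]
    obtain ⟨z, -, rfl⟩ := Finset.mem_image.1 this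
    rw [hχ]
    exact (z : R).2
  obtain ⟨c, hc4, hc2⟩ : ∃ c : Fˣ, c ^ 4 = 1 ∧ c ^ 2 ≠ 1 := by
    by_contra hcon
    push Not at hcon
    have hle : T.card ≤ 2 := le_trans (Finset.card_le_card fun c hc => by
      simp only [T, Finset.mem_filter] at hc ⊢
      exact ⟨hc.1, hcon c hc.2⟩) (IsCyclic.card_pow_eq_one_le (α := Fˣ) two_pos)
    rw [← heq, himg] at hle
    omega
  have hii : (c : F) * c = -1 := by
    have h4 : ((c : F) * c) * ((c : F) * c) = 1 := by
      rw [← Units.val_mul, ← Units.val_mul, show c * c * (c * c) = c ^ 4 by simp [pow_succ, mul_assoc], hc4, Units.val_one]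
    rcases mul_self_eq_one_iff.1 h4 with h | h
    · exact absurd (Units.ext (by rw [Units.val_pow_eq_pow_val, pow_two, h, Units.val_one])) hc2
    · exact h
  -- the span
  have hcard0 : (Fintype.card R : F) ≠ 0 := by
    rw [← Nat.card_eq_fintype_card, hcardR, Nat.cast_pow]
    exact pow_ne_zero _ (by exact_mod_cast h2)
  let av : Matrix (Fin n) (Fin n) F → Matrix (Fin n) (Fin n) F := fun X =>
    ∑ r : R, ((r : GL (Fin n) F) : Matrix (Fin n) (Fin n) F) * X *
      (((r : GL (Fin n) F)⁻¹ : GL (Fin n) F) : Matrix (Fin n) (Fin n) F)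
  have hav : ∀ X, ∃ s : F, av X = s • 1 ∧ (n : F) * s = (Fintype.card R : F) * X.trace := by
    intro X
    obtain ⟨s, hs⟩ := hR.absIrred.2 (av X) (by
      rintro _ ⟨g, hg, rfl⟩
      show (∑ r : R, _) * (g : Matrix (Fin n) (Fin n) F) = (g : Matrix (Fin n) (Fin n) F) * ∑ r : R, _
      rw [Finset.sum_mul, Finset.mul_sum]
      refine Fintype.sum_equiv (Equiv.mulLeft (⟨g, hg⟩ : R)⁻¹) _ _ fun r => ?_
      simp only [Equiv.coe_mulLeft, Subgroup.coe_mul, Subgroup.coe_inv, _root_.mul_inv_rev, inv_inv, Units.val_mul]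
      simp only [← mul_assoc, Units.mul_inv, one_mul])
    refine ⟨s, hs, ?_⟩
    have h := congrArg Matrix.trace hs
    rw [Matrix.trace_smul, Matrix.trace_one, Fintype.card_fin, smul_eq_mul] at h
    rw [mul_comm, ← h]
    show (∑ r : R, _ : Matrix (Fin n) (Fin n) F).trace = _
    rw [Matrix.trace_sum, Finset.sum_congr rfl fun r _ => ?_, Finset.sum_const, Finset.card_univ, nsmul_eq_mul]
    rw [Matrix.trace_mul_comm, ← mul_assoc, Units.inv_mul, one_mul]
  have hnF : (n : F) ≠ 0 := fun h => by
    obtain ⟨s, -, hs⟩ := hav (Matrix.single (Classical.arbitrary (Fin n)) (Classical.arbitrary (Fin n)) 1)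
    rw [h, zero_mul, Matrix.trace_single_eq_same, mul_one] at hs
    exact hcard0 hs.symm
  have hspan : Submodule.span F (matrixSet R) = ⊤ := by
    have hunit : ∀ b k : Fin n, Matrix.single b k (1 : F) ∈ Submodule.span F (matrixSet R) := by
      intro b k
      have hmem : ∑ r : R, (((r : GL (Fin n) F)⁻¹ : GL (Fin n) F) : Matrix (Fin n) (Fin n) F) k b •
          ((r : GL (Fin n) F) : Matrix (Fin n) (Fin n) F) ∈ Submodule.span F (matrixSet R) :=
        Submodule.sum_mem _ fun r _ => Submodule.smul_mem _ _ (Submodule.subset_span ⟨_, r.2, rfl⟩)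
      have he : ∑ r : R, (((r : GL (Fin n) F)⁻¹ : GL (Fin n) F) : Matrix (Fin n) (Fin n) F) k b •
          ((r : GL (Fin n) F) : Matrix (Fin n) (Fin n) F) =
            ((Fintype.card R : F) / n) • Matrix.single b k (1 : F) := by
        ext a j
        obtain ⟨s, hs, hns⟩ := hav (Matrix.single j k 1)
        have h := congrFun (congrFun hs a) b
        simp only [av, Matrix.sum_apply, Matrix.smul_apply, Matrix.one_apply, smul_eq_mul] at h
        simp only [Matrix.sum_apply, Matrix.smul_apply, smul_eq_mul]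
        have hterm : ∀ r : R, (((r : GL (Fin n) F)⁻¹ : GL (Fin n) F) : Matrix (Fin n) (Fin n) F) k b *
            ((r : GL (Fin n) F) : Matrix (Fin n) (Fin n) F) a j =
          ((((r : GL (Fin n) F) : Matrix (Fin n) (Fin n) F) * Matrix.single j k (1 : F) *
            (((r : GL (Fin n) F)⁻¹ : GL (Fin n) F) : Matrix (Fin n) (Fin n) F) : Matrix (Fin n) (Fin n) F)) a b := by
          intro r
          rw [Matrix.mul_apply, Finset.sum_eq_single k, Matrix.mul_single_apply_same, mul_one, mul_comm]
          · intro x _ hx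
            rw [Matrix.mul_single_apply_of_ne _ _ _ _ _ hx, zero_mul]
          · intro hk; exact absurd (Finset.mem_univ _) hk
        refine ((Finset.sum_congr rfl fun r _ => hterm r).trans h).trans ?_
        by_cases hjk : j = k
        · subst hjk
          rw [Matrix.trace_single_eq_same, mul_one] at hns
          rw [Matrix.single_apply]
          by_cases hab : a = b
          · subst hab
            rw [← hns]
            simp
            field_simp
          · simp [hab, Ne.symm hab]
        · rw [Matrix.trace_single_eq_of_ne _ _ _ hjk, mul_zero] at hns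
          rw [(mul_eq_zero.1 hns).resolve_left hnF, Matrix.single_apply]
          simp [Ne.symm hjk]
      rw [he] at hmem
      exact (Submodule.smul_mem_iff _ (div_ne_zero hcard0 hnF)).1 hmem
    refine Submodule.eq_top_iff'.2 fun X => ?_
    rw [Matrix.matrix_eq_sum_single X]
    refine Submodule.sum_mem _ fun a _ => Submodule.sum_mem _ fun b _ => ?_
    rw [show Matrix.single a b (X a b) = X a b • Matrix.single a b (1 : F) by simp]
    exact Submodule.smul_mem _ _ (hunit a b)
  have hP : Pauli R (c : F) :=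
    ⟨hii, h2, fun r hr s hs => hS.sign hr hs, fun r hr => hS.square hr, hscal, hspan⟩
  refine ⟨c, m, hP, ?_, hcard ▸ hp, by rw [hcard]; exact hp4⟩
  -- a basis of the matrix algebra
  set Z := Subgroup.center R with hZdef
  haveI : Fintype (R ⧸ Z) := Fintype.ofFinite _
  let v : R ⧸ Z → Matrix (Fin n) (Fin n) F := fun q => ((q.out : GL (Fin n) F) : Matrix (Fin n) (Fin n) F)
  have hl : ∀ (x : R) (q : R ⧸ Z), ∃ s : F, (((x : GL (Fin n) F) : Matrix (Fin n) (Fin n) F) * v q) *
      (((x : GL (Fin n) F)⁻¹ : GL (Fin n) F) : Matrix (Fin n) (Fin n) F) = s • v q := by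
    intro x q
    rcases hP.sign x x.2 q.out q.out.2 with h | h
    · exact ⟨1, by rw [show ((x : GL (Fin n) F) : Matrix (Fin n) (Fin n) F) * v q = v q * (x : GL (Fin n) F) from h,
        mul_assoc, Units.mul_inv, mul_one, one_smul]⟩
    · exact ⟨-1, by rw [show ((x : GL (Fin n) F) : Matrix (Fin n) (Fin n) F) * v q = -(v q * (x : GL (Fin n) F)) from h,
        neg_mul, mul_assoc, Units.mul_inv, mul_one, neg_one_smul]⟩
  choose l hl using hl
  let T' : R → Matrix (Fin n) (Fin n) F →ₗ[F] Matrix (Fin n) (Fin n) F := fun x =>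
    (LinearMap.mulRight F (((x : GL (Fin n) F)⁻¹ : GL (Fin n) F) : Matrix (Fin n) (Fin n) F)) ∘ₗ
      (LinearMap.mulLeft F ((x : GL (Fin n) F) : Matrix (Fin n) (Fin n) F))
  have hind : LinearIndependent F v := CfsgLib.Perm.Asch.indep_of_eigen v
    (fun q => (q.out : GL (Fin n) F).ne_zero) T' l (fun x q => hl x q) (fun j k hjk => by
      by_contra hcon
      push Not at hcon
      refine hjk ?_
      rw [← QuotientGroup.out_eq' j, ← QuotientGroup.out_eq' k, QuotientGroup.eq, Subgroup.mem_center_iff]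
      intro x
      -- the same eigenvalue for the two representatives
      have hx : ∀ q, (x : GL (Fin n) F) * q * (x : GL (Fin n) F)⁻¹ = (x : GL (Fin n) F) * q * (x : GL (Fin n) F)⁻¹ := fun _ => rfl
      have e1 := hl x j
      have e2 := hl x k
      rw [hcon x] at e1
      have hs : l x k * l x k = 1 := by
        rcases hP.sign x x.2 k.out k.out.2 with h | h
        · have h' : v k = l x k • v k := by
            rw [← hl x k, show ((x : GL (Fin n) F) : Matrix (Fin n) (Fin n) F) * v k = v k * (x : GL (Fin n) F) from h,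
              mul_assoc, Units.mul_inv, mul_one]
          have h'' : (l x k - 1) • v k = 0 := by rw [sub_smul, one_smul, ← h', sub_self]
          rw [sub_eq_zero.1 ((smul_eq_zero.1 h'').resolve_right (k.out : GL (Fin n) F).ne_zero), one_mul]
        · have h' : -v k = l x k • v k := by
            rw [← hl x k, show ((x : GL (Fin n) F) : Matrix (Fin n) (Fin n) F) * v k = -(v k * (x : GL (Fin n) F)) from h,
              neg_mul, mul_assoc, Units.mul_inv, mul_one]
          have h'' : (l x k + 1) • v k = 0 := by rw [add_smul, one_smul, ← h', neg_add_cancel]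
          rw [eq_neg_of_add_eq_zero_left ((smul_eq_zero.1 h'').resolve_right (k.out : GL (Fin n) F).ne_zero)]
          ring
      have hmem : ((x : GL (Fin n) F) * ((j.out : GL (Fin n) F)⁻¹ * k.out) * (x : GL (Fin n) F)⁻¹) =
          (j.out : GL (Fin n) F)⁻¹ * k.out := by
        set sc : Fˣ := ⟨l x k, l x k, hs, hs⟩ with hsc
        have f1 : (x : GL (Fin n) F) * j.out * (x : GL (Fin n) F)⁻¹ = sch (Fin n) F sc * j.out := Units.ext (by
          rw [Units.val_mul, Units.val_mul, Units.val_mul, sch_coe, smul_mul_assoc, one_mul]; exact e1)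
        have f2 : (x : GL (Fin n) F) * k.out * (x : GL (Fin n) F)⁻¹ = sch (Fin n) F sc * k.out := Units.ext (by
          rw [Units.val_mul, Units.val_mul, Units.val_mul, sch_coe, smul_mul_assoc, one_mul]; exact e2)
        calc (x : GL (Fin n) F) * ((j.out : GL (Fin n) F)⁻¹ * k.out) * (x : GL (Fin n) F)⁻¹
            = ((x : GL (Fin n) F) * j.out * (x : GL (Fin n) F)⁻¹)⁻¹ * ((x : GL (Fin n) F) * k.out * (x : GL (Fin n) F)⁻¹) := by group
          _ = _ := by rw [f1, f2]; group
      exact Subtype.ext (mul_inv_eq_iff_eq_mul.1 hmem))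
  have htop : Submodule.span F (Set.range v) = ⊤ := by
    rw [eq_top_iff, ← hspan, Submodule.span_le]
    rintro _ ⟨g, hg, rfl⟩
    obtain ⟨z, hz'⟩ := QuotientGroup.mk_out_eq_mul Z (⟨g, hg⟩ : R)
    obtain ⟨s, hs⟩ := (hS.scalar_iff (z : R).2).2 z.2
    have hs0 : s ≠ 0 := fun h => ((z : R) : GL (Fin n) F).ne_zero (by rw [hs, h, zero_smul])
    have hvq : v (QuotientGroup.mk (⟨g, hg⟩ : R)) = s • (g : Matrix (Fin n) (Fin n) F) := by
      show (((QuotientGroup.mk (⟨g, hg⟩ : R) : R ⧸ Z).out : R) : GL (Fin n) F).val = _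
      rw [hz', Subgroup.coe_mul, Units.val_mul, hs, mul_smul_comm, mul_one]
    show (g : Matrix (Fin n) (Fin n) F) ∈ _
    rw [show (g : Matrix (Fin n) (Fin n) F) = s⁻¹ • v (QuotientGroup.mk (⟨g, hg⟩ : R)) by
      rw [hvq, smul_smul, inv_mul_cancel₀ hs0, one_smul]]
    exact Submodule.smul_mem _ _ (Submodule.subset_span ⟨_, rfl⟩)
  have hdim : n * n = Fintype.card (R ⧸ Z) := by
    have h := finrank_span_eq_card hind
    rw [htop, finrank_top, Module.finrank_matrix, Module.finrank_self, Fintype.card_fin, mul_one] at h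
    exact h
  have hc2 := Subgroup.card_eq_card_quotient_mul_card_subgroup Z
  rw [hz, hcardR, Nat.card_eq_fintype_card, ← hdim, pow_add, show 2 ^ (2 * m) = 2 ^ m * 2 ^ m by rw [← pow_add, two_mul]] at hc2
  exact Nat.mul_self_inj.1 (by omega)

/-- **The two-group clause of class six.** -/
theorem sl_pauli_maximal (hn : 8 ≤ n) {R : Subgroup (GL (Fin n) F)} (hR : IsLinearSymplecticTypeData 2 R) :
    IsMaximalIn (specialLinear (Fin n) F) (subgroupNormalizer R ⊓ specialLinear (Fin n) F) := by
  classical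
  obtain ⟨i, m, hP, hnm, hprime, hp4⟩ := pauli_of_data (by omega) hR
  haveI : Fact (Fintype.card F).Prime := ⟨hprime⟩
  haveI : CharP F (Fintype.card F) := charP_of_card_eq_prime rfl
  haveI : Nonempty (Fin n) := ⟨⟨0, by omega⟩⟩
  haveI : Finite (Matrix (Fin n) (Fin n) F) := inferInstanceAs (Finite (Fin n → Fin n → F))
  haveI : Finite (GL (Fin n) F) := Finite.of_injective _ Units.val_injective
  have h8 : 8 ∣ Fintype.card (Fin n) := by
    rw [Fintype.card_fin, hnm]
    refine dvd_trans (dvd_of_eq (by norm_num : 8 = 2 ^ 3)) (pow_dvd_pow 2 ?_)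
    by_contra h
    interval_cases m <;> omega
  refine ⟨lt_of_le_of_ne inf_le_right fun e => ?_, fun M hHM hMSL => ?_⟩
  · have hirr : CfsgLib.Perm.Asch.Irred R := hR.absIrred.1
    refine not_le_subgroupNormalizer (by omega) Nat.prime_two (fun h => hP.two ?_) hR.symplecticType.pGroup hirr
      (e.ge.trans inf_le_left) (p := Fintype.card F)
    have := (CharP.cast_eq_zero_iff F (Fintype.card F) 2).2 (dvd_of_eq h.symm)
    exact_mod_cast this
  · have hscalSL : ∀ c : Fˣ, c ^ 4 = 1 → sch (Fin n) F c ∈ specialLinear (Fin n) F := by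
      intro c hc
      show Matrix.GeneralLinearGroup.det _ = 1
      refine Units.ext ?_
      rw [Matrix.GeneralLinearGroup.val_det_apply, sch_coe, Matrix.det_smul, Matrix.det_one, mul_one]
      obtain ⟨q, hq⟩ := h8
      rw [hq, show 8 * q = 4 * (2 * q) by omega, pow_mul, ← Units.val_pow_eq_pow_val, hc, Units.val_one, one_pow]
    have hinvSL : ∀ u (hu : Invo R u), u ∈ specialLinear (Fin n) F := fun u hu => by
      rw [← hu.G_sq hP]
      exact mul_mem (hu.G_mem_SL hP h8) (hu.G_mem_SL hP h8)
    have hRSL : R ≤ specialLinear (Fin n) F := by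
      intro r hr
      by_cases hs : ∃ c : F, (r : Matrix (Fin n) (Fin n) F) = c • 1
      · obtain ⟨c, hc⟩ := hs
        have hc0 : c ≠ 0 := fun h => r.ne_zero (by rw [hc, h, zero_smul])
        have hr' : r = sch (Fin n) F (Units.mk0 c hc0) := Units.ext (by rw [sch_coe, hc]; rfl)
        rw [hr']
        refine hscalSL _ (sch_injective (ι := Fin n) ?_)
        rw [map_pow, ← hr', map_one, hP.pow_four hr]
      · obtain ⟨v, c, hv, hc, hrv⟩ := hP.exists_invo hr hs
        have hz : r * v ∈ R := mul_mem hr hv.mem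
        have hc' : ((r * v : GL (Fin n) F) : Matrix (Fin n) (Fin n) F) = c • 1 := by
          rw [Units.val_mul, hrv, smul_mul_assoc, hv.sq]
        have hrv' : r * v = sch (Fin n) F (Units.mk0 c hc) := Units.ext (by rw [sch_coe, hc']; rfl)
        have hSLz : r * v ∈ specialLinear (Fin n) F := by
          rw [hrv']
          refine hscalSL _ (sch_injective (ι := Fin n) ?_)
          rw [map_pow, ← hrv', map_one, hP.pow_four hz]
        have := mul_mem hSLz (hinvSL v hv)
        rwa [mul_assoc, hv.mul_self, mul_one] at this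
    have hC : Ctx R i M :=
      { pauli := hP
        le_SL := hMSL
        R_le := le_trans (le_inf Subgroup.le_normalizer hRSL) hHM
        gate_mem := fun u h => hHM ⟨h.G_mem_normalizer hP, h.G_mem_SL hP h8⟩
        prime := hprime }
    rcases eq_SL_or_normalizes hC (by omega) hp4 with h | h
    · exact Or.inr h
    · exact Or.inl (le_antisymm (le_inf h hMSL) hHM)

end CfsgLib.Perm.Trans.PauliMax
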