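import Mathlib.Algebra.Group.Subgroup.Basic
import Mathlib.GroupTheory.Perm.Basic
import Mathlib.GroupTheory.Index
import Mathlib.Data.ZMod.Basic
import Mathlib.Tactic

/-!
# Groups normalised by the products of two transvections of a binary orthogonal space

A non-trivial group of isometries of a non-degenerate binary quadratic space without large singular subspaces which
is normalised by all products of two transvections contains a product of two non-commuting transvections.
-/

set_option autoImplicit false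
set_option linter.all false

namespace CfsgLib.Perm.Trans.PauliMax.Orth

variable {A : Type*} [AddCommGroup A]

/-- a non-degenerate binary quadratic space of minus type -/
structure Space (Q : A → ZMod 2) (B : A → A → ZMod 2) : Prop where
  two : ∀ x : A, x + x = 0
  polar : ∀ x y, Q (x + y) = Q x + Q y + B x y
  addl : ∀ x y z, B (x + y) z = B x z + B y z
  nondeg : ∀ x, x ≠ 0 → ∃ y, B x y = 1
  small : ∀ K : AddSubgroup A, (∀ x ∈ K, Q x = 0) → Nat.card K * Nat.card K < Nat.card A

variable {Q : A → ZMod 2} {B : A → A → ZMod 2}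

theorem z2 (e : ZMod 2) : e = 0 ∨ e = 1 := by revert e; decide

theorem Space.symm (hS : Space Q B) (x y : A) : B x y = B y x := by
  have h1 := hS.polar x y
  rw [add_comm x y, hS.polar y x] at h1
  linear_combination -h1

theorem Space.addr (hS : Space Q B) (x y z : A) : B x (y + z) = B x y + B x z := by
  rw [hS.symm, hS.addl, hS.symm y, hS.symm z]

theorem Space.q0 (hS : Space Q B) : Q 0 = 0 := by
  have h1 := hS.polar 0 0
  have h2 := hS.addl 0 0 0
  rw [add_zero] at h1 h2
  linear_combination -h1 + h2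

theorem Space.bz (hS : Space Q B) (x : A) : B x 0 = 0 := by
  have h1 := hS.addr x 0 0
  rw [add_zero] at h1
  linear_combination -h1

theorem Space.zb (hS : Space Q B) (x : A) : B 0 x = 0 := by rw [hS.symm, hS.bz]

theorem Space.self (hS : Space Q B) (x : A) : B x x = 0 := by
  have h1 := hS.polar x x
  rw [hS.two, hS.q0] at h1
  have h2 : Q x + Q x = 0 := by rcases z2 (Q x) with e | e <;> rw [e] <;> decide
  linear_combination -h1 - h2

theorem Space.eq_of_add (hS : Space Q B) {x y : A} (h : x + y = 0) : x = y := by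
  rw [← add_zero x, ← hS.two y, ← add_assoc, h, zero_add]

theorem Space.ne_zero (hS : Space Q B) {a : A} (ha : Q a = 1) : a ≠ 0 := fun e => by
  rw [e, hS.q0] at ha
  exact zero_ne_one ha

theorem Space.ext_B (hS : Space Q B) {a d : A} (h : ∀ x, B x a = B x d) : a = d := by
  refine hS.eq_of_add ?_
  by_contra hne
  obtain ⟨y, hy⟩ := hS.nondeg _ hne
  rw [hS.symm, hS.addr, h] at hy
  rcases z2 (B y d) with e | e <;> rw [e] at hy <;> exact absurd hy (by decide)

/-- the transvection of a vector -/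
def tfun (B : A → A → ZMod 2) (a x : A) : A := if B a x = 0 then x else x + a

theorem tfun_fix (a : A) {x : A} (h : B a x = 0) : tfun B a x = x := if_pos h

theorem tfun_move (a : A) {x : A} (h : B a x = 1) : tfun B a x = x + a := if_neg (by rw [h]; exact one_ne_zero)

theorem tfun_tfun (hS : Space Q B) (a x : A) : tfun B a (tfun B a x) = x := by
  rcases z2 (B a x) with h | h
  · rw [tfun_fix a h, tfun_fix a h]
  · rw [tfun_move a h, tfun_move a (by rw [hS.addr, h, hS.self, add_zero]), add_assoc, hS.two, add_zero]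

/-- the transvection as a permutation -/
def tau (hS : Space Q B) (a : A) : Equiv.Perm A := ⟨tfun B a, tfun B a, tfun_tfun hS a, tfun_tfun hS a⟩

theorem tau_apply (hS : Space Q B) (a x : A) : tau hS a x = tfun B a x := rfl

theorem tau_mul (hS : Space Q B) (a : A) : tau hS a * tau hS a = 1 := Equiv.ext fun x => tfun_tfun hS a x

theorem tau_inv (hS : Space Q B) (a : A) : (tau hS a)⁻¹ = tau hS a := inv_eq_of_mul_eq_one_right (tau_mul hS a)

/-- an isometry -/
structure Iso (Q : A → ZMod 2) (g : Equiv.Perm A) : Prop where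
  add : ∀ x y, g (x + y) = g x + g y
  q : ∀ x, Q (g x) = Q x

theorem Iso.b (hS : Space Q B) {g : Equiv.Perm A} (hg : Iso Q g) (x y : A) : B (g x) (g y) = B x y := by
  have h1 := hS.polar (g x) (g y)
  rw [← hg.add, hg.q, hg.q, hg.q, hS.polar] at h1
  linear_combination -h1

theorem Iso.zero {g : Equiv.Perm A} (hg : Iso Q g) : g 0 = 0 := by
  have h := hg.add 0 0
  rw [add_zero] at h
  exact left_eq_add.1 h

theorem Iso.conj (hS : Space Q B) {g : Equiv.Perm A} (hg : Iso Q g) (a : A) : g * tau hS a * g⁻¹ = tau hS (g a) := by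
  refine Equiv.ext fun x => ?_
  obtain ⟨y, rfl⟩ := g.surjective x
  simp only [Equiv.Perm.mul_apply, Equiv.Perm.inv_def, Equiv.symm_apply_apply, tau_apply]
  rcases z2 (B a y) with h | h
  · rw [tfun_fix a h, tfun_fix _ (by rw [hg.b hS, h])]
  · rw [tfun_move a h, tfun_move _ (by rw [hg.b hS, h]), hg.add]

theorem tau_iso (hS : Space Q B) {a : A} (ha : Q a = 1) : Iso Q (tau hS a) := by
  refine ⟨fun x y => ?_, fun x => ?_⟩
  · rw [tau_apply, tau_apply, tau_apply]
    rcases z2 (B a x) with hx | hx <;> rcases z2 (B a y) with hy | hy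
    · rw [tfun_fix a hx, tfun_fix a hy, tfun_fix a (by rw [hS.addr, hx, hy, add_zero])]
    · rw [tfun_fix a hx, tfun_move a hy, tfun_move a (by rw [hS.addr, hx, hy, zero_add]), add_assoc]
    · rw [tfun_move a hx, tfun_fix a hy, tfun_move a (by rw [hS.addr, hx, hy, add_zero]), add_right_comm]
    · rw [tfun_move a hx, tfun_move a hy, tfun_fix a (by rw [hS.addr, hx, hy]; decide),
        add_add_add_comm, hS.two, add_zero]
  · rw [tau_apply]
    rcases z2 (B a x) with hx | hx
    · rw [tfun_fix a hx]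
    · rw [tfun_move a hx, hS.polar, ha, hS.symm, hx, add_assoc, show (1 : ZMod 2) + 1 = 0 by decide, add_zero]

/-- the vectors orthogonal to one -/
def perp (hS : Space Q B) (x : A) : AddSubgroup A where
  carrier := {y | B x y = 0}
  zero_mem' := hS.bz x
  add_mem' := fun {u v} (hu : B x u = 0) (hv : B x v = 0) => show B x (u + v) = 0 by rw [hS.addr, hu, hv, add_zero]
  neg_mem' := fun {u} (hu : B x u = 0) => show B x (-u) = 0 by rwa [neg_eq_of_add_eq_zero_left (hS.two u)]

variable [Finite A]

/-- a singular vector is orthogonal to a non-singular one -/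
theorem split (hS : Space Q B) {x : A} (hx : x ≠ 0) (hq : Q x = 0) : ∃ a, Q a = 1 ∧ B x a = 0 := by
  classical
  by_contra hcon
  push Not at hcon
  have hsing : ∀ y ∈ perp hS x, Q y = 0 := fun y hy => (z2 _).resolve_right fun e => hcon y e hy
  have h1 := hS.small (perp hS x) hsing
  obtain ⟨y0, hy0⟩ := hS.nondeg x hx
  have hinj : Nat.card A ≤ Nat.card (ZMod 2 × perp hS x) := by
    refine Nat.card_le_card_of_injective (fun v => (B x v, if h : B x v = 0 then (⟨v, h⟩ : perp hS x) else
      ⟨v + y0, show B x (v + y0) = 0 by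
        rw [hS.addr, (z2 (B x v)).resolve_left h, hy0]; decide⟩)) ?_
    intro v w e
    simp only [Prod.mk.injEq] at e
    obtain ⟨e1, e2⟩ := e
    rcases z2 (B x v) with hv | hv
    · rw [dif_pos hv, dif_pos (e1 ▸ hv)] at e2
      exact congrArg Subtype.val e2
    · rw [dif_neg (by rw [hv]; exact one_ne_zero), dif_neg (by rw [← e1, hv]; exact one_ne_zero)] at e2
      exact add_right_cancel (congrArg Subtype.val e2)
  rw [Nat.card_prod, Nat.card_zmod] at hinj
  have h2 : 2 ≤ Nat.card (perp hS x) := by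
    haveI : Nontrivial (perp hS x) := ⟨⟨0, ⟨x, hS.self x⟩, fun e => hx (congrArg Subtype.val e).symm⟩⟩
    exact Finite.one_lt_card
  nlinarith

theorem eq_of_nonsing (hS : Space Q B) {f g : A → A} (hf : ∀ x y, f (x + y) = f x + f y)
    (hg : ∀ x y, g (x + y) = g x + g y) (h : ∀ a, Q a = 1 → f a = g a) (x : A) : f x = g x := by
  by_cases hx : x = 0
  · subst hx
    have h1 := hf 0 0
    have h2 := hg 0 0
    rw [add_zero] at h1 h2
    rw [left_eq_add.1 h1, left_eq_add.1 h2]
  rcases z2 (Q x) with hq | hq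
  · obtain ⟨a, ha, hxa⟩ := split hS hx hq
    have hb : Q (x + a) = 1 := by rw [hS.polar, hq, ha, hxa]; decide
    rw [show x = (x + a) + a by rw [add_assoc, hS.two, add_zero], hf, hg, h a ha, h _ hb]
  · exact h x hq

/-- prescribed products with two non-singular vectors -/
theorem exists_dual (hS : Space Q B) {a d : A} (ha : Q a = 1) (hd : Q d = 1) (hne : a ≠ d) :
    ∃ x, B x a = 1 ∧ B x d = 0 := by
  by_contra hcon
  push Not at hcon
  have h1 : ∀ x, B x a = 1 → B x d = 1 := fun x hx => (z2 _).resolve_left (hcon x hx)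
  obtain ⟨u, hu⟩ := hS.nondeg a (hS.ne_zero ha)
  rw [hS.symm] at hu
  refine hne (hS.ext_B fun x => ?_)
  rcases z2 (B x a) with hx | hx
  · have h2 := h1 (x + u) (by rw [hS.addl, hx, hu, zero_add])
    rw [hS.addl, h1 u hu] at h2
    rw [hx]
    linear_combination -h2
  · rw [hx, h1 x hx]

theorem exists_dual' (hS : Space Q B) {a d : A} (ha : Q a = 1) (hd : Q d = 1) (hne : a ≠ d) (had : B a d = 0) :
    ∃ x, Q x = 1 ∧ B x a = 1 ∧ B x d = 0 := by
  obtain ⟨x, hxa, hxd⟩ := exists_dual hS ha hd hne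
  rcases z2 (Q x) with hq | hq
  · refine ⟨x + d, ?_, ?_, ?_⟩
    · rw [hS.polar, hq, hd, hxd]; decide
    · rw [hS.addl, hxa, hS.symm, had, add_zero]
    · rw [hS.addl, hxd, hS.self, add_zero]
  · exact ⟨x, hq, hxa, hxd⟩

/-- a singular vector orthogonal to a hyperbolic pair of non-singular vectors -/
theorem exists_sing (hS : Space Q B) (h16 : 16 ≤ Nat.card A) {a d : A} (ha : Q a = 1) (hd : Q d = 1)
    (had : B a d = 1) : ∃ r, r ≠ 0 ∧ Q r = 0 ∧ B a r = 0 ∧ B d r = 0 := by
  classical
  haveI : Fintype A := Fintype.ofFinite _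
  by_contra hcon
  push Not at hcon
  let W : Finset A := Finset.univ.filter fun x => B a x = 0 ∧ B d x = 0
  have hW : ∀ x, x ∈ W ↔ B a x = 0 ∧ B d x = 0 := fun x => by simp [W]
  have hW1 : ∀ x ∈ W, x ≠ 0 → Q x = 1 := fun x hx hx0 => (z2 _).resolve_left fun e =>
    hcon x hx0 e ((hW x).1 hx).1 ((hW x).1 hx).2
  have hWadd : ∀ x ∈ W, ∀ y ∈ W, x + y ∈ W := fun x hx y hy => (hW _).2
    ⟨by rw [hS.addr, ((hW x).1 hx).1, ((hW y).1 hy).1, add_zero],
      by rw [hS.addr, ((hW x).1 hx).2, ((hW y).1 hy).2, add_zero]⟩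
  have hB1 : ∀ x ∈ W, ∀ y ∈ W, x ≠ 0 → y ≠ 0 → x ≠ y → B x y = 1 := by
    intro x hx y hy hx0 hy0 hxy
    have h1 := hS.polar x y
    rw [hW1 x hx hx0, hW1 y hy hy0, hW1 _ (hWadd x hx y hy) (fun e => hxy (hS.eq_of_add e))] at h1
    rcases z2 (B x y) with e | e
    · rw [e] at h1; exact absurd h1 (by decide)
    · exact e
  have hA : Fintype.card A ≤ 4 * W.card := by
    have hcard : Fintype.card (ZMod 2 × ZMod 2 × W) = 4 * W.card := by
      rw [Fintype.card_prod, Fintype.card_prod, ZMod.card, Fintype.card_coe]; omega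
    rw [← hcard]
    let π : A → A := fun x => x + (if B d x = 0 then 0 else a) + (if B a x = 0 then 0 else d)
    have hπ : ∀ x, π x ∈ W := by
      intro x
      have hda : B d a = 1 := by rw [hS.symm, had]
      rw [hW]
      constructor <;> simp only [π, hS.addr] <;> rcases z2 (B d x) with e | e <;> rcases z2 (B a x) with e' | e' <;>
        simp [e, e', hS.bz, hS.self, had, hda] <;> decide
    refine Fintype.card_le_of_injective (fun x => (B a x, B d x, ⟨π x, hπ x⟩)) fun x y e => ?_
    simp only [Prod.mk.injEq, Subtype.mk.injEq, π] at e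
    obtain ⟨e1, e2, e3⟩ := e
    rw [e1, e2] at e3
    exact add_right_cancel (add_right_cancel e3)
  rw [Nat.card_eq_fintype_card] at h16
  obtain ⟨w, hw, hw0⟩ : ∃ w ∈ W, w ≠ 0 := by
    by_contra h
    push Not at h
    have : W.card ≤ 1 := Finset.card_le_one.2 fun x hx y hy => by rw [h x hx, h y hy]
    omega
  obtain ⟨w', hw', hw'0, hne⟩ : ∃ w' ∈ W, w' ≠ 0 ∧ w' ≠ w := by
    by_contra h
    push Not at h
    have hsub : W ⊆ {0, w} := fun x hx => by
      by_cases hx0 : x = 0
      · simp [hx0]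
      · simp [h x hx hx0]
    have := (Finset.card_le_card hsub).trans Finset.card_le_two
    omega
  have hW4 : W.card ≤ 4 := by
    refine (Finset.card_le_card (t := {0, w, w', w + w'}) fun x hx => ?_).trans Finset.card_le_four
    by_contra hout
    simp only [Finset.mem_insert, Finset.mem_singleton, not_or] at hout
    obtain ⟨h0, h1, h2, h3⟩ := hout
    have e := hB1 x hx _ (hWadd w hw w' hw') h0 (fun e => hne (hS.eq_of_add e).symm) h3
    rw [hS.addr, hB1 x hx w hw h0 hw0 h1, hB1 x hx w' hw' h0 hw'0 h2] at e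
    exact absurd e (by decide)
  obtain ⟨b1, hb1⟩ : ∃ b1, b1 = a + w := ⟨_, rfl⟩
  obtain ⟨b2, hb2⟩ : ∃ b2, b2 = d + w' := ⟨_, rfl⟩
  have q1 : Q b1 = 0 := by rw [hb1, hS.polar, ha, hW1 w hw hw0, ((hW w).1 hw).1]; decide
  have q2 : Q b2 = 0 := by rw [hb2, hS.polar, hd, hW1 w' hw' hw'0, ((hW w').1 hw').2]; decide
  have b12 : B b1 b2 = 0 := by
    rw [hb1, hb2, hS.addl, hS.addr, hS.addr, had, ((hW w').1 hw').1, hS.symm w d, ((hW w).1 hw).2,
      hB1 w hw w' hw' hw0 hw'0 hne.symm]
    decide
  have q3 : Q (b1 + b2) = 0 := by rw [hS.polar, q1, q2, b12]; decide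
  let K : AddSubgroup A :=
    { carrier := {x | x = 0 ∨ x = b1 ∨ x = b2 ∨ x = b1 + b2}
      zero_mem' := Or.inl rfl
      neg_mem' := fun {x} hx => by rwa [neg_eq_of_add_eq_zero_left (hS.two x)]
      add_mem' := fun {x y} hx hy => by
        have t1 : b1 + (b1 + b2) = b2 := by rw [← add_assoc, hS.two, zero_add]
        have t2 : b2 + (b1 + b2) = b1 := by rw [add_left_comm, hS.two, add_zero]
        have t3 : b1 + b2 + b1 = b2 := by rw [add_comm, t1]
        have t4 : b1 + b2 + b2 = b1 := by rw [add_comm, t2]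
        have t5 : b2 + b1 = b1 + b2 := add_comm _ _
        simp only [Set.mem_setOf_eq] at hx hy ⊢
        rcases hx with e | e | e | e <;> rcases hy with e' | e' | e' | e' <;> rw [e, e'] <;>
          simp [hS.two, t1, t2, t3, t4, t5] }
  have hK : ∀ x ∈ K, Q x = 0 := by
    rintro x (e | e | e | e) <;> rw [e]
    exacts [hS.q0, q1, q2, q3]
  have hne1 : b1 ≠ 0 := fun e => by
    have := congrArg (B d) e
    rw [hb1, hS.addr, hS.bz, hS.symm d a, had, ((hW w).1 hw).2, add_zero] at this
    exact one_ne_zero this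
  have hne2 : b2 ≠ 0 := fun e => by
    have := congrArg (B a) e
    rw [hb2, hS.addr, hS.bz, had, ((hW w').1 hw').1, add_zero] at this
    exact one_ne_zero this
  have hne3 : b1 ≠ b2 := fun e => by
    have := congrArg (B d) e
    rw [hb1, hb2, hS.addr, hS.addr, hS.symm d a, had, hS.self, ((hW w).1 hw).2, ((hW w').1 hw').2, add_zero] at this
    exact one_ne_zero this
  have hK4 : 4 ≤ Nat.card K := by
    let φ : Fin 4 → K := ![⟨0, Or.inl rfl⟩, ⟨b1, Or.inr (Or.inl rfl)⟩, ⟨b2, Or.inr (Or.inr (Or.inl rfl))⟩,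
      ⟨b1 + b2, Or.inr (Or.inr (Or.inr rfl))⟩]
    have hφ : Function.Injective φ := by
      intro i j e
      have e' := congrArg Subtype.val e
      have n4 : b1 + b2 ≠ 0 := fun h => hne3 (hS.eq_of_add h)
      fin_cases i <;> fin_cases j <;> first
        | rfl
        | (simp [φ] at e'; first
            | exact absurd e' hne1
            | exact absurd e'.symm hne1
            | exact absurd e' hne2
            | exact absurd e'.symm hne2
            | exact absurd e' hne3
            | exact absurd e'.symm hne3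
            | exact absurd e' n4
            | exact absurd e'.symm n4)
    simpa using Nat.card_le_card_of_injective φ hφ
  have := hS.small K hK
  rw [Nat.card_eq_fintype_card (α := A)] at this
  nlinarith

/-- the products with three vectors -/
def triple (hS : Space Q B) (x y w : A) : A →+ ZMod 2 × ZMod 2 × ZMod 2 :=
  AddMonoidHom.mk' (fun v => (B x v, B y v, B w v)) fun u v => by
    simp only [hS.addr, Prod.mk_add_mk]

theorem card_le_triple (hS : Space Q B) (x y w : A) : Nat.card A ≤ 8 * Nat.card (triple hS x y w).ker := by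
  have hcard : Nat.card A = Nat.card (triple hS x y w).range * Nat.card (triple hS x y w).ker := by
    rw [← Nat.card_congr (QuotientAddGroup.quotientKerEquivRange (triple hS x y w)).toEquiv]
    exact AddSubgroup.card_eq_card_quotient_mul_card_addSubgroup _
  rw [hcard]
  refine Nat.mul_le_mul_right _ ?_
  refine (Finite.card_subtype_le _).trans ?_
  simp [Nat.card_prod, Nat.card_zmod]

/-- a non-singular vector orthogonal to two given ones -/
theorem exists_nonsing_perp (hS : Space Q B) (h16 : 16 ≤ Nat.card A) (u v : A) :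
    ∃ b, Q b = 1 ∧ B u b = 0 ∧ B v b = 0 := by
  by_contra hcon
  push Not at hcon
  let φ : A →+ ZMod 2 × ZMod 2 := AddMonoidHom.mk' (fun x => (B u x, B v x)) fun x y => by
    simp only [hS.addr, Prod.mk_add_mk]
  have hcard : Nat.card A = Nat.card φ.range * Nat.card φ.ker := by
    rw [← Nat.card_congr (QuotientAddGroup.quotientKerEquivRange φ).toEquiv]
    exact AddSubgroup.card_eq_card_quotient_mul_card_addSubgroup _
  have hle : Nat.card A ≤ 4 * Nat.card φ.ker := by
    rw [hcard]
    refine Nat.mul_le_mul_right _ ((Finite.card_subtype_le _).trans ?_)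
    simp [Nat.card_prod, Nat.card_zmod]
  have hsing : ∀ x ∈ φ.ker, Q x = 0 := fun x hx => by
    have h : (B u x, B v x) = (0, 0) := hx
    rw [Prod.mk.injEq] at h
    exact (z2 _).resolve_right fun e => hcon x e h.1 h.2
  have h1 := hS.small _ hsing
  nlinarith

/-- a vector of prescribed value meeting two given ones -/
theorem exists_both (hS : Space Q B) (h64 : 64 ≤ Nat.card A) {x y : A} (hx : x ≠ 0) (hy : y ≠ 0) (hne : x ≠ y)
    (e : ZMod 2) : ∃ z, Q z = e ∧ B x z = 1 ∧ B y z = 1 := by
  obtain ⟨u, hu⟩ := hS.nondeg x hx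
  obtain ⟨v, hv⟩ := hS.nondeg y hy
  obtain ⟨z₀, hxz, hyz⟩ : ∃ z₀, B x z₀ = 1 ∧ B y z₀ = 1 := by
    rcases z2 (B y u) with h | h
    · rcases z2 (B x v) with h' | h'
      · exact ⟨u + v, by rw [hS.addr, hu, h', add_zero], by rw [hS.addr, h, hv, zero_add]⟩
      · exact ⟨v, h', hv⟩
    · exact ⟨u, hu, h⟩
  by_contra hcon
  push Not at hcon
  have hq : Q z₀ ≠ e := fun he => hcon z₀ he hxz hyz
  have hsing : ∀ w ∈ (triple hS x y z₀).ker, Q w = 0 := by
    intro w hw
    have h : (B x w, B y w, B z₀ w) = (0, 0, 0) := hw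
    simp only [Prod.mk.injEq] at h
    refine (z2 _).resolve_right fun h1 => hcon (z₀ + w) ?_ (by rw [hS.addr, hxz, h.1, add_zero])
      (by rw [hS.addr, hyz, h.2.1, add_zero])
    rw [hS.polar, h1, h.2.2, add_zero]
    rcases z2 (Q z₀) with a | a <;> rcases z2 e with b | b <;> rw [a, b] at hq ⊢ <;>
      first | rfl | decide | exact absurd rfl hq
  have h1 := hS.small _ hsing
  have h2 := card_le_triple hS x y z₀
  nlinarith

/-- products of two transvections are transitive on each class of non-zero vectors -/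
theorem rel_of_same (hS : Space Q B) (h64 : 64 ≤ Nat.card A) (rel : A → A → Prop) (hrefl : ∀ x, rel x x)
    (htrans : ∀ x y z, rel x y → rel y z → rel x z)
    (hstep : ∀ a b x, Q a = 1 → Q b = 1 → rel x (tau hS a (tau hS b x))) {x y : A} (hx : x ≠ 0) (hy : y ≠ 0)
    (hq : Q x = Q y) : rel x y := by
  have step : ∀ x y : A, Q x = Q y → B x y = 1 → rel x y := by
    intro x y hq hxy
    obtain ⟨b, hb, hbx, hby⟩ := exists_nonsing_perp hS (by omega) x y
    have ha : Q (x + y) = 1 := by rw [hS.polar, hq, hxy]; rcases z2 (Q y) with e | e <;> rw [e] <;> decide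
    have h1 := hstep (x + y) b x ha hb
    rwa [tau_apply, tau_apply, tfun_fix b (by rw [hS.symm, hbx]),
      tfun_move _ (by rw [hS.addl, hS.self, hS.symm, hxy, zero_add]), ← add_assoc, hS.two, zero_add] at h1
  by_cases hne : x = y
  · rw [hne]; exact hrefl y
  obtain ⟨z, hz, hxz, hyz⟩ := exists_both hS h64 hx hy hne (Q x)
  exact htrans x z y (step x z hz.symm hxz) (step z y (hz.trans hq) (by rw [hS.symm, hyz]))

section main

variable {C : Subgroup (Equiv.Perm A)}

/-- the hypotheses on the group -/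
structure Normalised (hS : Space Q B) (C : Subgroup (Equiv.Perm A)) : Prop where
  iso : ∀ c ∈ C, Iso Q c
  norm : ∀ c ∈ C, ∀ a b, Q a = 1 → Q b = 1 → (tau hS a * tau hS b) * c * (tau hS a * tau hS b)⁻¹ ∈ C

/-- the conclusion -/
def Found (hS : Space Q B) (C : Subgroup (Equiv.Perm A)) : Prop :=
  ∃ a d, Q a = 1 ∧ Q d = 1 ∧ B a d = 1 ∧ tau hS d * tau hS a ∈ C

theorem comm_mem {hS : Space Q B} (hC : Normalised hS C) {c : Equiv.Perm A} (hc : c ∈ C) {a b : A} (ha : Q a = 1)
    (hb : Q b = 1) : tau hS (c a) * tau hS (c b) * (tau hS b * tau hS a) ∈ C := by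
  have h1 := C.mul_mem hc (hC.norm _ (C.inv_mem hc) a b ha hb)
  rwa [show c * (tau hS a * tau hS b * c⁻¹ * (tau hS a * tau hS b)⁻¹) =
    c * tau hS a * c⁻¹ * (c * tau hS b * c⁻¹) * ((tau hS b)⁻¹ * (tau hS a)⁻¹) by group, (hC.iso c hc).conj hS, (hC.iso c hc).conj hS, tau_inv, tau_inv] at h1

theorem comm_pair {hS : Space Q B} (hC : Normalised hS C) {c : Equiv.Perm A} (hc : c ∈ C) {a : A} (ha : Q a = 1) :
    tau hS (tau hS (c a) (c (c a))) * tau hS a ∈ C := by
  have hca : Q (c a) = 1 := by rw [(hC.iso c hc).q, ha]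
  have h1 := comm_mem hC hc ha hca
  rwa [← (tau_iso hS hca).conj hS, tau_inv,
    show tau hS (c a) * tau hS (c (c a)) * tau hS (c a) * tau hS a =
      tau hS (c a) * tau hS (c (c a)) * (tau hS (c a) * tau hS a) by group]

theorem upgrade {hS : Space Q B} (hC : Normalised hS C) {a d : A} (ha : Q a = 1) (hd : Q d = 1) (hne : d ≠ a)
    (h : tau hS d * tau hS a ∈ C) : Found hS C := by
  rcases z2 (B a d) with had | had
  swap
  · exact ⟨a, d, ha, hd, had, h⟩
  obtain ⟨x, hx, hxa, hxd⟩ := exists_dual' hS ha hd hne.symm had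
  have h1 := comm_pair hC h hx
  have hax : B a x = 1 := by rw [hS.symm, hxa]
  have hdx : B d (x + a) = 0 := by rw [hS.addr, hS.symm d x, hxd, hS.symm d a, had, add_zero]
  have e1 : (tau hS d * tau hS a) x = x + a := by
    rw [Equiv.Perm.mul_apply, tau_apply, tau_apply, tfun_move a hax, tfun_fix d hdx]
  have e2 : (tau hS d * tau hS a) (x + a) = x := by
    rw [Equiv.Perm.mul_apply, tau_apply, tau_apply,
      tfun_move a (by rw [hS.addr, hax, hS.self, add_zero]), add_assoc, hS.two, add_zero,
      tfun_fix d (by rw [hS.symm, hxd])]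
  have e3 : tau hS (x + a) x = a := by
    rw [tau_apply, tfun_move _ (by rw [hS.addl, hS.self, hax, zero_add]), ← add_assoc, hS.two, zero_add]
  rw [e1, e2, e3] at h1
  exact ⟨x, a, hx, ha, hxa, h1⟩

theorem found_of_fixed {hS : Space Q B} (hC : Normalised hS C) {c : Equiv.Perm A} (hc : c ∈ C) (hne : c ≠ 1) {b : A}
    (hb : Q b = 1) (hfix : c b = b) : Found hS C := by
  obtain ⟨a, ha, hmove⟩ : ∃ a, Q a = 1 ∧ c a ≠ a := by
    by_contra h
    push Not at h
    exact hne (Equiv.ext fun x => eq_of_nonsing hS (hC.iso c hc).add (g := id) (fun _ _ => rfl) h x)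
  have h1 := comm_mem hC hc ha hb
  rw [hfix, mul_assoc, ← mul_assoc (tau hS b) (tau hS b), tau_mul, one_mul] at h1
  exact upgrade hC ha (by rw [(hC.iso c hc).q, ha]) hmove h1

theorem found_of_invol {hS : Space Q B} (hC : Normalised hS C) {c : Equiv.Perm A} (hc : c ∈ C) (hne : c ≠ 1)
    (h2 : ∀ x, c (c x) = x) : Found hS C := by
  classical
  have hI := hC.iso c hc
  by_cases hb : ∃ b, Q b = 1 ∧ c b = b
  · obtain ⟨b, hb, hbf⟩ := hb
    exact found_of_fixed hC hc hne hb hbf
  exfalso
  push Not at hb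
  let φ : A →+ A := AddMonoidHom.mk' (fun x => x + c x) fun x y => by rw [hI.add, add_add_add_comm]
  have hker : ∀ x ∈ φ.ker, Q x = 0 := fun x hx => (z2 _).resolve_right fun e =>
    hb x e (hS.eq_of_add (show x + c x = 0 from hx)).symm
  have h1 := hS.small φ.ker hker
  have hle : φ.range ≤ φ.ker := by
    rintro _ ⟨x, rfl⟩
    show (x + c x) + c (x + c x) = 0
    rw [hI.add, h2, add_comm (c x) x, hS.two]
  have hcard : Nat.card A = Nat.card φ.range * Nat.card φ.ker := by
    rw [← Nat.card_congr (QuotientAddGroup.quotientKerEquivRange φ).toEquiv]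
    exact AddSubgroup.card_eq_card_quotient_mul_card_addSubgroup _
  have := Nat.mul_le_mul_right (Nat.card φ.ker) (AddSubgroup.card_le_of_le hle)
  omega

/-- **Main lemma.** -/
theorem found {hS : Space Q B} (hC : Normalised hS C) (h16 : 16 ≤ Nat.card A) {c₀ : Equiv.Perm A} (hc₀ : c₀ ∈ C)
    (hne₀ : c₀ ≠ 1) : Found hS C := by
  by_contra hnot
  have hsq : ∀ c ∈ C, ∀ a, Q a = 1 → c (c a) = tau hS (c a) a := by
    intro c hc a ha
    by_contra hne
    refine hnot (upgrade hC ha ?_ ?_ (comm_pair hC hc ha))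
    · rw [(tau_iso hS (by rw [(hC.iso c hc).q, ha])).q, (hC.iso c hc).q, (hC.iso c hc).q, ha]
    · intro e
      refine hne ?_
      have := congrArg (tau hS (c a)) e
      rwa [tau_apply, tau_apply, tfun_tfun hS] at this
  have hfree : ∀ c ∈ C, c ≠ 1 → ∀ b, Q b = 1 → c b ≠ b := fun c hc hne b hb e => hnot (found_of_fixed hC hc hne hb e)
  have hinv : ∀ c ∈ C, c ≠ 1 → (∀ x, c (c x) = x) → False := fun c hc hne h => hnot (found_of_invol hC hc hne h)
  have hP : ∀ c ∈ C, c ≠ 1 → ∀ x, c (c x) = x + c x := by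
    intro c hc hne
    have hI := hC.iso c hc
    have htype : ∀ a, Q a = 1 → (c (c a) = a) ∨ (B (c a) a = 1 ∧ c (c a) = a + c a) := by
      intro a ha
      rw [hsq c hc a ha, tau_apply]
      rcases z2 (B (c a) a) with e | e
      · exact Or.inl (tfun_fix _ e)
      · exact Or.inr ⟨e, tfun_move _ e⟩
    by_cases h3 : ∃ a, Q a = 1 ∧ B (c a) a = 1
    swap
    · refine (hinv c hc hne (eq_of_nonsing hS (f := fun x => c (c x)) (fun x y => by simp only [hI.add])
        (g := id) (fun _ _ => rfl) fun a ha => ?_)).elim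
      exact (htype a ha).resolve_right fun h => h3 ⟨a, ha, h.1⟩
    obtain ⟨a, ha, hBa⟩ := h3
    have h3a : c (c a) = a + c a := by rw [hsq c hc a ha, tau_apply, tfun_move _ hBa]
    have hc3 : c * c * c = 1 := by
      by_contra h
      refine hfree _ (mul_mem (mul_mem hc hc) hc) h a ha ?_
      simp only [Equiv.Perm.mul_apply]
      rw [h3a, hI.add, h3a, add_left_comm, hS.two, add_zero]
    refine eq_of_nonsing hS (f := fun x => c (c x)) (g := fun x => x + c x) (fun x y => by simp only [hI.add])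
      (fun x y => by simp only [hI.add]; rw [add_add_add_comm]) fun b hb => ?_
    refine ((htype b hb).resolve_left fun e => hfree c hc hne b hb ?_).2
    calc c b = c (c (c b)) := by rw [e]
      _ = b := by
        have := congrArg (fun g : Equiv.Perm A => g b) hc3
        simpa using this
  -- the conjugates
  have hI := hC.iso c₀ hc₀
  have hcases : ∀ c' ∈ C, c' ≠ 1 → c' = c₀ ∨ c' = c₀ * c₀ := by
    intro c' hc' hne'
    by_contra hcon
    push Not at hcon
    have h3 : c₀ * c₀ * c₀ = 1 := Equiv.ext fun x => by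
      simp only [Equiv.Perm.mul_apply, Equiv.Perm.one_apply]
      rw [hP c₀ hc₀ hne₀ (c₀ x), hP c₀ hc₀ hne₀ x, add_left_comm, hS.two, add_zero]
    have n1 : c₀ * c' ≠ 1 := fun e => hcon.2 (by
      rw [← one_mul c', ← h3, mul_assoc, e, mul_one])
    have n2 : c₀ * c₀ * c' ≠ 1 := fun e => hcon.1 (by
      have := congrArg (fun g => c₀ * g) e
      simp only [← mul_assoc, h3, one_mul, mul_one] at this
      exact this)
    have P1 := hP _ (mul_mem hc₀ hc') n1
    have P2 := hP _ (mul_mem (mul_mem hc₀ hc₀) hc') n2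
    simp only [Equiv.Perm.mul_apply] at P1 P2
    have hnz : ∃ x : A, x ≠ 0 := by
      by_contra h
      push Not at h
      haveI : Subsingleton A := ⟨fun x y => by rw [h x, h y]⟩
      rw [Nat.card_unique] at h16
      omega
    obtain ⟨x, hx⟩ := hnz
    have hI' := hC.iso c' hc'
    have e1 := P2 x
    have e2 := P1 x
    have hcc : ∀ y, c₀ (c₀ y) = y + c₀ y := hP c₀ hc₀ hne₀
    have hz1 : c' (c' x) = x + c' x := hP c' hc' hne' x
    set z := c' x with hz
    have e3 := congrArg c₀ e2
    rw [hI.add] at e3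
    rw [hcc z, hI'.add, hz1] at e1
    simp only [hI.add] at e1
    rw [e3, hcc x, ← hcc z,
      show x + c₀ x + c₀ (c₀ z) + (c₀ x + c₀ (c₀ z)) = x + ((c₀ x + c₀ x) + (c₀ (c₀ z) + c₀ (c₀ z))) by abel,
      hS.two, hS.two, add_zero, add_zero] at e1
    have hz0 : z = 0 := by
      have h0 := left_eq_add.1 e1
      rw [← hI.zero] at h0
      have h0' := c₀.injective h0
      rw [← hI.zero] at h0'
      exact c₀.injective h0'
    exact hx (c'.injective (by rw [hI'.zero]; exact hz0))
  -- a pair moving `c₀`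
  obtain ⟨a, ha, -⟩ : ∃ a, Q a = 1 ∧ True := by
    by_contra h
    push Not at h
    exact hne₀ (Equiv.ext fun x => eq_of_nonsing hS hI.add (g := id) (fun _ _ => rfl) (fun a ha => (h a ha).elim) x)
  have h3a := hP c₀ hc₀ hne₀ a
  have hBa : B (c₀ a) a = 1 := by
    rcases z2 (B (c₀ a) a) with e | e
    · exfalso
      have := hsq c₀ hc₀ a ha
      rw [h3a, tau_apply, tfun_fix _ e, add_eq_left] at this
      exact hS.ne_zero (a := c₀ a) (by rw [hI.q, ha]) this
    · exact e
  have hBa' : B a (c₀ a) = 1 := by rw [hS.symm, hBa]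
  have hca : Q (c₀ a) = 1 := by rw [hI.q, ha]
  obtain ⟨r, hr0, hrq, hra, hrc⟩ := exists_sing hS h16 ha hca hBa'
  have hb : Q (a + r) = 1 := by rw [hS.polar, ha, hrq, hra]; decide
  set T := tau hS a * tau hS (a + r) with hT
  have hTa : T a = a := by
    rw [hT, Equiv.Perm.mul_apply, tau_apply, tau_apply,
      tfun_fix _ (show B (a + r) a = 0 by rw [hS.addl, hS.self, hS.symm, hra, add_zero]), tfun_fix _ (hS.self a)]
  have hTc : T (c₀ a) = c₀ a + r := by
    rw [hT, Equiv.Perm.mul_apply, tau_apply, tau_apply,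
      tfun_move _ (show B (a + r) (c₀ a) = 1 by rw [hS.addl, hBa', hS.symm, hrc, add_zero]),
      tfun_move _ (show B a (c₀ a + (a + r)) = 1 by rw [hS.addr, hS.addr, hBa', hS.self, hra]; decide)]
    rw [show c₀ a + (a + r) + a = c₀ a + r + (a + a) by abel, hS.two, add_zero]
  rcases hcases _ (hC.norm _ hc₀ a (a + r) ha hb) (fun e => hne₀ (conj_eq_one_iff.1 e)) with e | e
  · have h1 := congrArg (fun g => (g * T) a) e
    simp only [← hT, inv_mul_cancel_right, Equiv.Perm.mul_apply] at h1
    rw [hTa, hTc, add_eq_left] at h1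
    exact hr0 h1
  · have h1 := congrArg (fun g => (g * T) a) e
    simp only [← hT, inv_mul_cancel_right, Equiv.Perm.mul_apply] at h1
    rw [hTa, hTc, h3a, add_comm a, add_right_inj] at h1
    -- `r` is orthogonal to `c₀ a`, `a` is not
    rw [h1] at hrc
    exact one_ne_zero (hBa.symm.trans hrc)

end main

end CfsgLib.Perm.Trans.PauliMax.Orth
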