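import Cfsg.Agent.Lib.Perm.Dickson.Finite
import Cfsg.Agent.Lib.Perm.Dickson.SubfieldMax
import Cfsg.Agent.Lib.Perm.Dickson.ExcMax

/-!
# Groups of the projective line containing the dilation by a square root of minus one
-/

set_option autoImplicit false
set_option linter.all false

namespace CfsgLib.Perm.Trans.PauliMax

open Matrix CfsgLib.Perm.Dickson

theorem four_dvd_card {α : Type*} [DecidableEq α] (f : α → α) :
    ∀ s : Finset α, (∀ y ∈ s, f y ∈ s) → (∀ y ∈ s, f (f (f (f y))) = y) → (∀ y ∈ s, f (f y) ≠ y) → 4 ∣ s.card := by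
  intro s
  induction s using Finset.strongInduction with
  | H s ih =>
    intro hinv h4 h2
    rcases s.eq_empty_or_nonempty with rfl | ⟨y, hy⟩
    · simp
    set a := f y with ha
    set b := f a with hb
    set c := f b with hc
    have haS : a ∈ s := hinv y hy
    have hbS : b ∈ s := hinv a haS
    have hcS : c ∈ s := hinv b hbS
    have hfc : f c = y := h4 y hy
    have hby : b ≠ y := h2 y hy
    have hca : c ≠ a := h2 a haS
    have hay : a ≠ y := fun e => hby (by rw [hb, e, ← ha, e])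
    have hcb : c ≠ b := fun e => hby (by
      have : f c = f b := congrArg f e
      rw [hfc, ← hc, e] at this
      exact this.symm)
    have hcy : c ≠ y := fun e => hca (by
      have : f c = f y := congrArg f e
      rw [hfc, ← ha] at this
      rw [e, this])
    have hba : b ≠ a := fun e => hay (by
      have h5 : c = a := by rw [hc, e, ← hb, e]
      exact absurd h5 hca)
    set O : Finset α := {y, a, b, c} with hO
    have hOs : O ⊆ s := by
      intro z hz
      simp only [hO, Finset.mem_insert, Finset.mem_singleton] at hz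
      rcases hz with rfl | rfl | rfl | rfl <;> assumption
    have hOcard : O.card = 4 := by
      simp [hO, hay.symm, hby.symm, hcy.symm, hba.symm, hca.symm, hcb.symm]
    have hlt : s \ O ⊂ s := Finset.sdiff_ssubset hOs ⟨y, by simp [hO]⟩
    have hinvO : ∀ z ∈ s \ O, f z ∈ s \ O := by
      intro z hz
      rw [Finset.mem_sdiff] at hz ⊢
      refine ⟨hinv z hz.1, fun hfz => hz.2 ?_⟩
      have hz' := h4 z hz.1
      simp only [hO, Finset.mem_insert, Finset.mem_singleton] at hfz ⊢
      rcases hfz with e | e | e | e <;> rw [e] at hz'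
      · rw [← ha, ← hb, ← hc] at hz'; simp [← hz']
      · rw [← hb, ← hc, hfc] at hz'; simp [← hz']
      · rw [← hc, hfc, ← ha] at hz'; simp [← hz']
      · rw [hfc, ← ha, ← hb] at hz'; simp [← hz']
    have h := ih _ hlt hinvO (fun z hz => h4 z (Finset.mem_sdiff.1 hz).1) (fun z hz => h2 z (Finset.mem_sdiff.1 hz).1)
    rw [← Finset.card_sdiff_add_card_eq_card hOs, hOcard]
    exact dvd_add h dvd_rfl

theorem perm_four_no_inverted : ∀ g w : Equiv.Perm (Fin 4),
    g * g * (g * g) = 1 → g * g ≠ 1 → w * w * w = 1 → w ≠ 1 → g * g * w * (g * g) * w ≠ 1 := by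
  decide +kernel

theorem alt_four_no_four : ∀ g : Equiv.Perm (Fin 4),
    Equiv.Perm.sign g = 1 → g * g * (g * g) = 1 → g * g = 1 := by
  decide +kernel

theorem alt_five_no_four : ∀ g : Equiv.Perm (Fin 5),
    Equiv.Perm.sign g = 1 → g * g * (g * g) = 1 → g * g = 1 := by
  decide +kernel

variable {K : Type*} [Field K] [Finite K] (p : ℕ) [Fact p.Prime] [CharP K p]

section
variable {p}

omit [Finite K] in
theorem single_of_pow {g : G2 K} (hp : g ^ p = 1) (h1 : g ≠ 1) {a : P2 K} (ha : g • a = a) :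
    ∀ b : P2 K, g • b = b → b = a := by
  intro b hb
  by_contra hne
  obtain ⟨σ, s1, s2⟩ := exists_move_two (Ne.symm hne)
  obtain ⟨w, hw⟩ := eq_di_of_fix_two (g := σ * g * σ⁻¹) (by rw [conj_smul_eq s1, ha, s1]) (by rw [conj_smul_eq s2, hb, s2])
  have hwp : w ^ p = 1 := by
    refine di_injective ?_
    rw [di_one, ← diHom_apply, map_pow, diHom_apply, ← hw, conj_pow, hp, mul_one, mul_inv_cancel]
  have hw1 : (w : K) = 1 := by
    have h := congrArg Units.val hwp
    rw [Units.val_pow_eq_pow_val, Units.val_one] at h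
    have h2 : ((w : K) - 1) ^ p = 0 := by rw [sub_pow_char, h, one_pow, sub_self]
    exact sub_eq_zero.1 (eq_zero_of_pow_eq_zero h2)
  rw [show w = 1 from Units.ext hw1, di_one, mul_inv_eq_one] at hw
  exact h1 (mul_left_cancel (hw.trans (mul_one σ).symm))

end

variable {v : Kˣ} (hv : (v : K) * v = -1) (hp4 : p % 4 = 1)
include hv hp4

omit [Finite K] in
theorem di_sq_fix {y : P2 K} (hy : (di v * di v) • y = y) : y = ip ∨ y = fp (0 : K) := by
  obtain rfl | ⟨z, rfl⟩ := point_cases y
  · exact Or.inl rfl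
  · rw [di_mul, di_fp, Units.val_mul, hv] at hy
    have := fp_inj hy
    have h2 : (2 : K) ≠ 0 := fun h => by
      have := Nat.le_of_dvd two_pos ((CharP.cast_eq_zero_iff K p 2).1 (by exact_mod_cast h))
      have := (Fact.out : p.Prime).two_le
      omega
    exact Or.inr (by rw [(mul_eq_zero.1 (show (2 : K) * z = 0 by linear_combination -this)).resolve_left h2])

omit [Finite K] in
theorem di_sq_ne_one : di v * di v ≠ (1 : G2 K) := by
  intro h
  have h1 := congrArg (fun g : G2 K => g • fp (1 : K)) h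
  simp only [one_smul] at h1
  rcases di_sq_fix p hv hp4 h1 with e | e
  · exact fp_ne_ip 1 e
  · exact one_ne_zero (fp_inj e)

omit [Finite K] in
theorem di_four : di v * di v * (di v * di v) = (1 : G2 K) := by
  rw [di_mul, di_mul, show v * v * (v * v) = (1 : Kˣ) from Units.ext (by simp [hv]), di_one]

/-- an element of odd prime order inverted by the square of the dilation forces `p` to divide the order -/
theorem p_dvd_card {X : Subgroup (G2 K)} (hγ : di v ∈ X) {w : G2 K} (hw : w ∈ X) {ℓ : ℕ} (hℓ : ℓ.Prime)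
    (hℓ2 : ℓ ≠ 2) (hwℓ : w ^ ℓ = 1) (hw1 : w ≠ 1) (hinv : di v * di v * w * (di v * di v) * w = 1) :
    p ∣ Nat.card X := by
  haveI := finite_G2 (F := K)
  by_contra hnp
  set s : G2 K := di v * di v with hs
  have hsX : s ∈ X := mul_mem hγ hγ
  have hss : s * s = 1 := di_four p hv hp4
  have hcomm : s * w ≠ w * s := by
    intro h
    rw [h, mul_assoc w s s, hss, mul_one] at hinv
    have hg := pow_gcd_eq_one.2 ⟨(pow_two w).trans hinv, hwℓ⟩
    rw [(Nat.coprime_primes Nat.prime_two hℓ).2 (Ne.symm hℓ2), pow_one] at hg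
    exact hw1 hg
  have hwodd : w ^ ((ℓ + 1) / 2) * w ^ ((ℓ + 1) / 2) = w := by
    obtain ⟨k, hk⟩ := hℓ.odd_of_ne_two hℓ2
    rw [← pow_add, show (ℓ + 1) / 2 + (ℓ + 1) / 2 = ℓ + 1 by omega, pow_succ, hwℓ, one_mul]
  have hordw : orderOf w = ℓ := orderOf_eq_prime (hp := ⟨hℓ⟩) hwℓ hw1
  cases classify_finite p X with
  | borel x h =>
    haveI : IsCyclic X := isCyclic_of_fix X h fun g hg hsingle => by
      by_contra hg1
      have hgp := pow_char_of_single p (h g hg) hsingle
      exact hnp (orderOf_eq_prime hgp hg1 ▸ Subgroup.orderOf_dvd_natCard X hg)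
    letI := (inferInstance : IsCyclic X).commGroup
    exact hcomm (congrArg Subtype.val (mul_comm (⟨s, hsX⟩ : X) ⟨w, hw⟩))
  | cyclic a b hgp hle hne =>
    haveI := isCyclic_pairFix (F := K) hgp.1
    letI := (inferInstance : IsCyclic (pairFix a b : Subgroup (G2 K))).commGroup
    exact hcomm (congrArg Subtype.val (mul_comm (⟨s, hle hsX⟩ : pairFix a b) ⟨w, hle hw⟩))
  | dihedral a b hgp hle hn hC =>
    have h := pairSet_squares_comm (F := K) hgp.1 (hle hγ) (hle (pow_mem hw ((ℓ + 1) / 2)))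
    rw [hwodd] at h
    exact hcomm h
  | a4 hN _ _ he =>
    obtain ⟨e⟩ := he
    have h4 : (⟨di v, hγ⟩ : X) * ⟨di v, hγ⟩ * (⟨di v, hγ⟩ * ⟨di v, hγ⟩) = 1 := Subtype.ext hss
    have h := congrArg (fun t => ((e t : alternatingGroup (Fin 4)) : Equiv.Perm (Fin 4))) h4
    simp only [map_mul, map_one, Subgroup.coe_mul, Subgroup.coe_one] at h
    have h2 := alt_four_no_four _ (Equiv.Perm.mem_alternatingGroup.1 (e ⟨di v, hγ⟩).2) h
    refine di_sq_ne_one p hv hp4 (congrArg Subtype.val (e.injective (Subtype.ext ?_) :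
      (⟨di v, hγ⟩ : X) * ⟨di v, hγ⟩ = 1))
    rw [map_mul, map_one, Subgroup.coe_mul, h2, Subgroup.coe_one]
  | a5 hN _ _ he =>
    obtain ⟨e⟩ := he
    have h4 : (⟨di v, hγ⟩ : X) * ⟨di v, hγ⟩ * (⟨di v, hγ⟩ * ⟨di v, hγ⟩) = 1 := Subtype.ext hss
    have h := congrArg (fun t => ((e t : alternatingGroup (Fin 5)) : Equiv.Perm (Fin 5))) h4
    simp only [map_mul, map_one, Subgroup.coe_mul, Subgroup.coe_one] at h
    have h2 := alt_five_no_four _ (Equiv.Perm.mem_alternatingGroup.1 (e ⟨di v, hγ⟩).2) h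
    refine di_sq_ne_one p hv hp4 (congrArg Subtype.val (e.injective (Subtype.ext ?_) :
      (⟨di v, hγ⟩ : X) * ⟨di v, hγ⟩ = 1))
    rw [map_mul, map_one, Subgroup.coe_mul, h2, Subgroup.coe_one]
  | s4 hN _ _ he =>
    obtain ⟨e⟩ := he
    have hd : ℓ ∣ 24 := hN ▸ hordw ▸ Subgroup.orderOf_dvd_natCard X hw
    have hℓ3 : ℓ = 3 := by
      have hle := Nat.le_of_dvd (by norm_num) hd
      have := hℓ.two_le
      interval_cases ℓ <;> first | rfl | omega | (norm_num at hℓ) | (norm_num at hd)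
    subst hℓ3
    refine perm_four_no_inverted (e ⟨di v, hγ⟩) (e ⟨w, hw⟩) ?_ ?_ ?_ ?_ ?_
    · rw [← map_mul, ← map_mul, ← map_one e]; exact congrArg e (Subtype.ext hss)
    · rw [← map_mul, ← map_one e]
      exact fun h => di_sq_ne_one p hv hp4 (congrArg Subtype.val (e.injective h))
    · rw [← map_mul, ← map_mul, ← map_one e]
      exact congrArg e (Subtype.ext (show w * w * w = 1 by rw [← hwℓ, pow_succ, pow_two]))
    · rw [← map_one e]
      exact fun h => hw1 (congrArg Subtype.val (e.injective h))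
    · rw [← map_mul, ← map_mul, ← map_mul, ← map_mul, ← map_one e]
      exact congrArg e (Subtype.ext hinv)
  | subfield σ F1 h3 h =>
    have hy : mapG F1.subtype (tr (1 : F1)) ∈ conjG σ X := by
      rcases h with h | ⟨-, h⟩ <;> rw [h]
      · exact ⟨_, rfl⟩
      · exact ⟨_, tr_mem_psl _, rfl⟩
    rw [mem_conjG, mapG_tr, map_one] at hy
    have hord : orderOf (σ⁻¹ * tr (1 : K) * σ) = p := orderOf_eq_prime ?_ ?_
    · exact hnp (hord ▸ Subgroup.orderOf_dvd_natCard X hy)
    · rw [show σ⁻¹ * tr (1 : K) * σ = σ⁻¹ * tr (1 : K) * σ⁻¹⁻¹ by rw [inv_inv], conj_pow, tr_pow, CharP.cast_eq_zero, zero_mul,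
        tr_zero, mul_one, mul_inv_cancel]
    · intro e
      rw [mul_eq_one_iff_eq_inv] at e
      have e2 : tr (1 : K) = 1 := mul_left_cancel (e.trans (mul_one σ⁻¹).symm)
      exact one_ne_zero (tr_injective (e2.trans tr_zero.symm))

/-- some element of order `p` fixes one of the two fixed points of the dilation -/
theorem exists_fixing {X : Subgroup (G2 K)} (hγ : di v ∈ X) (hp : p ∣ Nat.card X) :
    ∃ x ∈ X, orderOf x = p ∧ (x • (ip : P2 K) = ip ∨ x • fp (0 : K) = fp 0) := by
  classical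
  haveI := finite_G2 (F := K)
  haveI : Finite X := inferInstance
  obtain ⟨x, hx⟩ := exists_prime_orderOf_dvd_card' p hp
  have hxG : orderOf (x : G2 K) = p := (Subgroup.orderOf_coe x).trans hx
  have hp5 : 5 ≤ p := by
    have := (Fact.out : p.Prime).two_le
    omega
  cases classify_finite p X with
  | borel z h =>
    refine ⟨x, x.2, hxG, ?_⟩
    rcases di_sq_fix p hv hp4 (y := z) (by rw [mul_smul, h _ hγ, h _ hγ]) with rfl | rfl
    · exact Or.inl (h x x.2)
    · exact Or.inr (h x x.2)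
  | cyclic a b hgp hle hne =>
    exact absurd (hp.trans (Subgroup.card_dvd_of_le hle)) (not_p_dvd_torus p hgp)
  | dihedral a b hgp hle hn hC =>
    refine absurd ?_ (not_p_dvd_torus p hgp)
    rw [← hxG]
    refine Subgroup.orderOf_dvd_natCard _ ?_
    have hk : ((x : G2 K) ^ ((p + 1) / 2)) * (x : G2 K) ^ ((p + 1) / 2) = x := by
      rw [← pow_add, show (p + 1) / 2 + (p + 1) / 2 = p + 1 by omega, pow_succ, ← hxG, pow_orderOf_eq_one, one_mul]
    have hg := hle (pow_mem x.2 ((p + 1) / 2))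
    rcases mem_pairSet.1 hg with ⟨e1, e2⟩ | ⟨e1, e2⟩
    all_goals
      rw [← hk]
      exact mem_pairFix.2 ⟨by rw [map_mul, mul_smul, e1]; assumption, by rw [map_mul, mul_smul, e2]; assumption⟩
  | a4 hN _ _ _ =>
    rw [hN] at hp
    have := Nat.le_of_dvd (by norm_num) hp
    interval_cases p <;> omega
  | s4 hN _ _ _ =>
    rw [hN] at hp
    have := Nat.le_of_dvd (by norm_num) hp
    interval_cases p <;> omega
  | a5 hN _ h5 _ =>
    rw [hN] at hp
    have := Nat.le_of_dvd (by norm_num) hp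
    interval_cases p <;> omega
  | subfield σ F1 h3 h =>
    have hle : conjG σ X ≤ pglSub F1 := by
      rcases h with h | ⟨-, h⟩
      · exact h.le
      · rw [h]; rintro _ ⟨g, hg, rfl⟩; exact ⟨g, rfl⟩
    have hge : (psl F1).map (mapG F1.subtype) ≤ conjG σ X := by
      rcases h with h | ⟨-, h⟩ <;> rw [h]
      rintro _ ⟨g, hg, rfl⟩; exact ⟨g, rfl⟩
    haveI : CharP F1 p := (RingHom.charP_iff_charP F1.subtype p).2 inferInstance
    haveI : Finite (P2 F1) := Finite.of_injective _ (mapP_injective F1.subtype)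
    haveI : Fintype (P2 F1) := Fintype.ofFinite _
    let pts : P2 F1 ↪ P2 K :=
      ⟨fun w => σ⁻¹ • mapP F1.subtype w, fun a b e => mapP_injective _ (MulAction.injective σ⁻¹ e)⟩
    let S : Finset (P2 K) := Finset.univ.map pts
    -- the rational points are the fixed points of the elements of order `p`
    have hin : ∀ x ∈ X, x ^ p = 1 → x ≠ 1 → ∀ y : P2 K, x • y = y → y ∈ S := by
      intro x hxX hxp hx1 y hy
      have hmem : σ * x * σ⁻¹ ∈ pglSub F1 := hle (mem_conjG.2 (by simpa [mul_assoc] using hxX))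
      have hfix : (σ * x * σ⁻¹) • (σ • y) = σ • y := by rw [mul_smul, inv_smul_smul, mul_smul, hy]
      obtain ⟨w, hw⟩ := rational_of_single p hmem hfix (single_of_pow (by rw [conj_pow, hxp, mul_one, mul_inv_cancel])
        (fun e => hx1 (conj_eq_one_iff.1 e)) hfix)
      refine Finset.mem_map.2 ⟨w, Finset.mem_univ _, ?_⟩
      show σ⁻¹ • mapP F1.subtype w = y
      rw [hw, inv_smul_smul]
    have hout : ∀ y ∈ S, ∃ x ∈ X, x ^ p = 1 ∧ x ≠ 1 ∧ x • y = y := by
      intro y hy
      obtain ⟨w, -, rfl⟩ := Finset.mem_map.1 hy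
      obtain ⟨g, hg, hgw⟩ := psl_transitive (ip : P2 F1) w
      set x1 : G2 F1 := g * tr 1 * g⁻¹ with hx1def
      have hx1psl : x1 ∈ psl F1 := mul_mem (mul_mem hg (tr_mem_psl _)) (inv_mem hg)
      have hx1X := mem_conjG.1 (hge ⟨x1, hx1psl, rfl⟩)
      refine ⟨σ⁻¹ * mapG F1.subtype x1 * σ, hx1X, ?_, ?_, ?_⟩
      · rw [show σ⁻¹ * mapG F1.subtype x1 * σ = σ⁻¹ * mapG F1.subtype x1 * σ⁻¹⁻¹ by rw [inv_inv], conj_pow, ← map_pow,
          hx1def, conj_pow, tr_pow, CharP.cast_eq_zero, zero_mul, tr_zero, mul_one, mul_inv_cancel, map_one, mul_one,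
          mul_inv_cancel]
      · intro e
        rw [show σ⁻¹ * mapG F1.subtype x1 * σ = σ⁻¹ * mapG F1.subtype x1 * σ⁻¹⁻¹ by rw [inv_inv], conj_eq_one_iff,
          map_eq_one_iff _ (mapG_injective _), hx1def, conj_eq_one_iff] at e
        exact one_ne_zero (tr_injective (e.trans tr_zero.symm))
      · show (σ⁻¹ * mapG F1.subtype x1 * σ) • (σ⁻¹ • mapP F1.subtype w) = σ⁻¹ • mapP F1.subtype w
        rw [mul_smul, mul_smul, smul_inv_smul, map_smul_pt, hx1def, mul_smul, mul_smul, ← hgw, inv_smul_smul, tr_ip]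
    have hcard : S.card % 4 = 2 := by
      rw [Finset.card_map, Finset.card_univ, ← Nat.card_eq_fintype_card, card_P2]
      obtain ⟨m, -, hm⟩ := card_eq_pow (F := F1) p
      rw [hm, Nat.add_mod, Nat.pow_mod, hp4, one_pow]
      rfl
    obtain ⟨y, hy, hy2⟩ : ∃ y ∈ S, di v • di v • y = y := by
      by_contra hcon
      push Not at hcon
      have h4 := four_dvd_card (fun y : P2 K => di v • y) S (fun y hy => by
          obtain ⟨x, hxX, hxp, hx1, hxy⟩ := hout y hy
          refine hin (di v * x * (di v)⁻¹) (mul_mem (mul_mem hγ hxX) (inv_mem hγ)) ?_ ?_ _ ?_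
          · rw [conj_pow, hxp, mul_one, mul_inv_cancel]
          · exact fun e => hx1 (conj_eq_one_iff.1 e)
          · rw [mul_smul, inv_smul_smul, mul_smul, hxy])
        (fun y _ => by simp only [← mul_smul, ← mul_assoc]; rw [mul_assoc (di v * di v), di_four p hv hp4, one_smul])
        hcon
      omega
    obtain ⟨x, hxX, hxp, hx1, hxy⟩ := hout y hy
    refine ⟨x, hxX, orderOf_eq_prime hxp hx1, ?_⟩
    rcases di_sq_fix p hv hp4 (y := y) (by rw [mul_smul, hy2]) with rfl | rfl
    · exact Or.inl hxy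
    · exact Or.inr hxy

end CfsgLib.Perm.Trans.PauliMax
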