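import Cfsg.Agent.Lib.Perm.Trans.PauliMax.Eigen
import Cfsg.Agent.Lib.Perm.Trans.PauliMax.Points
import Mathlib.NumberTheory.Cyclotomic.Gal
import Mathlib.FieldTheory.Finite.Basic

/-!
# No element of odd prime order is inverted by an involution of the Pauli group

The group of an element `w` of prime order `ℓ ≠ p` inverted by `u` is cut into pieces of dimension two by the
eigenvectors of `w`; Dickson's list then gives a `p`-group as in `eq_SL_of_pGroup`.
-/

set_option autoImplicit false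
set_option linter.all false

namespace CfsgLib.Perm.Trans.PauliMax

open scoped Matrix
open Matrix Cfsg.Geo CfsgLib.Perm.Asch CfsgLib.Perm.Dickson

section Extension

variable {ι : Type} [Fintype ι] [DecidableEq ι] {F : Type*} [Field F] {K : Type*} [Field K] (f : F →+* K)

/-- the matrix over the larger field -/
def mk' (g : GL ι F) : Matrix ι ι K := (g : Matrix ι ι F).map f

theorem mk'_one : mk' f (1 : GL ι F) = 1 := by
  rw [mk', Units.val_one, Matrix.map_one _ (map_zero f) (map_one f)]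

theorem mk'_mul (g h : GL ι F) : mk' f (g * h) = mk' f g * mk' f h := by
  rw [mk', Units.val_mul, Matrix.map_mul]; rfl

theorem mk'_mulVec (g h : GL ι F) (x : ι → K) : mk' f (g * h) *ᵥ x = mk' f g *ᵥ (mk' f h *ᵥ x) := by
  rw [mk'_mul, mulVec_mulVec]

theorem mk'_pow (g : GL ι F) (k : ℕ) : mk' f (g ^ k) = mk' f g ^ k := by
  induction k with
  | zero => rw [pow_zero, pow_zero, mk'_one]
  | succ k ih => rw [pow_succ, mk'_mul, ih, pow_succ]

theorem mk'_injective : Function.Injective (mk' (ι := ι) f) := fun g h e =>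
  Units.ext (Matrix.map_injective f.injective e)

variable [Finite F]

/-- the elements preserving a family of subspaces over the larger field -/
def stabFam {J : Type*} (V : J → Submodule K (ι → K)) : Subgroup (GL ι F) where
  carrier := {g | ∀ j, ∀ x ∈ V j, mk' f g *ᵥ x ∈ V j}
  one_mem' := fun j x hx => by rwa [mk'_one, one_mulVec]
  mul_mem' := fun {a b} ha hb j x hx => by rw [mk'_mulVec]; exact ha j _ (hb j x hx)
  inv_mem' := fun {a} ha => by
    haveI : Finite (Matrix ι ι F) := inferInstanceAs (Finite (ι → ι → F))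
    haveI : Finite (GL ι F) := Finite.of_injective _ Units.val_injective
    have hpow : ∀ k : ℕ, ∀ j, ∀ x ∈ V j, mk' f (a ^ k) *ᵥ x ∈ V j := by
      intro k
      induction k with
      | zero => intro j x hx; rwa [pow_zero, mk'_one, one_mulVec]
      | succ k ih => intro j x hx; rw [pow_succ, mk'_mulVec]; exact ih j _ (ha j x hx)
    have hinv : a⁻¹ = a ^ (orderOf a - 1) := inv_eq_of_mul_eq_one_right (by
      rw [← pow_succ', Nat.sub_add_cancel (orderOf_pos a), pow_orderOf_eq_one])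
    rw [hinv]
    exact hpow _

theorem mem_stabFam {J : Type*} {V : J → Submodule K (ι → K)} {g : GL ι F} :
    g ∈ stabFam f V ↔ ∀ j, ∀ x ∈ V j, mk' f g *ᵥ x ∈ V j := Iff.rfl

end Extension

variable {n : ℕ} {F : Type*} [Field F] [Fintype F] {R : Subgroup (GL (Fin n) F)} {i : F}
  {H : Subgroup (GL (Fin n) F)} {u w : GL (Fin n) F} {ℓ : ℕ}

/-- the case `ℓ ≠ p`, with the roots of unity given -/
theorem eq_SL_of_inverted_aux (hC : Ctx R i H) (hp4 : Fintype.card F % 4 = 1) (hu : Invo R u)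
    {K : Type*} [Field K] [Finite K] (f : F →+* K) {ω : K} (hω : IsPrimitiveRoot ω ℓ) (hℓ : ℓ.Prime) (hℓ2 : ℓ ≠ 2)
    (hℓK : (ℓ : K) ≠ 0) (hwH : w ∈ H) (hwℓ : w ^ ℓ = 1) (hw1 : w ≠ 1) (hinv : u * w * u = w⁻¹) :
    H = specialLinear (Fin n) F := by
  classical
  haveI : Fact (Fintype.card F).Prime := ⟨hC.prime⟩
  haveI := hC.charP
  set p := Fintype.card F with hpdef
  haveI : CharP K p := charP_of_injective_ringHom f.injective p
  haveI : Finite (Matrix (Fin n) (Fin n) F) := inferInstanceAs (Finite (Fin n → Fin n → F))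
  haveI : Finite (GL (Fin n) F) := Finite.of_injective _ Units.val_injective
  have h2K : (2 : K) ≠ 0 := fun h => hC.pauli.two (f.injective (by rw [map_ofNat, h, map_zero]))
  have hP := hC.pauli
  set G := hu.G hP with hGdef
  set W := mk' f w with hW
  set U := mk' f u with hU
  have hUU : U * U = 1 := by rw [hU, ← mk'_mul, hu.mul_self, mk'_one]
  have hUv : ∀ x, U *ᵥ (U *ᵥ x) = x := fun x => by rw [mulVec_mulVec, hUU, one_mulVec]
  have hWℓ : W ^ ℓ = 1 := by rw [hW, ← mk'_pow, hwℓ, mk'_one]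
  have hwu : W * U = U * mk' f w⁻¹ := by
    rw [hW, hU, ← mk'_mul, ← mk'_mul, ← hinv]
    congr 1
    rw [← mul_assoc, ← mul_assoc, hu.mul_self, one_mul]
  have hω0 : ω ≠ 0 := hω.ne_zero hℓ.ne_zero
  -- the projections
  let Pr : Fin ℓ → Matrix (Fin n) (Fin n) K := fun a => ∑ t ∈ Finset.range ℓ, ((ω ^ (a : ℕ))⁻¹ • W) ^ t
  let z : Fin ℓ × Fin n → (Fin n → K) := fun c => Pr c.1 *ᵥ Pi.single c.2 1
  have hWz : ∀ c : Fin ℓ × Fin n, W *ᵥ z c = ω ^ (c.1 : ℕ) • z c := by
    intro c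
    set θ := (ω ^ (c.1 : ℕ))⁻¹ with hθ
    have h1 : (θ • W - 1) * Pr c.1 = 0 := by
      show (θ • W - 1) * ∑ t ∈ Finset.range ℓ, (θ • W) ^ t = 0
      rw [mul_geom_sum, smul_pow, hWℓ, hθ, inv_pow, ← pow_mul, mul_comm, pow_mul, hω.pow_eq_one, one_pow, inv_one,
        one_smul, sub_self]
    have h2 := congrArg (· *ᵥ (Pi.single c.2 1 : Fin n → K)) h1
    simp only [← mulVec_mulVec, sub_mulVec, smul_mulVec, one_mulVec, zero_mulVec, sub_eq_zero] at h2
    change θ • (W *ᵥ z c) = z c at h2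
    conv_rhs => rw [← h2, smul_smul, hθ, mul_inv_cancel₀ (pow_ne_zero _ hω0), one_smul]
  have hWUz : ∀ c : Fin ℓ × Fin n, W *ᵥ (U *ᵥ z c) = (ω ^ (c.1 : ℕ))⁻¹ • (U *ᵥ z c) := by
    intro c
    rw [mulVec_mulVec, hwu, ← mulVec_mulVec]
    have h : mk' f w⁻¹ *ᵥ z c = (ω ^ (c.1 : ℕ))⁻¹ • z c := by
      have h2 : mk' f w⁻¹ *ᵥ (W *ᵥ z c) = z c := by rw [hW, ← mk'_mulVec, inv_mul_cancel, mk'_one, one_mulVec]
      rw [hWz, mulVec_smul] at h2
      conv_rhs => rw [← h2, smul_smul, inv_mul_cancel₀ (pow_ne_zero _ hω0), one_smul]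
    rw [h, mulVec_smul]
  have hkill : ∀ Y : Matrix (Fin n) (Fin n) K, (∀ c, Y *ᵥ z c = 0) → Y = 0 := by
    intro Y hY
    have h1 : ∀ a, Y * Pr a = 0 := fun a => Matrix.ext fun r j => by
      have := congrFun (hY (a, j)) r
      rw [mulVec_mulVec, Matrix.mulVec_single_one] at this
      exact this
    have hsum : ∑ a : Fin ℓ, Pr a = (ℓ : K) • 1 := by
      show ∑ a : Fin ℓ, ∑ t ∈ Finset.range ℓ, ((ω ^ (a : ℕ))⁻¹ • W) ^ t = _
      simp only [smul_pow]
      rw [Finset.sum_comm]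
      simp only [← Finset.sum_smul]
      rw [Finset.sum_eq_single 0]
      · simp
      · intro t ht ht0
        rw [Finset.mem_range] at ht
        have hs : ∑ a : Fin ℓ, ((ω ^ (a : ℕ))⁻¹) ^ t = 0 := by
          have hne : (ω ^ t)⁻¹ ≠ 1 := by
            rw [ne_eq, inv_eq_one]; exact hω.pow_ne_one_of_pos_of_lt ht0 ht
          have hcg := geom_sum_mul (ω ^ t)⁻¹ ℓ
          rw [show ((ω ^ t)⁻¹) ^ ℓ = 1 by
            rw [inv_pow, ← pow_mul, mul_comm, pow_mul, hω.pow_eq_one, one_pow, inv_one], sub_self] at hcg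
          rw [Fin.sum_univ_eq_sum_range (fun a => ((ω ^ a)⁻¹) ^ t)]
          refine Eq.trans (Finset.sum_congr rfl fun a _ => ?_) ((mul_eq_zero.1 hcg).resolve_right (sub_ne_zero.2 hne))
          rw [inv_pow, inv_pow, ← pow_mul, ← pow_mul, mul_comm]
        rw [hs, zero_smul]
      · intro h; exact absurd (Finset.mem_range.2 hℓ.pos) h
    have h2 : (ℓ : K) • Y = 0 := by
      rw [← mul_one ((ℓ : K) • Y), smul_mul_assoc, ← mul_smul_comm, ← hsum, Finset.mul_sum]
      exact Finset.sum_eq_zero fun a _ => h1 a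
    exact (smul_eq_zero.1 h2).resolve_left hℓK
  -- the two eigenvectors of `u` in each piece
  let e1 : Fin ℓ × Fin n → (Fin n → K) := fun c => z c - U *ᵥ z c
  let e2 : Fin ℓ × Fin n → (Fin n → K) := fun c => z c + U *ᵥ z c
  have hU1 : ∀ c, U *ᵥ e1 c = -e1 c := fun c => by
    simp only [e1, mulVec_sub, hUv, neg_sub]
  have hU2 : ∀ c, U *ᵥ e2 c = e2 c := fun c => by
    simp only [e2, mulVec_add, hUv, add_comm]
  have hzc : ∀ c, z c = (2 : K)⁻¹ • (e1 c + e2 c) := fun c => by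
    simp only [e1, e2, sub_add_add_cancel, ← two_smul K (z c), smul_smul, inv_mul_cancel₀ h2K, one_smul]
  have hGmat : mk' f G = sp U 1 (f i) := by
    rw [mk', hGdef, hu.G_val, hU, mk']
    exact Matrix.ext fun r s => by simp [sp, Matrix.one_apply, apply_ite f, map_div₀, map_ofNat]
  have hG1 : ∀ c, mk' f G *ᵥ e1 c = f i • e1 c := fun c => by
    rw [hGmat, sp, add_mulVec, smul_mulVec, smul_mulVec, one_mulVec, hU1]
    match_scalars <;> field_simp <;> ring
  have hG2 : ∀ c, mk' f G *ᵥ e2 c = e2 c := fun c => by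
    rw [hGmat, sp, add_mulVec, smul_mulVec, smul_mulVec, one_mulVec, hU2]
    match_scalars <;> field_simp <;> ring
  let good : Fin ℓ × Fin n → Prop := fun c => (c.1 : ℕ) ≠ 0 ∧ z c ≠ 0
  let L1 : Fin ℓ × Fin n → Submodule K (Fin n → K) := fun c => Submodule.span K {e1 c}
  let L2 : Fin ℓ × Fin n → Submodule K (Fin n → K) := fun c => Submodule.span K {e2 c}
  let L : Fin ℓ × Fin n → Submodule K (Fin n → K) := fun c => Submodule.span K {e1 c, e2 c}
  let fam : (Fin ℓ × Fin n) ⊕ ({c // ¬ good c} ⊕ {c // ¬ good c}) → Submodule K (Fin n → K) :=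
    Sum.elim L (Sum.elim (fun c => L1 c.1) (fun c => L2 c.1))
  let N0 : Subgroup (GL (Fin n) F) := H ⊓ stabFam f fam
  have hlmem : ∀ c x, x ∈ L c ↔ ∃ a b : K, a • e1 c + b • e2 c = x := fun c x => Submodule.mem_span_pair
  have hGN0 : G ∈ N0 := by
    refine ⟨hC.gate_mem u hu, fun j => ?_⟩
    rcases j with c | ⟨c, _⟩ | ⟨c, _⟩ <;> intro x hx
    · obtain ⟨a, b, rfl⟩ := (hlmem c x).1 hx
      rw [mulVec_add, mulVec_smul, mulVec_smul, hG1, hG2]
      exact (hlmem c _).2 ⟨a * f i, b, by rw [smul_smul]⟩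
    · obtain ⟨a, rfl⟩ := Submodule.mem_span_singleton.1 hx
      rw [mulVec_smul, hG1]
      exact Submodule.smul_mem _ _ (Submodule.smul_mem _ _ (Submodule.mem_span_singleton_self _))
    · obtain ⟨a, rfl⟩ := Submodule.mem_span_singleton.1 hx
      rw [mulVec_smul, hG2]
      exact Submodule.smul_mem _ _ (Submodule.mem_span_singleton_self _)
  have hWfix : ∀ c, ¬ good c → W *ᵥ e1 c = e1 c ∧ W *ᵥ e2 c = e2 c := by
    intro c hc
    simp only [good, not_and_or, not_not] at hc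
    rcases hc with hc | hc
    · simp only [e1, e2, mulVec_sub, mulVec_add, hWz, hWUz, hc, pow_zero, inv_one, one_smul, and_self]
    · simp only [e1, e2, hc, mulVec_zero, sub_zero, add_zero, and_self]
  have hwN0 : w ∈ N0 := by
    refine ⟨hwH, fun j => ?_⟩
    rcases j with c | ⟨c, hc⟩ | ⟨c, hc⟩ <;> intro x hx
    · obtain ⟨a, b, rfl⟩ := (hlmem c x).1 hx
      have hzL : z c ∈ L c := (hlmem c _).2 ⟨2⁻¹, 2⁻¹, by rw [← smul_add, ← hzc]⟩
      have hUzL : U *ᵥ z c ∈ L c := (hlmem c _).2 ⟨-2⁻¹, 2⁻¹, by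
        simp only [e1, e2]; match_scalars <;> field_simp <;> ring⟩
      show W *ᵥ _ ∈ L c
      simp only [e1, e2, mulVec_add, mulVec_smul, mulVec_sub, hWz, hWUz]
      exact Submodule.add_mem _ (Submodule.smul_mem _ _ (Submodule.sub_mem _ (Submodule.smul_mem _ _ hzL)
        (Submodule.smul_mem _ _ hUzL))) (Submodule.smul_mem _ _ (Submodule.add_mem _ (Submodule.smul_mem _ _ hzL)
        (Submodule.smul_mem _ _ hUzL)))
    · obtain ⟨a, rfl⟩ := Submodule.mem_span_singleton.1 hx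
      show W *ᵥ _ ∈ L1 c
      rw [mulVec_smul, (hWfix c hc).1]
      exact Submodule.smul_mem _ _ (Submodule.mem_span_singleton_self _)
    · obtain ⟨a, rfl⟩ := Submodule.mem_span_singleton.1 hx
      show W *ᵥ _ ∈ L2 c
      rw [mulVec_smul, (hWfix c hc).2]
      exact Submodule.smul_mem _ _ (Submodule.mem_span_singleton_self _)
  -- the action on a piece
  have hiu : IsUnit (f i) := (hP.i_ne_zero ∘ fun h => f.injective (h.trans (map_zero f).symm)) |> Ne.isUnit
  obtain ⟨v, hv⟩ := hiu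
  have hvv : (v : K) * v = -1 := by rw [hv, ← map_mul, hP.ii, map_neg, map_one]
  have hpiece : ∀ c, good c → ∃ π : N0 →* G2 K,
      π ⟨G, hGN0⟩ = di v ∧ π ⟨w, hwN0⟩ ≠ 1 ∧
      (∀ g : N0, π g • (ip : P2 K) = ip → mk' f g.1 *ᵥ e1 c ∈ L1 c) ∧
      (∀ g : N0, π g • fp (0 : K) = fp 0 → mk' f g.1 *ᵥ e2 c ∈ L2 c) := by
    intro c hc
    have hlam : ω ^ (c.1 : ℕ) ≠ 1 := hω.pow_ne_one_of_pos_of_lt hc.1 c.1.2
    have hlam' : ω ^ (c.1 : ℕ) ≠ (ω ^ (c.1 : ℕ))⁻¹ := by
      intro e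
      replace e := (congrArg (· * ω ^ (c.1 : ℕ)) e).trans (inv_mul_cancel₀ (pow_ne_zero _ hω0))
      rw [← pow_add, ← two_mul] at e
      rcases (Nat.Prime.dvd_mul hℓ).1 ((hω.pow_eq_one_iff_dvd _).1 e) with h | h
      · exact hℓ2 ((Nat.prime_dvd_prime_iff_eq hℓ Nat.prime_two).1 h)
      · exact hc.1 (Nat.eq_zero_of_dvd_of_lt h c.1.2)
    have hind : ∀ a b : K, a • z c + b • (U *ᵥ z c) = 0 → a = 0 ∧ b = 0 := by
      intro a b hab
      have h1 := congrArg (fun x => W *ᵥ x - (ω ^ (c.1 : ℕ))⁻¹ • x) hab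
      simp only [mulVec_add, mulVec_smul, hWz, hWUz, mulVec_zero, smul_zero, sub_zero] at h1
      have h2 : (a * (ω ^ (c.1 : ℕ) - (ω ^ (c.1 : ℕ))⁻¹)) • z c = 0 := by
        rw [← h1]; module
      have ha : a = 0 := (mul_eq_zero.1 ((smul_eq_zero.1 h2).resolve_right hc.2)).resolve_right (sub_ne_zero.2 hlam')
      refine ⟨ha, ?_⟩
      rw [ha, zero_smul, zero_add] at hab
      exact (smul_eq_zero.1 hab).resolve_right fun e => hc.2 (by rw [← hUv (z c), e, mulVec_zero])
    let E : (Fin 2 → K) →ₗ[K] (Fin n → K) :=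
      { toFun := fun x => x 0 • e1 c + x 1 • e2 c
        map_add' := fun x y => by simp only [Pi.add_apply]; module
        map_smul' := fun r x => by simp only [Pi.smul_apply, smul_eq_mul, RingHom.id_apply]; module }
    have hE : Function.Injective E := by
      rw [injective_iff_map_eq_zero]
      intro x hx
      have hx' : (x 0 + x 1) • z c + (x 1 - x 0) • (U *ᵥ z c) = 0 := by
        rw [← hx]; show _ = x 0 • (z c - U *ᵥ z c) + x 1 • (z c + U *ᵥ z c); module
      obtain ⟨h1, h2⟩ := hind _ _ hx'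
      have hx1 : x 1 = 0 := (mul_eq_zero.1 (show (2 : K) * x 1 = 0 by linear_combination h1 + h2)).resolve_left h2K
      have hx0 : x 0 = 0 := by linear_combination h1 - hx1
      funext k
      fin_cases k
      · exact hx0
      · exact hx1
    have hex : ∀ g : N0, ∃ A : Matrix (Fin 2) (Fin 2) K, ∀ x, mk' f g.1 *ᵥ E x = E (A *ᵥ x) := by
      intro g
      have h1 := g.2.2 (Sum.inl c) (e1 c) ((hlmem c _).2 ⟨1, 0, by rw [one_smul, zero_smul, add_zero]⟩)
      have h2 := g.2.2 (Sum.inl c) (e2 c) ((hlmem c _).2 ⟨0, 1, by rw [one_smul, zero_smul, zero_add]⟩)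
      obtain ⟨a1, b1, h1⟩ := (hlmem c _).1 h1
      obtain ⟨a2, b2, h2⟩ := (hlmem c _).1 h2
      refine ⟨!![a1, a2; b1, b2], fun x => ?_⟩
      show mk' f g.1 *ᵥ (x 0 • e1 c + x 1 • e2 c) = _
      rw [mulVec_add, mulVec_smul, mulVec_smul, ← h1, ← h2]
      show _ = (!![a1, a2; b1, b2] *ᵥ x) 0 • e1 c + (!![a1, a2; b1, b2] *ᵥ x) 1 • e2 c
      simp [Matrix.mulVec, dotProduct, Fin.sum_univ_two]
      module
    choose A hA using hex
    have huniq : ∀ {B B' : Matrix (Fin 2) (Fin 2) K}, (∀ x, E (B *ᵥ x) = E (B' *ᵥ x)) → B = B' := fun h =>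
      Matrix.ext_iff_mulVec.2 fun x => hE (h x)
    let Ah : N0 →* Matrix (Fin 2) (Fin 2) K :=
      { toFun := A
        map_one' := huniq fun x => by
          rw [← hA, Subgroup.coe_one, mk'_one, one_mulVec, one_mulVec]
        map_mul' := fun g h => huniq fun x => by
          rw [← hA, Subgroup.coe_mul, mk'_mulVec, hA, hA, mulVec_mulVec] }
    refine ⟨(Matrix.ProjGenLinGroup.mk).comp Ah.toHomUnits, ?_, ?_, fun g hg => ?_, fun g hg => ?_⟩
    · show ProjGenLinGroup.mk (Ah.toHomUnits ⟨G, hGN0⟩) = di v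
      rw [di]
      congr 1
      refine Units.ext (huniq fun x => ?_)
      show E (A ⟨G, hGN0⟩ *ᵥ x) = _
      rw [← hA]
      show mk' f G *ᵥ (x 0 • e1 c + x 1 • e2 c) = _
      rw [mulVec_add, mulVec_smul, mulVec_smul, hG1, hG2]
      simp [E, GeneralLinearGroup.mkOfDetNeZero, Matrix.mulVec, dotProduct, Fin.sum_univ_two, hv, smul_smul,
        mul_comm]
    · intro h
      obtain ⟨s, hs⟩ := ProjGenLinGroup.mk_eq_mk_iff.1 (h.trans ProjGenLinGroup.mk_one.symm)
      have h0 := hA ⟨w, hwN0⟩ ![1, 0]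
      have hA' : A ⟨w, hwN0⟩ = ((s⁻¹ : Kˣ) : K) • 1 := by
        have h6 := eq_mul_inv_of_mul_eq hs
        rw [one_mul, ← map_inv] at h6
        have h7 := congrArg Units.val h6
        rw [Matrix.GeneralLinearGroup.coe_scalar] at h7
        exact h7.trans (Matrix.smul_one_eq_diagonal _).symm
      rw [hA', smul_mulVec, one_mulVec, map_smul] at h0
      change W *ᵥ ((1 : K) • e1 c + (0 : K) • e2 c) = ((s⁻¹ : Kˣ) : K) • ((1 : K) • e1 c + (0 : K) • e2 c) at h0
      simp only [one_smul, zero_smul, add_zero, e1, mulVec_sub, hWz, hWUz] at h0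
      have h3 : (ω ^ (c.1 : ℕ) - ((s⁻¹ : Kˣ) : K)) • z c + (((s⁻¹ : Kˣ) : K) - (ω ^ (c.1 : ℕ))⁻¹) • (U *ᵥ z c) = 0 := by
        rw [← sub_eq_zero.2 h0]; module
      obtain ⟨h4, h5⟩ := hind _ _ h3
      exact hlam' ((sub_eq_zero.1 h4).trans (sub_eq_zero.1 h5))
    · change ProjGenLinGroup.mk (Ah.toHomUnits g) • (ip : P2 K) = ip at hg
      rw [ip, mk_smul, Projectivization.mk_eq_mk_iff'] at hg
      obtain ⟨a, ha⟩ := hg
      have h0 := hA g ![1, 0]
      have ha' : A g *ᵥ ![1, 0] = a • ![1, 0] := ha.symm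
      rw [ha', map_smul] at h0
      change mk' f g.1 *ᵥ ((1 : K) • e1 c + (0 : K) • e2 c) = a • ((1 : K) • e1 c + (0 : K) • e2 c) at h0
      simp only [one_smul, zero_smul, add_zero] at h0
      exact Submodule.mem_span_singleton.2 ⟨a, h0.symm⟩
    · change ProjGenLinGroup.mk (Ah.toHomUnits g) • fp (0 : K) = fp 0 at hg
      rw [fp, mk_smul, Projectivization.mk_eq_mk_iff'] at hg
      obtain ⟨a, ha⟩ := hg
      have h0 := hA g ![0, 1]
      have ha' : A g *ᵥ ![0, 1] = a • ![0, 1] := ha.symm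
      rw [ha', map_smul] at h0
      change mk' f g.1 *ᵥ ((0 : K) • e1 c + (1 : K) • e2 c) = a • ((0 : K) • e1 c + (1 : K) • e2 c) at h0
      simp only [one_smul, zero_smul, zero_add] at h0
      exact Submodule.mem_span_singleton.2 ⟨a, h0.symm⟩
  haveI : Finite N0 := inferInstance
  -- a good piece
  obtain ⟨c0, hc0⟩ : ∃ c, good c := by
    by_contra hcon
    push Not at hcon
    refine hw1 (mk'_injective f ?_)
    rw [mk'_one, ← hW, ← sub_eq_zero]
    refine hkill _ fun c => ?_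
    rw [sub_mulVec, one_mulVec, hzc, mulVec_smul, mulVec_add, (hWfix c (hcon c)).1, (hWfix c (hcon c)).2, sub_self]
  -- fix one line in every piece
  have hchain : ∀ S : Finset (Fin ℓ × Fin n), ∃ N : Subgroup N0, (⟨G, hGN0⟩ : N0) ∈ N ∧ p ∣ Nat.card N ∧
      ∀ c ∈ S, (∀ g ∈ N, mk' f g.1 *ᵥ e1 c ∈ L1 c) ∨ (∀ g ∈ N, mk' f g.1 *ᵥ e2 c ∈ L2 c) := by
    intro S
    induction S using Finset.induction_on with
    | empty =>
      obtain ⟨π, hπG, hπw, -, -⟩ := hpiece c0 hc0
      refine ⟨⊤, Subgroup.mem_top _, ?_, fun c hc => absurd hc (Finset.notMem_empty c)⟩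
      have hd := p_dvd_card (K := K) p (v := v) hvv hp4 (X := (⊤ : Subgroup N0).map π) ⟨_, trivial, hπG⟩
        ⟨⟨w, hwN0⟩, trivial, rfl⟩ hℓ hℓ2 (by rw [← map_pow]; exact (congrArg π (Subtype.ext hwℓ)).trans (map_one π))
        hπw (by
          rw [← hπG, ← map_mul, ← map_mul, ← map_mul, ← map_mul, ← map_one π]
          congr 1
          refine Subtype.ext ?_
          show G * G * w * (G * G) * w = 1
          rw [hu.G_sq, hinv, inv_mul_cancel])
      exact hd.trans (Subgroup.card_map_dvd _ π)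
    | insert c S hcS ih =>
      obtain ⟨N, hGN, hpN, hS⟩ := ih
      by_cases hgood : good c
      swap
      · refine ⟨N, hGN, hpN, fun d hd => ?_⟩
        rcases Finset.mem_insert.1 hd with rfl | hd
        · exact Or.inl fun g _ => g.2.2 (Sum.inr (Sum.inl ⟨d, hgood⟩)) _ (Submodule.mem_span_singleton_self _)
        · exact hS d hd
      obtain ⟨π, hπG, -, hπ1, hπ2⟩ := hpiece c hgood
      let X := N.map π
      have hγX : di v ∈ X := ⟨_, hGN, hπG⟩
      -- an element of order divisible by `p` fixing a line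
      obtain ⟨x, hxN, hxp, hxfix⟩ : ∃ x ∈ N, p ∣ orderOf x ∧
          (mk' f x.1 *ᵥ e1 c ∈ L1 c ∨ mk' f x.1 *ᵥ e2 c ∈ L2 c) := by
        by_cases hpX : p ∣ Nat.card X
        · obtain ⟨_, ⟨x, hxN, rfl⟩, hord, hfix⟩ := exists_fixing p hvv hp4 hγX hpX
          refine ⟨x, hxN, hord ▸ orderOf_map_dvd π x, ?_⟩
          rcases hfix with h | h
          · exact Or.inl (hπ1 x h)
          · exact Or.inr (hπ2 x h)
        · obtain ⟨x, hx⟩ := exists_prime_orderOf_dvd_card' p hpN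
          have hxo : orderOf (x : N0) = p := (Subgroup.orderOf_coe x).trans hx
          have hπx : π x = 1 := by
            rcases (Nat.dvd_prime hC.prime).1 (hxo ▸ orderOf_map_dvd π (x : N0)) with h | h
            · exact orderOf_eq_one_iff.1 h
            · refine absurd ?_ hpX
              rw [← hpdef] at h
              rw [← h]
              exact Subgroup.orderOf_dvd_natCard X ⟨x, x.2, rfl⟩
          exact ⟨x, x.2, hxo ▸ dvd_rfl, Or.inl (hπ1 x (by rw [hπx, one_smul]))⟩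
      have key : ∀ (e : Fin n → K) (r : K), mk' f G *ᵥ e = r • e →
          mk' f x.1 *ᵥ e ∈ Submodule.span K {e} →
          ∃ N' : Subgroup N0, (⟨G, hGN0⟩ : N0) ∈ N' ∧ p ∣ Nat.card N' ∧ N' ≤ N ∧
            ∀ g ∈ N', mk' f g.1 *ᵥ e ∈ Submodule.span K {e} := by
        intro e r hGe hxe
        have hmem : ∀ g : GL (Fin n) F, mk' f g *ᵥ e ∈ Submodule.span K {e} →
            g ∈ stabFam f (fun _ : Unit => Submodule.span K {e}) := fun g hg _ y hy => by
          obtain ⟨a, rfl⟩ := Submodule.mem_span_singleton.1 hy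
          rw [mulVec_smul]
          exact Submodule.smul_mem _ _ hg
        refine ⟨N ⊓ (stabFam f (fun _ : Unit => Submodule.span K {e})).subgroupOf N0, ⟨hGN, hmem G (by
          rw [hGe]; exact Submodule.smul_mem _ _ (Submodule.mem_span_singleton_self _))⟩, ?_, inf_le_left,
          fun g hg => hg.2 () e (Submodule.mem_span_singleton_self _)⟩
        exact hxp.trans (Subgroup.orderOf_dvd_natCard _ ⟨hxN, hmem _ hxe⟩)
      rcases hxfix with h | h
      · obtain ⟨N', h1, h2, h3, h4⟩ := key (e1 c) (f i) (hG1 c) h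
        refine ⟨N', h1, h2, fun d hd => ?_⟩
        rcases Finset.mem_insert.1 hd with rfl | hd
        · exact Or.inl h4
        · exact (hS d hd).imp (fun h g hg => h g (h3 hg)) (fun h g hg => h g (h3 hg))
      · obtain ⟨N', h1, h2, h3, h4⟩ := key (e2 c) 1 (by rw [hG2, one_smul]) h
        refine ⟨N', h1, h2, fun d hd => ?_⟩
        rcases Finset.mem_insert.1 hd with rfl | hd
        · exact Or.inr h4
        · exact (hS d hd).imp (fun h g hg => h g (h3 hg)) (fun h g hg => h g (h3 hg))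
  obtain ⟨N, -, hpN, hN⟩ := hchain Finset.univ
  obtain ⟨g0, hg0⟩ := exists_prime_orderOf_dvd_card' p hpN
  have hflag : ∀ c, ∃ d : (Fin n → K) × (Fin n → K) × K × K,
      (d.1 = e1 c ∧ d.2.1 = e2 c ∨ d.1 = e2 c ∧ d.2.1 = e1 c) ∧
      (mk' f G *ᵥ d.1 = d.2.2.1 • d.1 ∧ mk' f G *ᵥ d.2.1 = d.2.2.2 • d.2.1) ∧
      mk' f g0.1.1 *ᵥ d.1 ∈ Submodule.span K {d.1} := by
    intro c
    rcases hN c (Finset.mem_univ c) with h | h
    · exact ⟨(e1 c, e2 c, f i, 1), Or.inl ⟨rfl, rfl⟩, ⟨hG1 c, by rw [one_smul]; exact hG2 c⟩, h _ g0.2⟩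
    · exact ⟨(e2 c, e1 c, 1, f i), Or.inr ⟨rfl, rfl⟩, ⟨by rw [one_smul]; exact hG2 c, hG1 c⟩, h _ g0.2⟩
  choose d hd hdG hd0 using hflag
  let P : Subgroup (GL (Fin n) F) :=
    { carrier := {g | g ∈ H ∧ ∀ c, mk' f g *ᵥ (d c).1 = (d c).1 ∧
        mk' f g *ᵥ (d c).2.1 - (d c).2.1 ∈ Submodule.span K {(d c).1}}
      one_mem' := ⟨one_mem H, fun c => by
        rw [mk'_one, one_mulVec, one_mulVec, sub_self]; exact ⟨rfl, Submodule.zero_mem _⟩⟩
      mul_mem' := by
        rintro a b ⟨ha, ha'⟩ ⟨hb, hb'⟩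
        refine ⟨mul_mem ha hb, fun c => ⟨by rw [mk'_mulVec, (hb' c).1, (ha' c).1], ?_⟩⟩
        obtain ⟨t, ht⟩ := Submodule.mem_span_singleton.1 (hb' c).2
        rw [mk'_mulVec, eq_add_of_sub_eq ht.symm, mulVec_add, mulVec_smul, (ha' c).1, add_sub_assoc]
        exact Submodule.add_mem _ (Submodule.smul_mem _ _ (Submodule.mem_span_singleton_self _)) (ha' c).2
      inv_mem' := by
        rintro a ⟨ha, ha'⟩
        refine ⟨inv_mem ha, fun c => ?_⟩
        have h1 : mk' f a⁻¹ *ᵥ (d c).1 = (d c).1 := by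
          conv_lhs => rw [← (ha' c).1, ← mk'_mulVec, inv_mul_cancel, mk'_one, one_mulVec]
        refine ⟨h1, ?_⟩
        obtain ⟨t, ht⟩ := Submodule.mem_span_singleton.1 (ha' c).2
        have h2 := congrArg (fun x => mk' f a⁻¹ *ᵥ x) ht
        simp only [mulVec_smul, h1, mulVec_sub, ← mk'_mulVec, inv_mul_cancel, mk'_one, one_mulVec] at h2
        refine Submodule.mem_span_singleton.2 ⟨-t, ?_⟩
        rw [neg_smul, h2, neg_sub] }
  have hzd : ∀ (Y : Matrix (Fin n) (Fin n) K), (∀ c, Y *ᵥ (d c).1 = 0 ∧ Y *ᵥ (d c).2.1 = 0) → Y = 0 := by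
    intro Y hY
    refine hkill Y fun c => ?_
    obtain ⟨h1, h2⟩ := hY c
    rw [hzc, mulVec_smul, mulVec_add]
    rcases hd c with ⟨q1, q2⟩ | ⟨q1, q2⟩ <;> rw [q1] at h1 <;> rw [q2] at h2 <;> rw [h1, h2, add_zero, smul_zero]
  have hPp : IsPGroup p P := by
    intro g
    refine ⟨1, Subtype.ext (mk'_injective f ?_)⟩
    rw [pow_one, SubgroupClass.coe_pow, Subgroup.coe_one, mk'_one, mk'_pow]
    set Y := mk' f g.1 - 1 with hY
    have hYY : Y * Y = 0 := hzd _ fun c => by
      obtain ⟨t, ht⟩ := Submodule.mem_span_singleton.1 (g.2.2 c).2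
      have hY1 : Y *ᵥ (d c).1 = 0 := by rw [hY, sub_mulVec, one_mulVec, (g.2.2 c).1, sub_self]
      refine ⟨by rw [← mulVec_mulVec, hY1, mulVec_zero], ?_⟩
      rw [← mulVec_mulVec, hY, sub_mulVec _ _ (d c).2.1, one_mulVec, ← ht, mulVec_smul, ← hY, hY1, smul_zero]
    haveI : Nonempty (Fin n) := ⟨c0.2⟩
    haveI := CfsgLib.Perm.Asch.matrix_charP (ι := Fin n) (F := K) p
    rw [show mk' f g.1 = 1 + Y by rw [hY]; abel, add_pow_char_of_commute _ (Commute.one_left _), one_pow,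
      show p = 2 + (p - 2) by have := hC.prime.two_le; omega, pow_add, pow_two, hYY, zero_mul, add_zero]
  have hPG : ∀ g ∈ P, G * g * G⁻¹ ∈ P := by
    rintro g ⟨hgH, hg⟩
    refine ⟨mul_mem (mul_mem (hC.gate_mem u hu) hgH) (inv_mem (hC.gate_mem u hu)), fun c => ?_⟩
    obtain ⟨g1, g2⟩ := hdG c
    have hr : ∀ (e : Fin n → K) (r : K), mk' f G *ᵥ e = r • e → r • (mk' f G⁻¹ *ᵥ e) = e := fun e r h => by
      have h' := congrArg (fun x => mk' f G⁻¹ *ᵥ x) h
      simp only [← mk'_mulVec, inv_mul_cancel, mk'_one, one_mulVec, mulVec_smul] at h'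
      exact h'.symm
    have hinvd : ∀ (e : Fin n → K) (r : K), mk' f G *ᵥ e = r • e → e = 0 ∨ (r ≠ 0 ∧ mk' f G⁻¹ *ᵥ e = r⁻¹ • e) :=
      fun e r h => by
        rcases eq_or_ne r 0 with rfl | hr0
        · left
          have := hr e 0 h
          rw [zero_smul] at this
          exact this.symm
        · exact Or.inr ⟨hr0, by conv_rhs => rw [← hr e r h, smul_smul, inv_mul_cancel₀ hr0, one_smul]⟩
    obtain ⟨k1, k2⟩ := hg c
    refine ⟨?_, ?_⟩
    · rcases hinvd _ _ g1 with h | ⟨hr0, h⟩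
      · rw [h, mulVec_zero]
      · rw [mk'_mulVec, mk'_mulVec, h, mulVec_smul, k1, mulVec_smul, g1, smul_smul, inv_mul_cancel₀ hr0, one_smul]
    · rcases hinvd _ _ g2 with h | ⟨hr0, h⟩
      · rw [h, mulVec_zero, sub_zero]; exact Submodule.zero_mem _
      · obtain ⟨t, ht⟩ := Submodule.mem_span_singleton.1 k2
        rw [mk'_mulVec, mk'_mulVec, h, mulVec_smul, eq_add_of_sub_eq ht.symm, mulVec_smul, mulVec_add, mulVec_smul,
          g1, g2, smul_add, smul_smul _ (d c).2.2.2, inv_mul_cancel₀ hr0, one_smul, add_sub_cancel_right]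
        exact Submodule.smul_mem _ _ (Submodule.smul_mem _ _ (Submodule.smul_mem _ _
          (Submodule.mem_span_singleton_self _)))
  -- the element of order `p`
  have hg0p : g0.1.1 ^ p = 1 := by
    have h := pow_orderOf_eq_one g0
    rw [hg0] at h
    have h' := congrArg (fun x : N => x.1.1) h
    simpa using h'
  have hroot : ∀ r : K, r ^ p = 1 → r = 1 := fun r h => by
    have h2 : (r - 1) ^ p = 0 := by rw [sub_pow_char, h, one_pow, sub_self]
    exact sub_eq_zero.1 (eq_zero_of_pow_eq_zero h2)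
  have hg0P : g0.1.1 ∈ P := by
    refine ⟨g0.1.2.1, fun c => ?_⟩
    obtain ⟨r, hr⟩ := Submodule.mem_span_singleton.1 (hd0 c)
    have hpw : mk' f g0.1.1 ^ p = 1 := by rw [← mk'_pow, hg0p, mk'_one]
    have hiter : ∀ k : ℕ, mk' f g0.1.1 ^ k *ᵥ (d c).1 = r ^ k • (d c).1 := fun k => by
      induction k with
      | zero => rw [pow_zero, one_mulVec, pow_zero, one_smul]
      | succ k ih => rw [pow_succ, ← mulVec_mulVec, ← hr, mulVec_smul, ih, smul_smul, ← pow_succ']
    have h1 : mk' f g0.1.1 *ᵥ (d c).1 = (d c).1 := by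
      have h := hiter p
      rw [hpw, one_mulVec] at h
      rcases eq_or_ne ((d c).1) 0 with h0 | h0
      · rw [h0, mulVec_zero]
      · have : r ^ p = 1 := by
          have h2 : (r ^ p - 1) • (d c).1 = 0 := by rw [sub_smul, one_smul, ← h, sub_self]
          exact sub_eq_zero.1 ((smul_eq_zero.1 h2).resolve_right h0)
        rw [← hr, hroot r this, one_smul]
    refine ⟨h1, ?_⟩
    have hL : mk' f g0.1.1 *ᵥ (d c).2.1 ∈ Submodule.span K {(d c).1, (d c).2.1} := by
      rcases hd c with ⟨q1, q2⟩ | ⟨q1, q2⟩ <;> rw [q1, q2]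
      · exact g0.1.2.2 (Sum.inl c) _ (Submodule.subset_span (by simp))
      · rw [Set.pair_comm]
        exact g0.1.2.2 (Sum.inl c) _ (Submodule.subset_span (by simp))
    obtain ⟨t, μ, hμ⟩ := Submodule.mem_span_pair.1 hL
    have hiter2 : ∀ k : ℕ, mk' f g0.1.1 ^ k *ᵥ (d c).2.1 - μ ^ k • (d c).2.1 ∈ Submodule.span K {(d c).1} := fun k => by
      induction k with
      | zero => rw [pow_zero, one_mulVec, pow_zero, one_smul, sub_self]; exact Submodule.zero_mem _
      | succ k ih =>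
        obtain ⟨s, hs⟩ := Submodule.mem_span_singleton.1 ih
        rw [pow_succ', ← mulVec_mulVec, eq_add_of_sub_eq hs.symm, mulVec_add, mulVec_smul, mulVec_smul, h1, ← hμ,
          smul_add, smul_smul, smul_smul, ← pow_succ]
        refine Submodule.mem_span_singleton.2 ⟨s + μ ^ k * t, ?_⟩
        rw [add_smul]; abel
    by_cases hdep : (d c).2.1 ∈ Submodule.span K {(d c).1}
    · obtain ⟨s, hs⟩ := Submodule.mem_span_singleton.1 hdep
      rw [← hs, mulVec_smul, h1, sub_self]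
      exact Submodule.zero_mem _
    · have h := hiter2 p
      rw [hpw, one_mulVec, show (d c).2.1 - μ ^ p • (d c).2.1 = (1 - μ ^ p) • (d c).2.1 by rw [sub_smul, one_smul]] at h
      have hμp : μ ^ p = 1 := by
        by_contra hne
        refine hdep ?_
        have := Submodule.smul_mem _ (1 - μ ^ p)⁻¹ h
        rwa [smul_smul, inv_mul_cancel₀ (sub_ne_zero.2 (Ne.symm hne)), one_smul] at this
      rw [← hμ, hroot μ hμp, one_smul, add_sub_cancel_right]
      exact Submodule.smul_mem _ _ (Submodule.mem_span_singleton_self _)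
  refine eq_SL_of_pGroup hC hu P (fun g hg => hg.1) hPp hPG ⟨g0.1.1, hg0P, fun hcomm => ?_⟩
  -- an element commuting with `u` would be trivial
  have hone : mk' f g0.1.1 = 1 := by
    rw [← sub_eq_zero]
    refine hzd _ fun c => ?_
    obtain ⟨k1, k2⟩ := hg0P.2 c
    refine ⟨by rw [sub_mulVec, one_mulVec, k1, sub_self], ?_⟩
    obtain ⟨t, ht⟩ := Submodule.mem_span_singleton.1 k2
    rw [sub_mulVec, one_mulVec, ← ht]
    have hc : ∀ x, U *ᵥ (mk' f g0.1.1 *ᵥ x) = mk' f g0.1.1 *ᵥ (U *ᵥ x) := fun x => by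
      rw [hU, ← mk'_mulVec, ← mk'_mulVec, hcomm]
    have h := congrArg (fun x => U *ᵥ x) ht
    simp only [mulVec_smul, mulVec_sub, hc] at h
    have key : t • (d c).1 = -(t • (d c).1) := by
      rcases hd c with ⟨q1, q2⟩ | ⟨q1, q2⟩
      · rw [q1, q2, hU1, hU2] at h
        rw [q1, q2] at ht
        rw [q1]
        rw [← ht, smul_neg] at h
        exact h.symm
      · rw [q1, q2, hU2, hU1, mulVec_neg, neg_sub_neg] at h
        rw [q1, q2] at ht
        rw [q1]
        conv_lhs => rw [h]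
        rw [ht, neg_sub]
    rw [eq_neg_iff_add_eq_zero, ← two_smul K, smul_eq_zero] at key
    exact key.resolve_left h2K
  have hg01 : g0.1.1 = 1 := mk'_injective f (hone.trans (mk'_one f).symm)
  have : orderOf g0 = 1 := orderOf_eq_one_iff.2 (Subtype.ext (Subtype.ext hg01))
  rw [this] at hg0
  exact hC.prime.ne_one hg0.symm

/-- no element of prime order other than `2, p` is inverted by `u` -/
theorem eq_SL_of_inverted (hC : Ctx R i H) (hp4 : Fintype.card F % 4 = 1) (hu : Invo R u)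
    (hℓ : ℓ.Prime) (hℓ2 : ℓ ≠ 2) (hℓp : ℓ ≠ Fintype.card F) (hwH : w ∈ H) (hwℓ : w ^ ℓ = 1) (hw1 : w ≠ 1)
    (hinv : u * w * u = w⁻¹) : H = specialLinear (Fin n) F := by
  haveI := hC.charP
  haveI : NeZero ℓ := ⟨hℓ.ne_zero⟩
  haveI : NeZero ((ℓ : ℕ) : F) := ⟨fun h =>
    hℓp ((Nat.prime_dvd_prime_iff_eq hC.prime hℓ).1 ((CharP.cast_eq_zero_iff F (Fintype.card F) ℓ).1 h)).symm⟩
  haveI : Module.Finite F (CyclotomicField ℓ F) := IsCyclotomicExtension.finite {ℓ} F _
  haveI : Finite (CyclotomicField ℓ F) := Module.finite_of_finite F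
  have hζ := IsCyclotomicExtension.zeta_spec ℓ F (CyclotomicField ℓ F)
  refine eq_SL_of_inverted_aux hC hp4 hu (algebraMap F (CyclotomicField ℓ F)) hζ hℓ hℓ2 ?_ hwH hwℓ hw1 hinv
  intro h
  exact (NeZero.ne ((ℓ : ℕ) : F)) ((algebraMap F (CyclotomicField ℓ F)).injective (by rw [map_natCast, h, map_zero]))

end CfsgLib.Perm.Trans.PauliMax
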