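import Cfsg.Agent.Lib.Perm.Trans.PauliMax.Gates
import Cfsg.Agent.Lib.Perm.Trans.SL
import Mathlib.Algebra.Field.ZMod

/-!
# An element between the two eigenspaces of an involution generates the special linear group
-/

set_option autoImplicit false
set_option linter.all false

namespace CfsgLib.Perm.Trans.PauliMax

open scoped Matrix
open Matrix Cfsg.Geo CfsgLib.Perm.Asch CfsgLib.Perm.Trans

variable {n : ℕ} {F : Type*} [Field F] [Fintype F]

/-- the situation: a group containing the Pauli group and all gates -/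
structure Ctx (R : Subgroup (GL (Fin n) F)) (i : F) (H : Subgroup (GL (Fin n) F)) : Prop where
  pauli : Pauli R i
  le_SL : H ≤ specialLinear (Fin n) F
  R_le : R ≤ H
  gate_mem : ∀ (u : GL (Fin n) F) (h : Invo R u), h.G pauli ∈ H
  prime : (Fintype.card F).Prime

variable {R : Subgroup (GL (Fin n) F)} {i : F} {H : Subgroup (GL (Fin n) F)}

theorem Ctx.natCast_surj (hC : Ctx R i H) (x : F) : ∃ k : ℕ, x = (k : F) := by
  haveI : Fact (Fintype.card F).Prime := ⟨hC.prime⟩
  let e := ZMod.ringEquivOfPrime F hC.prime rfl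
  refine ⟨(e.symm x).val, ?_⟩
  conv_lhs => rw [← e.apply_symm_apply x, ← ZMod.natCast_zmod_val (e.symm x), map_natCast]

variable {u : GL (Fin n) F}

/-- the maps `V₋ → V₊` whose unipotent lies in the group -/
def upperSet (hC : Ctx R i H) (hu : Invo R u) : Submodule F (Matrix (Fin n) (Fin n) F) where
  carrier := {A | (u : Matrix (Fin n) (Fin n) F) * A = A ∧ A * (u : Matrix (Fin n) (Fin n) F) = -A ∧
    ∃ g ∈ H, (g : Matrix (Fin n) (Fin n) F) = 1 + A}
  zero_mem' := ⟨mul_zero _, by rw [zero_mul, neg_zero], 1, one_mem H, by rw [Units.val_one, add_zero]⟩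
  add_mem' := by
    rintro A A' ⟨a1, a2, g, hg, e⟩ ⟨b1, b2, g', hg', e'⟩
    refine ⟨by rw [mul_add, a1, b1], by rw [add_mul, a2, b2, neg_add], g * g', mul_mem hg hg', ?_⟩
    have h0 : A * A' = 0 := by
      have h : A * A' = -(A * A') := by
        calc A * A' = A * ((u : Matrix (Fin n) (Fin n) F) * A') := by rw [b1]
          _ = -(A * A') := by rw [← mul_assoc, a2, neg_mul]
      rw [eq_neg_iff_add_eq_zero, ← two_smul F, smul_eq_zero] at h
      exact h.resolve_left hC.pauli.two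
    rw [Units.val_mul, e, e', mul_add, add_mul, add_mul, one_mul, one_mul, mul_one, h0]
    abel
  smul_mem' := by
    rintro c A hA
    obtain ⟨k, rfl⟩ := hC.natCast_surj c
    induction k with
    | zero =>
      rw [Nat.cast_zero, zero_smul]
      exact ⟨mul_zero _, by rw [zero_mul, neg_zero], 1, one_mem H, by rw [Units.val_one, add_zero]⟩
    | succ k ih =>
      rw [Nat.cast_succ, add_smul, one_smul]
      obtain ⟨a1, a2, g, hg, e⟩ := ih
      obtain ⟨b1, b2, g', hg', e'⟩ := hA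
      refine ⟨by rw [mul_add, a1, b1], by rw [add_mul, a2, b2, neg_add], g * g', mul_mem hg hg', ?_⟩
      have h0 : ((k : F) • A) * A = 0 := by
        have h : ((k : F) • A) * A = -(((k : F) • A) * A) := by
          calc ((k : F) • A) * A = ((k : F) • A) * ((u : Matrix (Fin n) (Fin n) F) * A) := by rw [b1]
            _ = -(((k : F) • A) * A) := by rw [← mul_assoc, a2, neg_mul]
        rw [eq_neg_iff_add_eq_zero, ← two_smul F, smul_eq_zero] at h
        exact h.resolve_left hC.pauli.two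
      rw [Units.val_mul, e, e', mul_add, add_mul, add_mul, one_mul, one_mul, mul_one, h0]
      abel

variable {hC : Ctx R i H} {hu : Invo R u}

theorem upperSet_conj {A : Matrix (Fin n) (Fin n) F} (hA : A ∈ upperSet hC hu) {e : GL (Fin n) F} (he : e ∈ H)
    (hc : (e : Matrix (Fin n) (Fin n) F) * u = (u : Matrix (Fin n) (Fin n) F) * e) :
    (e : Matrix (Fin n) (Fin n) F) * A * ((e⁻¹ : GL (Fin n) F) : Matrix (Fin n) (Fin n) F) ∈ upperSet hC hu := by
  obtain ⟨a1, a2, g, hg, eg⟩ := hA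
  have hc' : ((e⁻¹ : GL (Fin n) F) : Matrix (Fin n) (Fin n) F) * u =
      (u : Matrix (Fin n) (Fin n) F) * ((e⁻¹ : GL (Fin n) F) : Matrix (Fin n) (Fin n) F) := by
    have h : e * u = u * e := Units.ext (by rw [Units.val_mul, Units.val_mul, hc])
    rw [← Units.val_mul, ← Units.val_mul, (show Commute e u from h).inv_left.eq]
  refine ⟨?_, ?_, e * g * e⁻¹, mul_mem (mul_mem he hg) (inv_mem he), ?_⟩
  · rw [← mul_assoc, ← mul_assoc, ← hc, mul_assoc (e : Matrix (Fin n) (Fin n) F), a1]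
  · rw [mul_assoc, hc', ← mul_assoc, mul_assoc (e : Matrix (Fin n) (Fin n) F), a2, mul_neg, neg_mul]
  · rw [Units.val_mul, Units.val_mul, eg, mul_add, mul_one, add_mul, Units.mul_inv]

/-- closure under the involutions commuting with `u` -/
theorem upperSet_mul {A : Matrix (Fin n) (Fin n) F} (hA : A ∈ upperSet hC hu) {r : GL (Fin n) F} (hr : r ∈ R)
    (hru : (r : Matrix (Fin n) (Fin n) F) * u = (u : Matrix (Fin n) (Fin n) F) * r) :
    (r : Matrix (Fin n) (Fin n) F) * A ∈ upperSet hC hu ∧ A * (r : Matrix (Fin n) (Fin n) F) ∈ upperSet hC hu := by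
  have hA' := hA
  obtain ⟨a1, a2, -⟩ := hA'
  have hP := hC.pauli
  by_cases hs : ∃ c : F, (r : Matrix (Fin n) (Fin n) F) = c • 1
  · obtain ⟨c, hc⟩ := hs
    rw [hc, smul_mul_assoc, one_mul, mul_smul_comm, mul_one]
    exact ⟨Submodule.smul_mem _ _ hA, Submodule.smul_mem _ _ hA⟩
  obtain ⟨v, c, hv, hc0, hrv⟩ := hP.exists_invo hr hs
  have hvu : (v : Matrix (Fin n) (Fin n) F) * u = (u : Matrix (Fin n) (Fin n) F) * v := by
    rw [hrv, smul_mul_assoc, mul_smul_comm] at hru
    exact smul_right_injective _ hc0 hru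
  suffices h : (v : Matrix (Fin n) (Fin n) F) * A ∈ upperSet hC hu ∧ A * (v : Matrix (Fin n) (Fin n) F) ∈ upperSet hC hu by
    rw [hrv, smul_mul_assoc, mul_smul_comm]
    exact ⟨Submodule.smul_mem _ _ h.1, Submodule.smul_mem _ _ h.2⟩
  set U := (u : Matrix (Fin n) (Fin n) F) with hU
  set V := (v : Matrix (Fin n) (Fin n) F) with hV
  have hVA : ∀ d : F, V = d • U → V * A ∈ upperSet hC hu ∧ A * V ∈ upperSet hC hu := fun d hd => by
    rw [hd, smul_mul_assoc, mul_smul_comm, a1, a2]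
    exact ⟨Submodule.smul_mem _ _ hA, Submodule.smul_mem _ _ (Submodule.neg_mem _ hA)⟩
  by_cases hns : ∃ d : F, ((v * u : GL (Fin n) F) : Matrix (Fin n) (Fin n) F) = d • 1
  · obtain ⟨d, hd⟩ := hns
    refine hVA d ?_
    have h1 := congrArg (· * U) hd
    rw [Units.val_mul, smul_mul_assoc, one_mul, mul_assoc, hu.sq, mul_one] at h1
    exact h1
  have hvu' : (v : GL (Fin n) F) * u = u * v := Units.ext (by rw [Units.val_mul, Units.val_mul]; exact hvu)
  have hw : Invo R (v * u) := ⟨mul_mem hv.mem hu.mem, by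
    rw [Units.val_mul, ← hV, ← hU, mul_assoc, ← mul_assoc U, ← hvu, mul_assoc, hu.sq, mul_one, hv.sq], hns⟩
  -- the element acting as `1` and as `-i v` on the two eigenspaces
  let e : GL (Fin n) F := hv.G hP * (hw.G hP)⁻¹
  have heH : e ∈ H := mul_mem (hC.gate_mem v hv) (inv_mem (hC.gate_mem _ hw))
  have hev : (e : Matrix (Fin n) (Fin n) F) = sp V 1 i * sp (V * U) 1 (-i) := by
    rw [Units.val_mul, hv.G_val, hw.G_inv_val, Units.val_mul]
  have hei : ((e⁻¹ : GL (Fin n) F) : Matrix (Fin n) (Fin n) F) = sp (V * U) 1 i * sp V 1 (-i) := by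
    show (((hv.G hP * (hw.G hP)⁻¹)⁻¹ : GL (Fin n) F) : Matrix (Fin n) (Fin n) F) = _
    rw [_root_.mul_inv_rev, inv_inv, Units.val_mul, hw.G_val, hv.G_inv_val, Units.val_mul]
  have hec : (e : Matrix (Fin n) (Fin n) F) * U = U * (e : Matrix (Fin n) (Fin n) F) := by
    have h1 : U * V = V * U := hvu.symm
    have h2 : U * (V * U) = (V * U) * U := by rw [← mul_assoc, h1]
    rw [hev, ← mul_assoc U, sp_comm h1, mul_assoc, ← sp_comm h2, ← mul_assoc]
  have h2' := hP.two
  -- on the fixed space the two gates cancel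
  have hfix : ∀ X : Matrix (Fin n) (Fin n) F, U * X = X → ∀ x y, sp (V * U) x y * X = sp V x y * X := fun X hX x y => by
    simp only [sp, add_mul, smul_mul_assoc, mul_assoc, hX, one_mul]
  have hfix' : ∀ X : Matrix (Fin n) (Fin n) F, X * U = X → ∀ x y, X * sp (V * U) x y = X * sp V x y := fun X hX x y => by
    rw [show V * U = U * V from hvu]
    simp only [sp, mul_add, mul_smul_comm, ← mul_assoc, hX]
  have hneg : ∀ X : Matrix (Fin n) (Fin n) F, U * X = -X → ∀ x y, sp (V * U) x y * X = sp V y x * X := fun X hX x y => by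
    simp only [sp, add_mul, smul_mul_assoc, mul_assoc, hX, one_mul, mul_neg]
    match_scalars <;> ring
  have hneg' : ∀ X : Matrix (Fin n) (Fin n) F, X * U = -X → ∀ x y, X * sp (V * U) x y = X * sp V y x := fun X hX x y => by
    rw [show V * U = U * V from hvu]
    simp only [sp, mul_add, mul_smul_comm, ← mul_assoc, hX, neg_mul, mul_one]
    match_scalars <;> ring
  have hUV : U * V = V * U := hvu.symm
  have hsV : ∀ x y, U * (sp V x y * A) = sp V x y * A := fun x y => by rw [← mul_assoc, sp_comm hUV, mul_assoc, a1]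
  have hiV : sp V (-i) i = (-i) • V := by
    conv_rhs => rw [← sp_one_neg_one (U := V) hP.two, sp_smul, mul_one, mul_neg_one, neg_neg]
  have hiV' : sp V i (-i) = i • V := by
    conv_rhs => rw [← sp_one_neg_one (U := V) hP.two, sp_smul, mul_one, mul_neg_one]
  have hAV : A * V ∈ upperSet hC hu := by
    have h := upperSet_conj hA heH hec
    have heA : (e : Matrix (Fin n) (Fin n) F) * A = A := by
      rw [hev, mul_assoc, hfix A a1, ← mul_assoc, sp_mul hv.sq h2', one_mul, mul_neg, hP.ii, neg_neg,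
        sp_one_one h2', one_mul]
    have hAe : A * ((e⁻¹ : GL (Fin n) F) : Matrix (Fin n) (Fin n) F) = i • (A * V) := by
      rw [hei, ← mul_assoc, hneg' A a2, mul_assoc, sp_mul hv.sq h2', mul_one, one_mul, hiV', mul_smul_comm]
    rw [heA, hAe] at h
    have := Submodule.smul_mem _ (-i) h
    rwa [smul_smul, neg_mul, hP.ii, neg_neg, one_smul] at this
  refine ⟨?_, hAV⟩
  -- the mirrored element
  let e' : GL (Fin n) F := e * sch (Fin n) F hP.iu * (hv.G hP * hv.G hP)
  have heH' : e' ∈ H := mul_mem (mul_mem heH (hC.R_le hP.iu_mem))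
    (mul_mem (hC.gate_mem v hv) (hC.gate_mem v hv))
  have hec' : (e' : Matrix (Fin n) (Fin n) F) * U = U * (e' : Matrix (Fin n) (Fin n) F) := by
    show ((e * sch (Fin n) F hP.iu * (hv.G hP * hv.G hP) : GL (Fin n) F) : Matrix (Fin n) (Fin n) F) * U =
      U * ((e * sch (Fin n) F hP.iu * (hv.G hP * hv.G hP) : GL (Fin n) F) : Matrix (Fin n) (Fin n) F)
    rw [hv.G_sq, Units.val_mul, Units.val_mul, sch_coe, mul_smul_comm, mul_one, smul_mul_assoc, smul_mul_assoc,
      mul_smul_comm, ← hV, mul_assoc, hvu, ← mul_assoc, hec, mul_assoc]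
  have h := upperSet_conj hA heH' hec'
  have heA' : (e' : Matrix (Fin n) (Fin n) F) * A = i • (V * A) := by
    show ((e * sch (Fin n) F hP.iu * (hv.G hP * hv.G hP) : GL (Fin n) F) : Matrix (Fin n) (Fin n) F) * A = _
    rw [hv.G_sq, Units.val_mul, Units.val_mul, sch_coe, mul_smul_comm, mul_one, smul_mul_assoc, smul_mul_assoc,
      ← hV, mul_assoc]
    have hVA1 : U * (V * A) = V * A := by rw [← mul_assoc, hUV, mul_assoc, a1]
    have : (e : Matrix (Fin n) (Fin n) F) * (V * A) = V * A := by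
      rw [hev, mul_assoc, hfix _ hVA1, ← mul_assoc, sp_mul hv.sq h2', one_mul, mul_neg, hP.ii, neg_neg,
        sp_one_one h2', one_mul]
    rw [this]; rfl
  have hAe' : A * ((e'⁻¹ : GL (Fin n) F) : Matrix (Fin n) (Fin n) F) = A := by
    have hval : ((e'⁻¹ : GL (Fin n) F) : Matrix (Fin n) (Fin n) F) = (-i) • (V * ((e⁻¹ : GL (Fin n) F) : Matrix (Fin n) (Fin n) F)) := by
      show (((e * sch (Fin n) F hP.iu * (hv.G hP * hv.G hP))⁻¹ : GL (Fin n) F) : Matrix (Fin n) (Fin n) F) = _
      rw [hv.G_sq, _root_.mul_inv_rev, _root_.mul_inv_rev, ← map_inv, hv.inv_eq, Units.val_mul, Units.val_mul, sch_coe,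
        smul_mul_assoc, one_mul, mul_smul_comm]
      congr 1
      rw [Units.val_inv_eq_inv_val]
      exact inv_eq_of_mul_eq_one_right (by simp [Pauli.iu, mul_neg, hP.ii])
    rw [hval, mul_smul_comm, ← mul_assoc]
    have hAV1 : A * V * U = -(A * V) := by rw [mul_assoc, ← hUV, ← mul_assoc, a2, neg_mul]
    rw [hei, ← mul_assoc, hneg' _ hAV1, mul_assoc, sp_mul hv.sq h2', mul_one, one_mul, hiV', mul_smul_comm,
      smul_smul, mul_assoc, hv.sq, mul_one, neg_mul, hP.ii, neg_neg, one_smul]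
  rw [heA', smul_mul_assoc, mul_assoc, hAe'] at h
  have := Submodule.smul_mem _ (-i) h
  rwa [smul_smul, neg_mul, hP.ii, neg_neg, one_smul] at this

theorem upperSet_mul_commutant {A : Matrix (Fin n) (Fin n) F} (hA : A ∈ upperSet hC hu)
    {X : Matrix (Fin n) (Fin n) F} (hX : X * u = (u : Matrix (Fin n) (Fin n) F) * X) :
    X * A ∈ upperSet hC hu ∧ A * X ∈ upperSet hC hu := by
  have h2 := hC.pauli.two
  set U := (u : Matrix (Fin n) (Fin n) F) with hU
  have key : ∀ Y ∈ Submodule.span F (matrixSet R),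
      (Y + U * Y * U) * A ∈ upperSet hC hu ∧ A * (Y + U * Y * U) ∈ upperSet hC hu := by
    intro Y hY
    induction hY using Submodule.span_induction with
    | mem y hy =>
      obtain ⟨r, hr, rfl⟩ := hy
      dsimp only
      rcases hC.pauli.sign r hr u hu.mem with hc | hc
      · rw [← hU] at hc
        rw [mul_assoc U, hc, ← mul_assoc, hu.sq, one_mul, ← two_smul F, smul_mul_assoc, mul_smul_comm]
        exact ⟨Submodule.smul_mem _ _ (upperSet_mul hA hr hc).1, Submodule.smul_mem _ _ (upperSet_mul hA hr hc).2⟩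
      · rw [← hU] at hc
        rw [mul_assoc U, hc, mul_neg, ← mul_assoc, hu.sq, one_mul, add_neg_cancel, zero_mul, mul_zero]
        exact ⟨Submodule.zero_mem _, Submodule.zero_mem _⟩
    | zero =>
      simp only [mul_zero, zero_mul, add_zero]
      exact ⟨Submodule.zero_mem _, Submodule.zero_mem _⟩
    | add y z _ _ hy hz =>
      rw [show y + z + U * (y + z) * U = (y + U * y * U) + (z + U * z * U) by
        rw [mul_add, add_mul]; abel, add_mul, mul_add]
      exact ⟨Submodule.add_mem _ hy.1 hz.1, Submodule.add_mem _ hy.2 hz.2⟩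
    | smul c y _ hy =>
      rw [mul_smul_comm, smul_mul_assoc, ← smul_add, smul_mul_assoc, mul_smul_comm]
      exact ⟨Submodule.smul_mem _ _ hy.1, Submodule.smul_mem _ _ hy.2⟩
  have h := key X (hC.pauli.span.symm ▸ Submodule.mem_top)
  rw [← hX, mul_assoc, hu.sq, mul_one, ← two_smul F, smul_mul_assoc, mul_smul_comm] at h
  exact ⟨(Submodule.smul_mem_iff _ h2).1 h.1, (Submodule.smul_mem_iff _ h2).1 h.2⟩

/-- the elementary transvections between the eigenspaces -/
theorem has_upper {B : Matrix (Fin n) (Fin n) F} (hB : B ∈ upperSet hC hu) (hB0 : B ≠ 0) {a ψ : Fin n → F}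
    (ha : (u : Matrix (Fin n) (Fin n) F) *ᵥ a = a) (hψ : ψ ᵥ* (u : Matrix (Fin n) (Fin n) F) = -ψ) :
    Has H a ψ := by
  set U := (u : Matrix (Fin n) (Fin n) F) with hU
  have h2 := hC.pauli.two
  obtain ⟨B1, B2, -⟩ := id hB
  rw [← hU] at B1 B2
  obtain ⟨y, hy⟩ : ∃ y, B *ᵥ y ≠ 0 := by
    by_contra hcon
    push Not at hcon
    exact hB0 (Matrix.ext_iff_mulVec.2 fun x => by rw [hcon, zero_mulVec])
  set b := B *ᵥ y with hb
  have hUb : U *ᵥ b = b := by rw [hb, mulVec_mulVec, B1]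
  obtain ⟨φ₀, hφ₀, -⟩ := exists_dual (⊥ : Submodule F (Fin n → F)) (x := b) (by simpa using hy)
  let φ : Fin n → F := (2 : F)⁻¹ • (φ₀ + φ₀ ᵥ* U)
  have hφb : φ ⬝ᵥ b = 1 := by
    simp only [φ, smul_dotProduct, add_dotProduct, ← dotProduct_mulVec, hUb, hφ₀, smul_eq_mul]
    field_simp; ring
  have hφU : φ ᵥ* U = φ := by
    simp only [φ, smul_vecMul, add_vecMul, vecMul_vecMul, hU, hu.sq, vecMul_one]
    rw [add_comm]
  let y1 : Fin n → F := (2 : F)⁻¹ • (y - U *ᵥ y)
  have hy1 : U *ᵥ y1 = -y1 := by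
    simp only [y1, mulVec_smul, mulVec_sub, mulVec_mulVec, hU, hu.sq, one_mulVec, ← smul_neg, neg_sub]
  have hBy1 : B *ᵥ y1 = b := by
    simp only [y1, mulVec_smul, mulVec_sub, mulVec_mulVec, B2, neg_mulVec, ← hb, sub_neg_eq_add]
    rw [← two_smul F, smul_smul, inv_mul_cancel₀ h2, one_smul]
  have hX : vecMulVec a φ * U = U * vecMulVec a φ := by
    rw [vecMulVec_mul, hφU, mul_vecMulVec, ha]
  have hY : vecMulVec y1 ψ * U = U * vecMulVec y1 ψ := by
    rw [vecMulVec_mul, hψ, mul_vecMulVec, hy1]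
    ext p q; simp [vecMulVec_apply]
  have h := (upperSet_mul_commutant (upperSet_mul_commutant hB hX).1 hY).2
  rw [mul_assoc, mul_vecMulVec, hBy1, vecMulVec_mul_vecMulVec, hφb, one_smul] at h
  obtain ⟨-, -, g, hg, eg⟩ := h
  have h0 : ψ ⬝ᵥ a = 0 := by
    have e : ψ ⬝ᵥ a = -(ψ ⬝ᵥ a) := by
      conv_lhs => rw [← ha, dotProduct_mulVec, hψ, neg_dotProduct]
    rw [eq_neg_iff_add_eq_zero, ← two_mul] at e
    exact (mul_eq_zero.1 e).resolve_left h2
  refine ⟨h0, ?_⟩
  rwa [show tv a ψ h0 = g from Units.ext (by rw [tv_coe, eg])]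

/-- a map between the two eigenspaces whose unipotent lies in the group gives everything -/
theorem eq_SL_of_root (hC : Ctx R i H) (hu : Invo R u) {x : GL (Fin n) F} (hx : x ∈ H)
    {B : Matrix (Fin n) (Fin n) F} (hxv : (x : Matrix (Fin n) (Fin n) F) = 1 + B) (hB : B ≠ 0)
    (h1 : (u : Matrix (Fin n) (Fin n) F) * B = B) (h2 : B * (u : Matrix (Fin n) (Fin n) F) = -B) :
    H = specialLinear (Fin n) F := by
  have hmem : B ∈ upperSet hC hu := ⟨h1, h2, x, hx, hxv⟩
  have hF2 := hC.pauli.two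
  set U := (u : Matrix (Fin n) (Fin n) F) with hU
  haveI : Nonempty (Fin n) := by
    by_contra hne
    rw [not_nonempty_iff] at hne
    exact hB (Matrix.ext fun a => (IsEmpty.false a).elim)
  obtain ⟨s, hs, hus⟩ := hu.exists_anti hC.pauli
  set S := (s : Matrix (Fin n) (Fin n) F) with hS
  have hSs : ∀ v, S *ᵥ (S *ᵥ v) = v := fun v => by rw [mulVec_mulVec, hS, hs.sq, one_mulVec]
  have hsS : ∀ v, (v ᵥ* S) ᵥ* S = v := fun v => by rw [vecMul_vecMul, hS, hs.sq, vecMul_one]
  have hSU : S * U = -(U * S) := by rw [hus, neg_neg]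
  have hUS : U * S = -(S * U) := hus
  have upper : ∀ a ψ : Fin n → F, U *ᵥ a = a → ψ ᵥ* U = -ψ → Has H a ψ := fun a ψ ha hψ => has_upper hmem hB ha hψ
  have lower : ∀ a ψ : Fin n → F, U *ᵥ a = -a → ψ ᵥ* U = ψ → Has H a ψ := by
    intro a ψ ha hψ
    have h := (upper (S *ᵥ a) (ψ ᵥ* S) (by
      rw [mulVec_mulVec, hUS, neg_mulVec, ← mulVec_mulVec, ha, mulVec_neg, neg_neg]) (by
      rw [vecMul_vecMul, hSU, vecMul_neg, ← vecMul_vecMul, hψ])).conj (hC.R_le hs.mem)
    rw [hs.inv_eq] at h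
    rwa [hSs, hsS] at h
  have hfull : ∀ (ε : F), (ε = 1 ∨ ε = -1) → ∀ a : Fin n → F, U *ᵥ a = ε • a → FullC H a := by
    intro ε hε a ha φ hφ
    have hεε : ε * ε = 1 := by rcases hε with rfl | rfl <;> ring
    have hε0 : ε ≠ 0 := fun h => by rw [h, zero_mul] at hεε; exact zero_ne_one hεε
    have cross : ∀ (η : F), η = ε ∨ η = -ε → ∀ b ψ : Fin n → F, U *ᵥ b = η • b → ψ ᵥ* U = (-η) • ψ → Has H b ψ := by
      intro η hη b ψ hb hψ
      have : η = 1 ∨ η = -1 := by
        rcases hη with rfl | rfl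
        · exact hε
        · rcases hε with h | h <;> rw [h] <;> simp
      rcases this with h | h <;> subst h
      · exact upper b ψ (by rw [hb, one_smul]) (by rw [hψ, neg_one_smul])
      · exact lower b ψ (by rw [hb, neg_one_smul]) (by rw [hψ, neg_neg, one_smul])
    let φs : Fin n → F := (2 : F)⁻¹ • (φ + ε • (φ ᵥ* U))
    let φo : Fin n → F := (2 : F)⁻¹ • (φ - ε • (φ ᵥ* U))
    have hφs : φs ᵥ* U = ε • φs := by
      simp only [φs, smul_vecMul, add_vecMul, vecMul_vecMul, hU, hu.sq, vecMul_one, smul_add, smul_smul]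
      match_scalars <;> (rcases hε with h | h <;> rw [h] <;> ring)
    have hφo : φo ᵥ* U = (-ε) • φo := by
      simp only [φo, smul_vecMul, sub_vecMul, vecMul_vecMul, hU, hu.sq, vecMul_one, smul_sub, smul_smul]
      match_scalars <;> (rcases hε with h | h <;> rw [h] <;> ring)
    have hsum : φ = φs + φo := by
      simp only [φs, φo, ← smul_add]
      rw [add_add_sub_cancel, ← two_smul F, smul_smul, inv_mul_cancel₀ hF2, one_smul]
    have hHo : Has H a φo := cross ε (Or.inl rfl) a φo ha hφo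
    have hs0 : φs ⬝ᵥ a = 0 := by
      have := hφ
      rwa [hsum, add_dotProduct, hHo.orth, add_zero] at this
    have hHs : Has H a φs := by
      -- a vector and a functional of the other space pairing to one
      rcases eq_or_ne a 0 with rfl | ha0
      · exact has_zero_left _
      obtain ⟨w, hw⟩ : ∃ w, w = S *ᵥ a := ⟨_, rfl⟩
      have hw0 : w ≠ 0 := fun e => ha0 (by rw [← hSs a, ← hw, e, mulVec_zero])
      have hUw : U *ᵥ w = (-ε) • w := by
        rw [hw, mulVec_mulVec, hUS, neg_mulVec, ← mulVec_mulVec, ha, mulVec_smul, neg_smul]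
      obtain ⟨χ₀, hχ₀, -⟩ := exists_dual (⊥ : Submodule F (Fin n → F)) (x := w) (by simpa using hw0)
      let χ : Fin n → F := (2 : F)⁻¹ • (χ₀ - ε • (χ₀ ᵥ* U))
      have hχU : χ ᵥ* U = (-ε) • χ := by
        simp only [χ, smul_vecMul, sub_vecMul, vecMul_vecMul, hU, hu.sq, vecMul_one, smul_sub, smul_smul]
        match_scalars <;> (rcases hε with h | h <;> rw [h] <;> ring)
      have hχw : χ ⬝ᵥ w = 1 := by
        simp only [χ, smul_dotProduct, sub_dotProduct, ← dotProduct_mulVec, hUw, dotProduct_smul, hχ₀, smul_eq_mul,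
          mul_one, mul_neg, hεε]
        field_simp; ring
      have hwφ : Has H w φs := cross (-ε) (Or.inr rfl) w φs hUw (by rw [neg_neg]; exact hφs)
      have := (cross ε (Or.inl rfl) a χ ha hχU).comm hwφ hs0
      rwa [hχw, one_smul] at this
    rw [hsum]
    exact hHs.add_right hHo
  refine eq_SL_of_fullSub hC.le_SL (Submodule.eq_top_iff'.2 fun v => ?_)
  have hv : v = (2 : F)⁻¹ • (v + U *ᵥ v) + (2 : F)⁻¹ • (v - U *ᵥ v) := by
    rw [← smul_add, add_add_sub_cancel, ← two_smul F, smul_smul, inv_mul_cancel₀ hF2, one_smul]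
  rw [hv]
  refine Submodule.add_mem _ (hfull 1 (Or.inl rfl) _ ?_) (hfull (-1) (Or.inr rfl) _ ?_)
  · rw [mulVec_smul, mulVec_add, mulVec_mulVec, hU, hu.sq, one_mulVec, one_smul, add_comm]
  · rw [mulVec_smul, mulVec_sub, mulVec_mulVec, hU, hu.sq, one_mulVec, neg_one_smul, ← smul_neg, neg_sub]

end CfsgLib.Perm.Trans.PauliMax
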